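import Mathlib
import Cfsg.Prelude.Def_ChevF4
import Cfsg.Agent.ChevalleyStructure.E6Min.Basic

/-!
# S5926: common definitions (helper952)

* `ev T μ` : dimension of the `μ`-eigenspace;
* `LK K` : the adjoint module of `chevF4.group K`;
* `yM r t` : the action of the root element `x_r(t)` of `F₄` on the 27-dimensional module `I27 → K`
  (`M₃(K)³`, cubic form `cubicT`), `IsJ ρ` : `ρ` is the action of `chevF4.group K` on it;
* `u0`, `tr1`, `tf`, `sh`, `cr` : unit, trace, trace form, adjoint, and its polarization.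
-/

set_option autoImplicit false

namespace Cfsg.Agent.H952.F4

open Cfsg.Lie Module
open Cfsg.Agent.ChevalleyStructure.E6Min.Tables Cfsg.Agent.ChevalleyStructure.E6Min.Basic

/-- The dimension of the eigenspace. -/
noncomputable def ev {K V : Type*} [Field K] [AddCommGroup V] [Module K V] (T : Module.End K V) (μ : K) : ℕ :=
  finrank K (T.eigenspace μ)

/-- The eigenspace. -/
def es {K V : Type*} [Field K] [AddCommGroup V] [Module K V] (T : V →ₗ[K] V) (μ : K) : Submodule K V :=
  Module.End.eigenspace T μ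

/-- The natural module of a group of matrices. -/
def matRep {K n : Type*} [Field K] [Fintype n] [DecidableEq n] (H : Subgroup (GL n K)) :
    Representation K ↥H (n → K) :=
  ((Matrix.toLinAlgEquiv' : Matrix n n K ≃ₐ[K] ((n → K) →ₗ[K] (n → K))) : Matrix n n K →* _).comp
    ((Units.coeHom (Matrix n n K)).comp H.subtype)

/-- The adjoint module of `F₄`. -/
def LK (K : Type*) [Field K] : Representation K ↥(chevF4.group K) (chevF4.Idx → K) := matRep (chevF4.group K)

/-- The root vector with index `r` of `F₄` as a combination of root vectors of `E₆` (index, sign). -/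
def dat : List (List (ℕ × ℤ)) :=
  [[(39, -1)], [(47, -1)], [(53, -1)], [(54, 1), (64, 1)], [(65, -1)], [(70, -1)], [(71, 1)], [(14, -1), (33, 1)],
   [(29, -1), (34, 1)], [(40, 1), (43, 1)], [(48, 1), (50, -1)], [(41, -1), (58, -1)], [(49, -1), (61, 1)],
   [(55, 1), (67, -1)], [(66, -1), (68, 1)], [(2, 1)], [(8, -1)], [(11, -1)], [(9, -1), (19, -1)],
   [(12, -1), (26, -1)], [(15, -1), (35, 1)], [(20, 1)], [(27, 1)], [(25, 1)], [(46, 1)], [(44, 1)], [(51, 1)],
   [(36, 1), (56, -1)], [(45, -1), (59, -1)], [(52, -1), (62, -1)], [(60, -1)], [(63, -1)], [(69, 1)],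
   [(3, 1), (5, -1)], [(4, -1), (16, 1)], [(10, 1), (22, -1)], [(13, -1), (30, -1)], [(21, -1), (23, 1)],
   [(28, 1), (31, 1)], [(37, 1), (42, -1)], [(38, 1), (57, -1)], [(0, 1)], [(1, -1)], [(6, -1)],
   [(7, 1), (17, 1)], [(18, -1)], [(24, -1)], [(32, -1)]]

/-- The weight of the coordinate with code `i < 27`: the index of a short root, or 48 for the zero weight
(codes 0, 4, 8). -/
def wtab : List ℕ := [48, 27, 40, 20, 48, 39, 7, 8, 48, 14, 37, 38, 13, 35, 36, 3, 18, 19, 33, 34, 44, 10, 12, 29, 9,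
  11, 28]

section Ring

variable {R : Type*} [CommRing R]

/-- The root vector of `F₄` as a 27 × 27 matrix. -/
def Bm (R : Type*) [CommRing R] (r : ℕ) : Matrix I27 I27 R :=
  ((dat.getD r []).map fun e => ((e.2 : ℤ) : R) • Nm R e.1).sum

/-- The root element `x_r(t)` of `F₄` as a 27 × 27 matrix. -/
def yM (r : ℕ) (t : R) : Matrix I27 I27 R :=
  ((dat.getD r []).map fun e => zM e.1 (((e.2 : ℤ) : R) * t)).prod

/-- The unit element `(I, 0, 0)`. -/
def u0 (R : Type*) [CommRing R] : I27 → R := fun x => if x.1 = 0 ∧ x.2.1 = x.2.2 then 1 else 0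

/-- The trace. -/
def tr1 (x : I27 → R) : R := (mat3 x 0).trace

/-- The trace form. -/
def tf (x y : I27 → R) : R :=
  (mat3 x 0 * mat3 y 0).trace + (mat3 x 1 * mat3 y 2).trace + (mat3 x 2 * mat3 y 1).trace

/-- The vector with given three matrices. -/
def ofM (a b c : Matrix (Fin 3) (Fin 3) R) : I27 → R := fun x =>
  if x.1 = 0 then a x.2.1 x.2.2 else if x.1 = 1 then b x.2.1 x.2.2 else c x.2.1 x.2.2

/-- The adjoint `x ↦ x^#`. -/
def sh (x : I27 → R) : I27 → R :=
  ofM ((mat3 x 0).adjugate - mat3 x 1 * mat3 x 2) ((mat3 x 2).adjugate - mat3 x 0 * mat3 x 1)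
    ((mat3 x 1).adjugate - mat3 x 2 * mat3 x 0)

/-- The polarization of the adjoint. -/
def cr (x y : I27 → R) : I27 → R := sh (x + y) - sh x - sh y

end Ring

/-- `ρ` is the action of `F₄` on the 27-dimensional module. -/
def IsJ {K : Type*} [Field K] (ρ : ↥(chevF4.group K) →* GL I27 K) : Prop :=
  ∀ (r : Fin chevF4.nroots) (t : K) (g : ↥(chevF4.group K)),
    ((g : GL chevF4.Idx K) : Matrix chevF4.Idx chevF4.Idx K) = chevF4.xMat K r t →
    ((ρ g : GL I27 K) : Matrix I27 I27 K) = yM r.val t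

/-- The 27-dimensional module as a representation. -/
noncomputable def JK {K : Type*} [Field K] (ρ : ↥(chevF4.group K) →* GL I27 K) :
    Representation K ↥(chevF4.group K) (I27 → K) :=
  ((Matrix.toLinAlgEquiv' : Matrix I27 I27 K ≃ₐ[K] ((I27 → K) →ₗ[K] (I27 → K))) : Matrix I27 I27 K →* _).comp
    ((Units.coeHom (Matrix I27 I27 K)).comp ρ)

end Cfsg.Agent.H952.F4
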