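import Mathlib
import Cfsg.Agent.H952.F4.Defs
import Cfsg.Agent.ChevalleyStructure.Elts

/-!
# S5926: common definitions, part 2 (helper952)

`GenT`, `Tr`, `Tab`, `Mod`, `Mod26`, `Pkg`, `MaxAlt`, the elements `v0, v1, v2, c3, z5` of `A₅`.
-/

set_option autoImplicit false

namespace Cfsg.Agent.H952.F4

open Cfsg Cfsg.Lie Module
open Cfsg.Agent.ChevalleyStructure Cfsg.Agent.ChevalleyStructure.Elts
open Cfsg.Agent.ChevalleyStructure.E6Min.Tables Cfsg.Agent.ChevalleyStructure.E6Min.Basic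

/-- `chevF4` is in the list of types -/
theorem hF4 : InList chevF4 := by simp [InList]

/-- elements `x, y` generating `A_n` with given cycle types of `x`, `y`, `xy` -/
def GenT (n : ℕ) (a b c : Multiset ℕ) : Prop := ∃ x y : ↥(alternatingGroup (Fin n)),
  Subgroup.closure {x, y} = ⊤ ∧ (x : Equiv.Perm (Fin n)).cycleType = a ∧ (y : Equiv.Perm (Fin n)).cycleType = b ∧
    ((x * y : ↥(alternatingGroup (Fin n))) : Equiv.Perm (Fin n)).cycleType = c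

/-- the traces of a representation depend only on the cycle type; `t a b c d e f g h` : the values on the classes
`1, 2², 3, 3², 42, 32², 5, 7`. -/
structure Tr {K V : Type*} [Field K] [AddCommGroup V] [Module K V]
    (ρ : Representation K ↥(alternatingGroup (Fin 7)) V) (t1 t2 t3 t33 t4 t6 t5 t7 : K) : Prop where
  one : LinearMap.trace K V (ρ 1) = t1
  two : ∀ g : ↥(alternatingGroup (Fin 7)), (g : Equiv.Perm (Fin 7)).cycleType = {2, 2} → LinearMap.trace K V (ρ g) = t2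
  three : ∀ g : ↥(alternatingGroup (Fin 7)), (g : Equiv.Perm (Fin 7)).cycleType = {3} → LinearMap.trace K V (ρ g) = t3
  threeb : ∀ g : ↥(alternatingGroup (Fin 7)), (g : Equiv.Perm (Fin 7)).cycleType = {3, 3} →
    LinearMap.trace K V (ρ g) = t33
  four : ∀ g : ↥(alternatingGroup (Fin 7)), (g : Equiv.Perm (Fin 7)).cycleType = {4, 2} →
    LinearMap.trace K V (ρ g) = t4
  six : ∀ g : ↥(alternatingGroup (Fin 7)), (g : Equiv.Perm (Fin 7)).cycleType = {3, 2, 2} →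
    LinearMap.trace K V (ρ g) = t6
  five : ∀ g : ↥(alternatingGroup (Fin 7)), (g : Equiv.Perm (Fin 7)).cycleType = {5} → LinearMap.trace K V (ρ g) = t5
  seven : ∀ g : ↥(alternatingGroup (Fin 7)), (g : Equiv.Perm (Fin 7)).cycleType = {7} →
    LinearMap.trace K V (ρ g) = t7

/-- The class table of the elements of order 2, 3, 4, 5, 7 (prime to `p`) on the modules `L` (52) and `J` (27). -/
structure Tab (p : ℕ) {k G VL VJ : Type*} [Field k] [Group G] [AddCommGroup VL] [Module k VL] [AddCommGroup VJ]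
    [Module k VJ] (L : Representation k G VL) (J : Representation k G VJ) : Prop where
  two : p ≠ 2 → ∀ x : G, x ≠ 1 → x * x = 1 →
    (ev (J x) 1 = 15 ∧ ev (L x) 1 = 24 ∧ LinearMap.trace k VJ (J x) = 3 ∧ LinearMap.trace k VL (L x) = -4) ∨
    (ev (J x) 1 = 11 ∧ ev (L x) 1 = 36 ∧ LinearMap.trace k VJ (J x) = -5 ∧ LinearMap.trace k VL (L x) = 20)
  three : p ≠ 3 → ∀ x : G, x ≠ 1 → x ^ 3 = 1 →
    (ev (J x) 1 = 15 ∧ ev (L x) 1 = 22 ∧ LinearMap.trace k VJ (J x) = 9 ∧ LinearMap.trace k VL (L x) = 7) ∨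
    (ev (J x) 1 = 9 ∧ ev (L x) 1 = 22 ∧ LinearMap.trace k VJ (J x) = 0 ∧ LinearMap.trace k VL (L x) = 7) ∨
    (ev (J x) 1 = 9 ∧ ev (L x) 1 = 16 ∧ LinearMap.trace k VJ (J x) = 0 ∧ LinearMap.trace k VL (L x) = -2)
  four : p ≠ 2 → ∀ x : G, x * x ≠ 1 → x ^ 4 = 1 →
    (ev (J (x * x)) 1 = 11 ∧ ev (L (x * x)) 1 = 36 ∧ ev (J x) 1 = 5 ∧ ev (L x) 1 = 18 ∧
      LinearMap.trace k VJ (J x) = -1 ∧ LinearMap.trace k VL (L x) = 0) ∨
    (ev (J (x * x)) 1 = 11 ∧ ev (L (x * x)) 1 = 36 ∧ ev (J x) 1 = 9 ∧ ev (L x) 1 = 22 ∧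
      LinearMap.trace k VJ (J x) = 7 ∧ LinearMap.trace k VL (L x) = 8) ∨
    (ev (J (x * x)) 1 = 15 ∧ ev (L (x * x)) 1 = 24 ∧ ev (J x) 1 = 7 ∧ ev (L x) 1 = 14 ∧
      LinearMap.trace k VJ (J x) = -1 ∧ LinearMap.trace k VL (L x) = 4) ∨
    (ev (J (x * x)) 1 = 15 ∧ ev (L (x * x)) 1 = 24 ∧ ev (J x) 1 = 9 ∧ ev (L x) 1 = 12 ∧
      LinearMap.trace k VJ (J x) = 3 ∧ LinearMap.trace k VL (L x) = 0) ∨
    (ev (J (x * x)) 1 = 15 ∧ ev (L (x * x)) 1 = 24 ∧ ev (J x) 1 = 15 ∧ ev (L x) 1 = 22 ∧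
      LinearMap.trace k VJ (J x) = 15 ∧ LinearMap.trace k VL (L x) = 20)
  four_i : p ≠ 2 → ∀ x : G, x ^ 4 = 1 → ∀ i : k, i * i = -1 → ev (J x) i = ev (J x) (-i)
  five : p ≠ 5 → ∀ x : G, x ≠ 1 → x ^ 5 = 1 →
    (ev (J x) 1 = 5 ∧ ev (L x) 1 = 12) ∨ (ev (J x) 1 = 7 ∧ ev (L x) 1 = 12) ∨ (ev (J x) 1 = 9 ∧ ev (L x) 1 = 12) ∨
    (ev (J x) 1 = 9 ∧ ev (L x) 1 = 22) ∨ (ev (J x) 1 = 15 ∧ ev (L x) 1 = 22)
  five_rat : p ≠ 5 → ∀ x : G, x ≠ 1 → x ^ 5 = 1 → (∃ g : G, g * x * g⁻¹ = x ^ 2) →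
    ev (J x) 1 = 7 ∧ ev (L x) 1 = 12 ∧ LinearMap.trace k VJ (J x) = 2 ∧ LinearMap.trace k VL (L x) = 2
  seven_rat : p ≠ 7 → ∀ x : G, x ≠ 1 → x ^ 7 = 1 → (∃ g : G, g * x * g⁻¹ = x ^ 2) →
    ev (L x) 1 = 10 ∧ LinearMap.trace k VL (L x) = 3 ∧
      ((ev (J x) 1 = 3 ∧ LinearMap.trace k VJ (J x) = -1) ∨ (ev (J x) 1 = 9 ∧ LinearMap.trace k VJ (J x) = 6))

/-- a module for Scott's lemma: dimension `d`, form, no invariants; the eigenspaces of elements prime to `p` are smaller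
than those of `J` by `s` -/
structure Mod (p d s : ℕ) {F G VJ V : Type*} [Field F] [Group G] [AddCommGroup VJ] [Module F VJ] [AddCommGroup V]
    [Module F V] (J : Representation F G VJ) (σ : Representation F G V) : Prop where
  fin : FiniteDimensional F V
  dim : finrank F V = d
  form : ∃ B : V →ₗ[F] V →ₗ[F] F, (∀ v, (∀ w, B v w = 0) → v = 0) ∧ (∀ g v w, B (σ g v) (σ g w) = B v w)
  inv : σ.invariants = ⊥
  ev_eq : ∀ g : G, (orderOf g).Coprime p → ev (J g) 1 = ev (σ g) 1 + s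

/-- a 26-dimensional module with alternating form without invariants -/
structure Mod26 {F G M : Type*} [Field F] [Group G] [AddCommGroup M] [Module F M] (ρ : Representation F G M) :
    Prop where
  fin : FiniteDimensional F M
  dim : finrank F M = 26
  form : ∃ B : M →ₗ[F] M →ₗ[F] F, (∀ v, B v v = 0) ∧ (∀ v, (∀ w, B v w = 0) → v = 0) ∧
    ∀ g v w, B (ρ g v) (ρ g w) = B v w
  inv : ρ.invariants = ⊥

/-- The two 26-dimensional modules in characteristic 2 and the dimensions of the fixed spaces. -/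
structure Pkg {F G M N : Type*} [Field F] [Group G] [AddCommGroup M] [Module F M] [AddCommGroup N] [Module F N]
    (ρ : Representation F G M) (σ : Representation F G N) : Prop where
  m : Mod26 ρ
  n : Mod26 σ
  three : ∀ x : G, x ≠ 1 → x ^ 3 = 1 → ev (ρ x) 1 = 8 ∨ ev (ρ x) 1 = 14
  five : ∀ x : G, x ≠ 1 → x ^ 5 = 1 → 8 ≤ ev (ρ x) 1 ∨ 8 ≤ ev (σ x) 1 ∨ (ev (ρ x) 1 = 6 ∧ ev (σ x) 1 = 6)
  five_rat : ∀ x : G, x ≠ 1 → x ^ 5 = 1 → (∃ g : G, g * x * g⁻¹ = x ^ 2) → ev (ρ x) 1 = 6 ∧ ev (σ x) 1 = 6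
  seven_rat : ∀ x : G, x ≠ 1 → x ^ 7 = 1 → (∃ g : G, g * x * g⁻¹ = x ^ 2) → ev (ρ x) 1 = 8 ∨ ev (σ x) 1 = 8

/-- `H` is a maximal subgroup whose generalized Fitting subgroup is the image of `φ`. -/
structure MaxAlt {G : Type*} [Group G] (H : Subgroup G) (n : ℕ) (φ : ↥(alternatingGroup (Fin n)) →* G) : Prop where
  coatom : IsCoatom H
  inj : Function.Injective φ
  le : φ.range ≤ H
  norm : ∀ h ∈ H, ∀ a ∈ φ.range, h * a * h⁻¹ ∈ φ.range
  sq : ∀ h ∈ H, h * h ∈ φ.range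
  min : ∀ B : Subgroup G, B ≤ H → (∀ h ∈ H, ∀ b ∈ B, h * b * h⁻¹ ∈ B) → B ≠ ⊥ → φ.range ≤ B
  card : Nat.card ↥H ≤ if n = 6 then 1440 else n.factorial
  five : n = 5 → H = φ.range ∨ ∀ a ∈ φ.range, a ≠ 1 → a ^ 5 = 1 → ∃ h ∈ H, h * a * h⁻¹ = a ^ 2

open Equiv in
def v0 : ↥(alternatingGroup (Fin 5)) := ⟨swap 0 1 * swap 2 3, by rw [Equiv.Perm.mem_alternatingGroup]; decide⟩
open Equiv in
def v1 : ↥(alternatingGroup (Fin 5)) := ⟨swap 0 2 * swap 1 3, by rw [Equiv.Perm.mem_alternatingGroup]; decide⟩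
open Equiv in
def v2 : ↥(alternatingGroup (Fin 5)) := ⟨swap 0 3 * swap 1 2, by rw [Equiv.Perm.mem_alternatingGroup]; decide⟩
open Equiv in
/-- `1 → 2 → 3 → 1` -/
def c3 : ↥(alternatingGroup (Fin 5)) := ⟨swap 1 2 * swap 2 3, by rw [Equiv.Perm.mem_alternatingGroup]; decide⟩
open Equiv in
/-- `0 → 1 → 2 → 4 → 3 → 0` -/
def z5 : ↥(alternatingGroup (Fin 5)) := ⟨swap 0 1 * swap 1 2 * swap 2 4 * swap 4 3, by rw [Equiv.Perm.mem_alternatingGroup]; decide⟩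


end Cfsg.Agent.H952.F4
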