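import Mathlib
import Cfsg.Agent.H952.F4.Defs
import Cfsg.Agent.H952.F4.Defs2
import Cfsg.Agent.ChevalleyStructure.E6Min.Forms
import Cfsg.Agent.ChevalleyStructure.E6Min.Inv
import Cfsg.Prelude.Def_ChevF4

/-!
# S5926, F-D4: the invariance of the unit, the cubic form, the trace form, the adjoint and its polarization
-/

set_option autoImplicit false
set_option maxHeartbeats 1000000

namespace Cfsg.Agent.H952.F4

open Cfsg Cfsg.Lie Module
open Cfsg.Agent.ChevalleyStructure Cfsg.Agent.ChevalleyStructure.Elts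
open Cfsg.Agent.ChevalleyStructure.E6Min.Tables Cfsg.Agent.ChevalleyStructure.E6Min.Basic
open scoped Matrix

universe u

namespace Inv

/-! ### the root elements -/

/-- the entry with code `j` of the unit -/
def uN (j : ℕ) : ℤ := if j = 0 ∨ j = 4 ∨ j = 8 then 1 else 0

/-- the linear and the quadratic coefficient of `x_r(t) u0 - u0` vanish -/
def chkN (r j : ℕ) : Bool :=
  match dat.getD r [] with
  | [(a, s)] => Nat.blt a 72 && (s * sgN a j * uN (srN a j) == 0)
  | [(a, s), (b, s')] => Nat.blt a 72 && Nat.blt b 72 &&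
      (s' * sgN b j * uN (srN b j) + s * sgN a j * uN (srN a j) == 0) &&
      (sgN a j * sgN b (srN a j) * uN (srN b (srN a j)) == 0)
  | _ => false

theorem chk_all : allLt 48 (fun r => allLt 27 fun j => chkN r j) = true := by decide +kernel

section Ring

variable {R : Type u} [CommRing R]

theorem u0_eq (x : I27) : u0 R x = ((uN (code x) : ℤ) : R) := by
  have h : ∀ x : I27, (if x.1 = 0 ∧ x.2.1 = x.2.2 then (1 : ℤ) else 0) = uN (code x) := by decide
  unfold u0
  rw [← h x]
  split_ifs <;> simp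

theorem chk_spec {r : ℕ} (hr : r < 48) (x : I27) : chkN r (code x) = true :=
  allLt_spec (allLt_spec chk_all r hr) _ (code_lt x)

/-- the root elements fix the unit -/
theorem yM_u0 {r : ℕ} (hr : r < 48) (t : R) : yM r t *ᵥ u0 R = u0 R := by
  ext x
  have h := chk_spec hr x
  unfold yM
  unfold chkN at h
  rcases hd : dat.getD r [] with _ | ⟨⟨a, s⟩, _ | ⟨⟨b, s'⟩, _ | ⟨c, l⟩⟩⟩
  · rw [hd] at h
    simp at h
  · rw [hd] at h
    simp only [Bool.and_eq_true, Nat.blt_eq, beq_iff_eq] at h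
    simp only [List.map_cons, List.map_nil, List.prod_cons, List.prod_nil, mul_one]
    rw [zM_mulVec, u0_eq, u0_eq, code_sr h.1]
    have h2 : ((s * sgN a (code x) * uN (srN a (code x)) : ℤ) : R) = 0 := by rw [h.2, Int.cast_zero]
    push_cast at h2
    unfold sg
    linear_combination t * h2
  · rw [hd] at h
    simp only [Bool.and_eq_true, Nat.blt_eq, beq_iff_eq] at h
    obtain ⟨⟨⟨ha, hb⟩, h1⟩, h2⟩ := h
    simp only [List.map_cons, List.map_nil, List.prod_cons, List.prod_nil, mul_one]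
    rw [← Matrix.mulVec_mulVec, zM_mulVec, zM_mulVec, zM_mulVec]
    simp only [u0_eq, code_sr hb, code_sr ha]
    have h1' : ((s' * sgN b (code x) * uN (srN b (code x)) + s * sgN a (code x) * uN (srN a (code x)) : ℤ) : R) = 0 := by
      rw [h1, Int.cast_zero]
    have h2' : ((sgN a (code x) * sgN b (srN a (code x)) * uN (srN b (srN a (code x))) : ℤ) : R) = 0 := by
      rw [h2, Int.cast_zero]
    push_cast at h1' h2'
    have e1 : sg b (sr a x) = sgN b (srN a (code x)) := sg_sr ha x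
    rw [e1]
    unfold sg
    linear_combination t * h1' + (s : R) * s' * t ^ 2 * h2'
  · rw [hd] at h
    simp at h

theorem dat_lt {r : ℕ} (hr : r < 48) : ∀ e ∈ dat.getD r [], e.1 < 72 := by
  have h := chk_spec hr (0, 0, 0)
  unfold chkN at h
  rcases hd : dat.getD r [] with _ | ⟨⟨a, s⟩, _ | ⟨⟨b, s'⟩, _ | ⟨c, l⟩⟩⟩
  · intro e he
    simp at he
  · rw [hd] at h
    simp only [Bool.and_eq_true, Nat.blt_eq, beq_iff_eq] at h
    simpa using h.1
  · rw [hd] at h
    simp only [Bool.and_eq_true, Nat.blt_eq, beq_iff_eq] at h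
    simpa using h.1.1
  · rw [hd] at h
    simp at h

/-- the root elements preserve the cubic form -/
theorem cubicT_yM {r : ℕ} (hr : r < 48) (t : R) (v : I27 → R) : cubicT (yM r t *ᵥ v) = cubicT v := by
  have key : ∀ l : List (ℕ × ℤ), (∀ e ∈ l, e.1 < 72) →
      ∀ v : I27 → R, cubicT ((l.map fun e => zM e.1 (((e.2 : ℤ) : R) * t)).prod *ᵥ v) = cubicT v := by
    intro l
    induction l with
    | nil => intro _ v; simp
    | cons e l ih =>
      intro hl v
      rw [List.map_cons, List.prod_cons, ← Matrix.mulVec_mulVec,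
        E6Min.Inv.cubicT_zM (hl e (List.mem_cons_self ..)), ih fun e' he' => hl e' (List.mem_cons_of_mem _ he')]
  exact key _ (dat_lt hr) v

/-! ### the forms -/

theorem mat3_add (x y : I27 → R) (k : Fin 3) : mat3 (x + y) k = mat3 x k + mat3 y k := rfl

theorem mat3_u0_zero : mat3 (u0 R) 0 = 1 := by
  ext i j
  rw [Matrix.one_apply]
  simp [mat3, u0]

theorem mat3_u0_one : mat3 (u0 R) 1 = 0 := by
  ext i j
  simp [mat3, u0]

theorem mat3_u0_two : mat3 (u0 R) 2 = 0 := by
  ext i j
  simp [mat3, u0]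

theorem det_polar (A B : Matrix (Fin 3) (Fin 3) R) :
    (A + B + 1).det - (A + B).det - (A + 1).det - (B + 1).det + A.det + B.det + 1 = A.trace * B.trace - (A * B).trace := by
  simp only [Matrix.det_fin_three, Matrix.trace, Matrix.diag, Fin.sum_univ_three, Matrix.mul_apply, Matrix.add_apply,
    Matrix.one_apply]
  simp
  ring

theorem det_add (A B : Matrix (Fin 3) (Fin 3) R) :
    (A + B).det = A.det + (A.adjugate * B).trace + (A * B.adjugate).trace + B.det := by
  simp only [Matrix.det_fin_three, Matrix.trace, Matrix.diag, Fin.sum_univ_three, Matrix.mul_apply, Matrix.add_apply,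
    Matrix.adjugate_fin_three, Matrix.of_apply, Matrix.cons_val', Matrix.cons_val_zero, Matrix.cons_val_one,
    Matrix.cons_val]
  ring

theorem T3_u0 (x y : I27 → R) : E6Min.Forms.T3 x y (u0 R) = tr1 x * tr1 y - tf x y := by
  rw [E6Min.Forms.T3_polar]
  unfold cubicT tr1 tf
  simp only [mat3_add, mat3_u0_zero, mat3_u0_one, mat3_u0_two, Matrix.det_one, add_zero]
  have h1 := det_polar (mat3 x 0) (mat3 y 0)
  have h2 : ((0 : Matrix (Fin 3) (Fin 3) R)).det = 0 := by simp
  simp only [h2, Matrix.trace_add, add_mul, mul_add, one_mul, mul_zero, Matrix.trace_zero]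
  have h3 : (mat3 y 1 * mat3 x 2).trace = (mat3 x 2 * mat3 y 1).trace := Matrix.trace_mul_comm _ _
  linear_combination h1 - h3

theorem T3_u0_u0 (x : I27 → R) : E6Min.Forms.T3 x (u0 R) (u0 R) = 2 * tr1 x := by
  rw [T3_u0]
  have h1 : tr1 (u0 R) = 3 := by
    unfold tr1
    rw [mat3_u0_zero, Matrix.trace_one]
    simp
  have h2 : tf x (u0 R) = tr1 x := by
    unfold tf tr1
    rw [mat3_u0_zero, mat3_u0_one, mat3_u0_two]
    simp
  rw [h1, h2]
  ring

omit [CommRing R] in
theorem mat3_ofM_zero (a b c : Matrix (Fin 3) (Fin 3) R) : mat3 (ofM a b c) 0 = a := by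
  ext i j
  simp [mat3, ofM]

omit [CommRing R] in
theorem mat3_ofM_one (a b c : Matrix (Fin 3) (Fin 3) R) : mat3 (ofM a b c) 1 = b := by
  ext i j
  simp [mat3, ofM]

omit [CommRing R] in
theorem mat3_ofM_two (a b c : Matrix (Fin 3) (Fin 3) R) : mat3 (ofM a b c) 2 = c := by
  ext i j
  have h1 : ¬ ((2 : Fin 3) = 1) := by decide
  simp [mat3, ofM, h1]

theorem tf_symm (x y : I27 → R) : tf x y = tf y x := by
  unfold tf
  rw [Matrix.trace_mul_comm (mat3 x 0), Matrix.trace_mul_comm (mat3 x 1), Matrix.trace_mul_comm (mat3 x 2)]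
  ring

theorem cubicT_add (x y : I27 → R) : cubicT (x + y) = cubicT x + tf (sh x) y + tf x (sh y) + cubicT y := by
  unfold cubicT tf sh
  simp only [mat3_add, mat3_ofM_zero, mat3_ofM_one, mat3_ofM_two]
  rw [det_add (mat3 x 0), det_add (mat3 x 1), det_add (mat3 x 2)]
  simp only [Matrix.trace_add, add_mul, mul_add, sub_mul, mul_sub, Matrix.trace_sub, Matrix.mul_assoc]
  generalize mat3 x 0 = A
  generalize mat3 x 1 = B
  generalize mat3 x 2 = C
  generalize mat3 y 0 = D
  generalize mat3 y 1 = E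
  generalize mat3 y 2 = G
  have e1 : (B * (C * D)).trace = (D * (B * C)).trace := by rw [← Matrix.mul_assoc, Matrix.trace_mul_comm]
  have e2 : (C * (A * E)).trace = (A * (E * C)).trace := by rw [Matrix.trace_mul_comm, Matrix.mul_assoc]
  have e3 : (B * (G * D)).trace = (D * (B * G)).trace := by rw [← Matrix.mul_assoc, Matrix.trace_mul_comm]
  have e4 : (C * (D * E)).trace = (D * (E * C)).trace := by rw [Matrix.trace_mul_comm, Matrix.mul_assoc]
  linear_combination e1 + e2 + e3 + e4

omit [CommRing R] in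
theorem mat3_ext {x y : I27 → R} (h0 : mat3 x 0 = mat3 y 0) (h1 : mat3 x 1 = mat3 y 1) (h2 : mat3 x 2 = mat3 y 2) :
    x = y := by
  funext ⟨i, a, b⟩
  fin_cases i
  · exact congrFun (congrFun h0 a) b
  · exact congrFun (congrFun h1 a) b
  · exact congrFun (congrFun h2 a) b

theorem mat3_smul (c : R) (x : I27 → R) (k : Fin 3) : mat3 (c • x) k = c • mat3 x k := rfl

theorem sh_smul (c : R) (x : I27 → R) : sh (c • x) = c ^ 2 • sh x := by
  unfold sh
  apply mat3_ext
  · simp only [mat3_smul, mat3_ofM_zero, Matrix.adjugate_smul, Fintype.card_fin, Matrix.smul_mul, Matrix.mul_smul]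
    rw [smul_sub, smul_smul, pow_two]
  · simp only [mat3_smul, mat3_ofM_one, Matrix.adjugate_smul, Fintype.card_fin, Matrix.smul_mul, Matrix.mul_smul]
    rw [smul_sub, smul_smul, pow_two]
  · simp only [mat3_smul, mat3_ofM_two, Matrix.adjugate_smul, Fintype.card_fin, Matrix.smul_mul, Matrix.mul_smul]
    rw [smul_sub, smul_smul, pow_two]

theorem tf_add_left (x y z : I27 → R) : tf (x + y) z = tf x z + tf y z := by
  unfold tf
  simp only [mat3_add, add_mul, Matrix.trace_add]
  ring

theorem tf_smul_left (c : R) (x y : I27 → R) : tf (c • x) y = c * tf x y := by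
  unfold tf
  simp only [mat3_smul, Matrix.smul_mul, Matrix.trace_smul, smul_eq_mul]
  ring

theorem cubicT_smul (c : R) (x : I27 → R) : cubicT (c • x) = c ^ 3 * cubicT x := by
  unfold cubicT
  simp only [mat3_smul, Matrix.det_smul, Fintype.card_fin, Matrix.smul_mul, Matrix.mul_smul, Matrix.trace_smul,
    smul_eq_mul]
  ring

theorem T3_self (x y : I27 → R) : E6Min.Forms.T3 x x y = 2 * tf (sh x) y := by
  rw [E6Min.Forms.T3_polar, cubicT_add (x + x) y, cubicT_add x y, ← two_smul R x, sh_smul, cubicT_smul, tf_smul_left,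
    tf_smul_left]
  ring

/-- the involution of the coordinates -/
def sw (i : I27) : I27 := (if i.1 = 0 then 0 else if i.1 = 1 then 2 else 1, i.2.2, i.2.1)

theorem sw_sw (i : I27) : sw (sw i) = i := by
  revert i
  decide

theorem tf_eq_sum (x y : I27 → R) : tf x y = ∑ i, x i * y (sw i) := by
  unfold tf
  simp only [Matrix.trace, Matrix.diag, Matrix.mul_apply, Fin.sum_univ_three, Fintype.sum_prod_type, mat3,
    Matrix.of_apply, sw]
  simp

theorem tf_single_right (x : I27 → R) (j : I27) : tf x (Pi.single (sw j) 1) = x j := by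
  rw [tf_eq_sum, Finset.sum_eq_single j]
  · simp
  · intro b _ hb
    rw [Pi.single_apply, if_neg, mul_zero]
    intro h
    apply hb
    rw [← sw_sw b, h, sw_sw]
  · intro h
    exact absurd (Finset.mem_univ _) h

theorem tf_nondeg {x : I27 → R} (h : ∀ y, tf x y = 0) : x = 0 := by
  funext j
  rw [← tf_single_right x j]
  exact h _

end Ring

/-! ### the group -/

section Group

variable {K : Type u} [Field K] {ρ : ↥(chevF4.group K) →* GL I27 K}

/-- induction over the root elements -/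
theorem gen_induction {P : ↥(chevF4.group K) → Prop}
    (hx : ∀ (r : Fin chevF4.nroots) (t : K) (g : ↥(chevF4.group K)),
      ((g : GL chevF4.Idx K) : Matrix chevF4.Idx chevF4.Idx K) = chevF4.xMat K r t → P g)
    (h1 : P 1) (hmul : ∀ g h, P g → P h → P (g * h)) (hinv : ∀ g, P g → P g⁻¹) (g : ↥(chevF4.group K)) : P g := by
  have key : ∀ (g : GL chevF4.Idx K) (hg : g ∈ chevF4.group K), P ⟨g, hg⟩ := by
    intro g hg
    unfold ChevalleyDatum.group at hg
    induction hg using Subgroup.closure_induction with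
    | mem x hx' =>
      obtain ⟨r, t, h⟩ := hx'
      exact hx r t _ h
    | one => exact h1
    | mul x y hx' hy' ihx ihy => exact hmul _ _ ihx ihy
    | inv x hx' ihx => exact hinv _ ihx
  exact key g g.2

theorem JK_apply (g : ↥(chevF4.group K)) (x : I27 → K) :
    JK ρ g x = ((ρ g : GL I27 K) : Matrix I27 I27 K) *ᵥ x := rfl

theorem JK_inv_apply (g : ↥(chevF4.group K)) (x : I27 → K) : JK ρ g⁻¹ (JK ρ g x) = x := by
  rw [← Module.End.mul_apply, ← map_mul, inv_mul_cancel, map_one, Module.End.one_apply]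

theorem JK_apply_inv (g : ↥(chevF4.group K)) (x : I27 → K) : JK ρ g (JK ρ g⁻¹ x) = x := by
  rw [← Module.End.mul_apply, ← map_mul, mul_inv_cancel, map_one, Module.End.one_apply]

theorem u0_inv (h : IsJ ρ) (g : ↥(chevF4.group K)) : JK ρ g (u0 K) = u0 K := by
  refine gen_induction (P := fun g => JK ρ g (u0 K) = u0 K) ?_ ?_ ?_ ?_ g
  · intro r t g hg
    rw [JK_apply, h r t g hg]
    exact yM_u0 r.isLt t
  · simp
  · intro g g' hg hg'
    rw [map_mul, Module.End.mul_apply, hg', hg]
  · intro g hg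
    conv_lhs => rw [← hg]
    exact JK_inv_apply g _

theorem N_inv (h : IsJ ρ) (g : ↥(chevF4.group K)) (x : I27 → K) : cubicT (JK ρ g x) = cubicT x := by
  revert x
  refine gen_induction (P := fun g => ∀ x, cubicT (JK ρ g x) = cubicT x) ?_ ?_ ?_ ?_ g
  · intro r t g hg x
    rw [JK_apply, h r t g hg]
    exact cubicT_yM r.isLt t x
  · intro x
    simp
  · intro g g' hg hg' x
    rw [map_mul, Module.End.mul_apply, hg, hg']
  · intro g hg x
    rw [← hg, JK_apply_inv]

theorem T3_inv (h : IsJ ρ) (g : ↥(chevF4.group K)) (x y z : I27 → K) :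
    E6Min.Forms.T3 (JK ρ g x) (JK ρ g y) (JK ρ g z) = E6Min.Forms.T3 x y z := by
  simp only [E6Min.Forms.T3_polar, ← map_add, N_inv h]

theorem tr1_inv (h : IsJ ρ) (h2 : (2 : K) ≠ 0) (g : ↥(chevF4.group K)) (x : I27 → K) :
    tr1 (JK ρ g x) = tr1 x := by
  apply mul_left_cancel₀ h2
  rw [← T3_u0_u0, ← T3_u0_u0, ← T3_inv h g x, u0_inv h]

theorem tf_inv (h : IsJ ρ) (h2 : (2 : K) ≠ 0) (g : ↥(chevF4.group K)) (x y : I27 → K) :
    tf (JK ρ g x) (JK ρ g y) = tf x y := by
  have e1 := T3_u0 (JK ρ g x) (JK ρ g y)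
  have e2 := T3_u0 x y
  rw [← T3_inv h g, u0_inv h, e1, tr1_inv h h2, tr1_inv h h2] at e2
  linear_combination (-1 : K) * e2

theorem sh_inv (h : IsJ ρ) (h2 : (2 : K) ≠ 0) (g : ↥(chevF4.group K)) (x : I27 → K) :
    sh (JK ρ g x) = JK ρ g (sh x) := by
  rw [← sub_eq_zero]
  apply tf_nondeg
  intro y
  obtain ⟨z, rfl⟩ : ∃ z, JK ρ g z = y := ⟨JK ρ g⁻¹ y, JK_apply_inv g y⟩
  have e1 := T3_self (JK ρ g x) (JK ρ g z)
  rw [T3_inv h, T3_self, ← tf_inv h h2 g] at e1
  have e2 := mul_left_cancel₀ h2 e1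
  rw [sub_eq_add_neg, tf_add_left, ← e2, ← neg_one_smul K, tf_smul_left]
  ring

theorem cr_inv (h : IsJ ρ) (h2 : (2 : K) ≠ 0) (g : ↥(chevF4.group K)) (x y : I27 → K) :
    cr (JK ρ g x) (JK ρ g y) = JK ρ g (cr x y) := by
  unfold cr
  rw [← map_add, sh_inv h h2, sh_inv h h2, sh_inv h h2, map_sub, map_sub]

/-- the trace of the inverse -/
theorem trace_inv (h : IsJ ρ) (h2 : (2 : K) ≠ 0) (g : ↥(chevF4.group K)) :
    LinearMap.trace K _ (JK ρ g⁻¹) = LinearMap.trace K _ (JK ρ g) := by
  have e1 : ∀ g : ↥(chevF4.group K), LinearMap.trace K _ (JK ρ g) =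
      ∑ i, ((ρ g : GL I27 K) : Matrix I27 I27 K) i i := by
    intro g
    have e2 : JK ρ g = Matrix.toLin' ((ρ g : GL I27 K) : Matrix I27 I27 K) := rfl
    rw [e2, Matrix.trace_toLin'_eq]
    rfl
  rw [e1, e1]
  have e3 : ∀ i j, ((ρ g : GL I27 K) : Matrix I27 I27 K) (sw j) i =
      ((ρ g⁻¹ : GL I27 K) : Matrix I27 I27 K) (sw i) j := by
    intro i j
    have e4 := tf_inv h h2 g (Pi.single i 1) (JK ρ g⁻¹ (Pi.single j 1))
    rw [JK_apply_inv, tf_symm (Pi.single i 1)] at e4
    have e5 := tf_single_right (JK ρ g (Pi.single i 1)) (sw j)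
    have e6 := tf_single_right (JK ρ g⁻¹ (Pi.single j 1)) (sw i)
    rw [sw_sw] at e5 e6
    rw [e5, e6, JK_apply, JK_apply, Matrix.mulVec_single_one, Matrix.mulVec_single_one] at e4
    exact e4
  have e7 : ∀ i, ((ρ g : GL I27 K) : Matrix I27 I27 K) (sw i) (sw i) =
      ((ρ g⁻¹ : GL I27 K) : Matrix I27 I27 K) i i := by
    intro i
    rw [e3 (sw i) i, sw_sw]
  simp only [← e7]
  exact Fintype.sum_equiv ⟨sw, sw, sw_sw, sw_sw⟩ _ _ fun i => rfl

end Group

end Inv

end Cfsg.Agent.H952.F4
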