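import Cfsg.Agent.H952.F4.Defs2
import Cfsg.Agent.GpExc.Field
import Cfsg.Agent.H593.RobinsonRank

/-!
# Change of fields: eigenspaces and traces on the two modules of `F₄` (S5926, F-E1)
-/

set_option autoImplicit false

namespace Cfsg.Agent.H815.F4Chg

open Cfsg Cfsg.Lie Module Cfsg.Agent.H952.F4
open Cfsg.Agent.ChevalleyStructure Cfsg.Agent.ChevalleyStructure.Elts
open Cfsg.Agent.ChevalleyStructure.E6Min.Tables Cfsg.Agent.ChevalleyStructure.E6Min.Basic
open Cfsg.Agent.GpExc.Field (emb glMap coe_emb coe_glMap)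

universe u

section gen

variable {F K : Type*} [Field F] [Field K] {n : Type*} [Fintype n] [DecidableEq n]

theorem ev_toLin (A : Matrix n n F) (μ : F) : ev (Matrix.toLin' A) μ + (A - μ • (1 : Matrix n n F)).rank = Fintype.card n := by
  have h1 : Module.End.eigenspace (Matrix.toLin' A) μ = LinearMap.ker (Matrix.toLin' (A - μ • (1 : Matrix n n F))) := by
    rw [Module.End.eigenspace_def]
    congr 1
    rw [map_sub, map_smul, Matrix.toLin'_one]
    rfl
  have h2 := LinearMap.finrank_range_add_finrank_ker (Matrix.toLin' (A - μ • (1 : Matrix n n F)))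
  rw [Module.finrank_fintype_fun_eq_card] at h2
  rw [← h2, ev, h1, add_comm]
  rfl

theorem ev_map (f : F →+* K) (A : Matrix n n F) (μ : F) :
    ev (Matrix.toLin' (A.map f)) (f μ) = ev (Matrix.toLin' A) μ := by
  have h1 := ev_toLin A μ
  have h2 := ev_toLin (A.map f) (f μ)
  have h3 : A.map f - f μ • (1 : Matrix n n K) = (A - μ • (1 : Matrix n n F)).map f := by
    ext i j
    simp [Matrix.one_apply, apply_ite f]
  rw [h3, H593.RobinsonRank.rank_map] at h2
  omega

theorem trace_map (f : F →+* K) (A : Matrix n n F) :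
    LinearMap.trace K _ (Matrix.toLin' (A.map f)) = f (LinearMap.trace F _ (Matrix.toLin' A)) := by
  rw [Matrix.trace_toLin'_eq, Matrix.trace_toLin'_eq]
  simp [Matrix.trace, map_sum]

end gen

variable {F K : Type u} [Field F] [Field K] (f : F →+* K)

theorem zM_map (r : ℕ) (t : F) : (zM r t).map f = zM r (f t) := by
  ext x y
  simp only [zM_def, Matrix.map_apply, Matrix.add_apply, Matrix.smul_apply, Nm_apply, Matrix.one_apply, map_add,
    smul_eq_mul, map_mul, apply_ite f, map_one, map_zero, map_intCast]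

theorem yM_map (r : ℕ) (t : F) : (yM r t).map f = yM r (f t) := by
  have key : ∀ l : List (ℕ × ℤ), ((l.map fun e => zM e.1 (((e.2 : ℤ) : F) * t)).prod).map f =
      (l.map fun e => zM e.1 (((e.2 : ℤ) : K) * f t)).prod := by
    intro l
    induction l with
    | nil =>
      simp only [List.map_nil, List.prod_nil]
      exact Matrix.map_one f (map_zero f) (map_one f)
    | cons a l ih =>
      simp only [List.map_cons, List.prod_cons]
      rw [Matrix.map_mul, ih, zM_map, map_mul, map_intCast]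
  exact key _

theorem J_map {ρ : ↥(chevF4.group F) →* GL I27 F} {ρ' : ↥(chevF4.group K) →* GL I27 K} (h : IsJ ρ) (h' : IsJ ρ')
    (g : ↥(chevF4.group F)) :
    ((ρ' (emb hF4 f g) : GL I27 K) : Matrix I27 I27 K) = ((ρ g : GL I27 F) : Matrix I27 I27 F).map f := by
  let S : Subgroup ↥(chevF4.group F) :=
    { carrier := {g | ρ' (emb hF4 f g) = Matrix.GeneralLinearGroup.map f (ρ g)}
      one_mem' := by simp
      mul_mem' := by
        intro a b ha hb
        show ρ' (emb hF4 f (a * b)) = _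
        rw [map_mul, map_mul, ha, hb, map_mul, map_mul]
      inv_mem' := by
        intro a ha
        show ρ' (emb hF4 f a⁻¹) = _
        rw [map_inv, map_inv, ha, map_inv, map_inv] }
  have h1 : chevF4.group F ≤ S.map (chevF4.group F).subtype := by
    rw [group_le_iff hF4]
    intro r hr t
    refine ⟨⟨xG hF4 r t, xG_mem_group hF4 r t⟩, ?_, rfl⟩
    show ρ' _ = _
    apply Units.ext
    have e1 := h ⟨r, hr⟩ t ⟨xG hF4 r t, xG_mem_group hF4 r t⟩ (by
      show ((xG hF4 r t : GL chevF4.Idx F) : Matrix chevF4.Idx chevF4.Idx F) = _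
      rw [coe_xG, x_of_lt hr])
    have e2 := h' ⟨r, hr⟩ (f t) (emb hF4 f ⟨xG hF4 r t, xG_mem_group hF4 r t⟩) (by
      rw [coe_emb]
      show ((glMap chevF4 f (xG hF4 r t) : GL chevF4.Idx K) : Matrix chevF4.Idx chevF4.Idx K) = _
      rw [Cfsg.Agent.GpExc.Field.glMap_xG, coe_xG, x_of_lt hr])
    rw [e2]
    show _ = ((ρ _ : GL I27 F) : Matrix I27 I27 F).map f
    rw [e1, yM_map]
  obtain ⟨g', hg', hgg⟩ := h1 g.2
  have h2 : g' = g := Subtype.ext hgg
  rw [h2] at hg'
  have h3 : ρ' (emb hF4 f g) = Matrix.GeneralLinearGroup.map f (ρ g) := hg'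
  rw [h3]
  rfl

end Cfsg.Agent.H815.F4Chg

namespace Cfsg.Agent.H952.F4.Chg

open Cfsg Cfsg.Lie Module
open Cfsg.Agent.ChevalleyStructure.E6Min.Tables
open Cfsg.Agent.GpExc.Field (emb)

universe u

variable {F K : Type u} [Field F] [Field K] (f : F →+* K)

theorem ev_L (g : ↥(chevF4.group F)) (μ : F) : ev (LK K (emb hF4 f g)) (f μ) = ev (LK F g) μ :=
  H815.F4Chg.ev_map f ((g : GL chevF4.Idx F) : Matrix chevF4.Idx chevF4.Idx F) μ

theorem trace_L (g : ↥(chevF4.group F)) :
    LinearMap.trace K _ (LK K (emb hF4 f g)) = f (LinearMap.trace F _ (LK F g)) :=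
  H815.F4Chg.trace_map f ((g : GL chevF4.Idx F) : Matrix chevF4.Idx chevF4.Idx F)

theorem ev_J {ρ : ↥(chevF4.group F) →* GL I27 F} {ρ' : ↥(chevF4.group K) →* GL I27 K} (h : IsJ ρ) (h' : IsJ ρ')
    (g : ↥(chevF4.group F)) (μ : F) : ev (JK ρ' (emb hF4 f g)) (f μ) = ev (JK ρ g) μ := by
  have h1 : JK ρ' (emb hF4 f g) = Matrix.toLin' (((ρ g : GL I27 F) : Matrix I27 I27 F).map f) := by
    rw [← H815.F4Chg.J_map f h h' g]
    rfl
  rw [h1]
  exact H815.F4Chg.ev_map f _ μ

theorem trace_J {ρ : ↥(chevF4.group F) →* GL I27 F} {ρ' : ↥(chevF4.group K) →* GL I27 K} (h : IsJ ρ) (h' : IsJ ρ')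
    (g : ↥(chevF4.group F)) :
    LinearMap.trace K _ (JK ρ' (emb hF4 f g)) = f (LinearMap.trace F _ (JK ρ g)) := by
  have h1 : JK ρ' (emb hF4 f g) = Matrix.toLin' (((ρ g : GL I27 F) : Matrix I27 I27 F).map f) := by
    rw [← H815.F4Chg.J_map f h h' g]
    rfl
  rw [h1]
  exact H815.F4Chg.trace_map f _

end Cfsg.Agent.H952.F4.Chg
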