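import Mathlib
import Cfsg.Agent.H952.F4.Defs2

/-!
# S5926, part D3: identities of the cubic norm structure on `M₃(R)³` (helper52)

All identities of `tf`, `sh`, `cr`, `cubicT` on `I27 → R` for an arbitrary commutative ring `R`; `sh (sh x) = N x • x` by
coordinates, its polarizations over `R[X]`.
-/

set_option autoImplicit false
set_option linter.unusedSimpArgs false
namespace Cfsg.Agent.H952.F4.Jord
open Cfsg Cfsg.Lie Module
open Cfsg.Agent.ChevalleyStructure.E6Min.Tables Cfsg.Agent.ChevalleyStructure.E6Min.Basic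
universe u
variable {R : Type u} [CommRing R]
theorem sh000 (x : I27 → R) : sh x (0, 0, 0) =
    (x (0, 1, 1) * x (0, 2, 2) - x (0, 1, 2) * x (0, 2, 1)) -
      (x (1, 0, 0) * x (2, 0, 0) + x (1, 0, 1) * x (2, 1, 0) + x (1, 0, 2) * x (2, 2, 0)) := by
  simp [sh, ofM, mat3, Matrix.adjugate_fin_three, Matrix.mul_apply, Fin.sum_univ_three]
theorem sh001 (x : I27 → R) : sh x (0, 0, 1) =
    (x (0, 0, 2) * x (0, 2, 1) - x (0, 0, 1) * x (0, 2, 2)) -
      (x (1, 0, 0) * x (2, 0, 1) + x (1, 0, 1) * x (2, 1, 1) + x (1, 0, 2) * x (2, 2, 1)) := by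
  simp [sh, ofM, mat3, Matrix.adjugate_fin_three, Matrix.mul_apply, Fin.sum_univ_three]
  ring
theorem sh002 (x : I27 → R) : sh x (0, 0, 2) =
    (x (0, 0, 1) * x (0, 1, 2) - x (0, 0, 2) * x (0, 1, 1)) -
      (x (1, 0, 0) * x (2, 0, 2) + x (1, 0, 1) * x (2, 1, 2) + x (1, 0, 2) * x (2, 2, 2)) := by
  simp [sh, ofM, mat3, Matrix.adjugate_fin_three, Matrix.mul_apply, Fin.sum_univ_three]
theorem sh010 (x : I27 → R) : sh x (0, 1, 0) =
    (x (0, 1, 2) * x (0, 2, 0) - x (0, 1, 0) * x (0, 2, 2)) -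
      (x (1, 1, 0) * x (2, 0, 0) + x (1, 1, 1) * x (2, 1, 0) + x (1, 1, 2) * x (2, 2, 0)) := by
  simp [sh, ofM, mat3, Matrix.adjugate_fin_three, Matrix.mul_apply, Fin.sum_univ_three]
  ring
theorem sh011 (x : I27 → R) : sh x (0, 1, 1) =
    (x (0, 0, 0) * x (0, 2, 2) - x (0, 0, 2) * x (0, 2, 0)) -
      (x (1, 1, 0) * x (2, 0, 1) + x (1, 1, 1) * x (2, 1, 1) + x (1, 1, 2) * x (2, 2, 1)) := by
  simp [sh, ofM, mat3, Matrix.adjugate_fin_three, Matrix.mul_apply, Fin.sum_univ_three]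
theorem sh012 (x : I27 → R) : sh x (0, 1, 2) =
    (x (0, 0, 2) * x (0, 1, 0) - x (0, 0, 0) * x (0, 1, 2)) -
      (x (1, 1, 0) * x (2, 0, 2) + x (1, 1, 1) * x (2, 1, 2) + x (1, 1, 2) * x (2, 2, 2)) := by
  simp [sh, ofM, mat3, Matrix.adjugate_fin_three, Matrix.mul_apply, Fin.sum_univ_three]
  ring
theorem sh020 (x : I27 → R) : sh x (0, 2, 0) =
    (x (0, 1, 0) * x (0, 2, 1) - x (0, 1, 1) * x (0, 2, 0)) -
      (x (1, 2, 0) * x (2, 0, 0) + x (1, 2, 1) * x (2, 1, 0) + x (1, 2, 2) * x (2, 2, 0)) := by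
  simp [sh, ofM, mat3, Matrix.adjugate_fin_three, Matrix.mul_apply, Fin.sum_univ_three]
theorem sh021 (x : I27 → R) : sh x (0, 2, 1) =
    (x (0, 0, 1) * x (0, 2, 0) - x (0, 0, 0) * x (0, 2, 1)) -
      (x (1, 2, 0) * x (2, 0, 1) + x (1, 2, 1) * x (2, 1, 1) + x (1, 2, 2) * x (2, 2, 1)) := by
  simp [sh, ofM, mat3, Matrix.adjugate_fin_three, Matrix.mul_apply, Fin.sum_univ_three]
  ring
theorem sh022 (x : I27 → R) : sh x (0, 2, 2) =
    (x (0, 0, 0) * x (0, 1, 1) - x (0, 0, 1) * x (0, 1, 0)) -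
      (x (1, 2, 0) * x (2, 0, 2) + x (1, 2, 1) * x (2, 1, 2) + x (1, 2, 2) * x (2, 2, 2)) := by
  simp [sh, ofM, mat3, Matrix.adjugate_fin_three, Matrix.mul_apply, Fin.sum_univ_three]
theorem sh100 (x : I27 → R) : sh x (1, 0, 0) =
    (x (2, 1, 1) * x (2, 2, 2) - x (2, 1, 2) * x (2, 2, 1)) -
      (x (0, 0, 0) * x (1, 0, 0) + x (0, 0, 1) * x (1, 1, 0) + x (0, 0, 2) * x (1, 2, 0)) := by
  simp [sh, ofM, mat3, Matrix.adjugate_fin_three, Matrix.mul_apply, Fin.sum_univ_three]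
theorem sh101 (x : I27 → R) : sh x (1, 0, 1) =
    (x (2, 0, 2) * x (2, 2, 1) - x (2, 0, 1) * x (2, 2, 2)) -
      (x (0, 0, 0) * x (1, 0, 1) + x (0, 0, 1) * x (1, 1, 1) + x (0, 0, 2) * x (1, 2, 1)) := by
  simp [sh, ofM, mat3, Matrix.adjugate_fin_three, Matrix.mul_apply, Fin.sum_univ_three]
  ring
theorem sh102 (x : I27 → R) : sh x (1, 0, 2) =
    (x (2, 0, 1) * x (2, 1, 2) - x (2, 0, 2) * x (2, 1, 1)) -
      (x (0, 0, 0) * x (1, 0, 2) + x (0, 0, 1) * x (1, 1, 2) + x (0, 0, 2) * x (1, 2, 2)) := by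
  simp [sh, ofM, mat3, Matrix.adjugate_fin_three, Matrix.mul_apply, Fin.sum_univ_three]
theorem sh110 (x : I27 → R) : sh x (1, 1, 0) =
    (x (2, 1, 2) * x (2, 2, 0) - x (2, 1, 0) * x (2, 2, 2)) -
      (x (0, 1, 0) * x (1, 0, 0) + x (0, 1, 1) * x (1, 1, 0) + x (0, 1, 2) * x (1, 2, 0)) := by
  simp [sh, ofM, mat3, Matrix.adjugate_fin_three, Matrix.mul_apply, Fin.sum_univ_three]
  ring
theorem sh111 (x : I27 → R) : sh x (1, 1, 1) =
    (x (2, 0, 0) * x (2, 2, 2) - x (2, 0, 2) * x (2, 2, 0)) -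
      (x (0, 1, 0) * x (1, 0, 1) + x (0, 1, 1) * x (1, 1, 1) + x (0, 1, 2) * x (1, 2, 1)) := by
  simp [sh, ofM, mat3, Matrix.adjugate_fin_three, Matrix.mul_apply, Fin.sum_univ_three]
theorem sh112 (x : I27 → R) : sh x (1, 1, 2) =
    (x (2, 0, 2) * x (2, 1, 0) - x (2, 0, 0) * x (2, 1, 2)) -
      (x (0, 1, 0) * x (1, 0, 2) + x (0, 1, 1) * x (1, 1, 2) + x (0, 1, 2) * x (1, 2, 2)) := by
  simp [sh, ofM, mat3, Matrix.adjugate_fin_three, Matrix.mul_apply, Fin.sum_univ_three]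
  ring
theorem sh120 (x : I27 → R) : sh x (1, 2, 0) =
    (x (2, 1, 0) * x (2, 2, 1) - x (2, 1, 1) * x (2, 2, 0)) -
      (x (0, 2, 0) * x (1, 0, 0) + x (0, 2, 1) * x (1, 1, 0) + x (0, 2, 2) * x (1, 2, 0)) := by
  simp [sh, ofM, mat3, Matrix.adjugate_fin_three, Matrix.mul_apply, Fin.sum_univ_three]
theorem sh121 (x : I27 → R) : sh x (1, 2, 1) =
    (x (2, 0, 1) * x (2, 2, 0) - x (2, 0, 0) * x (2, 2, 1)) -
      (x (0, 2, 0) * x (1, 0, 1) + x (0, 2, 1) * x (1, 1, 1) + x (0, 2, 2) * x (1, 2, 1)) := by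
  simp [sh, ofM, mat3, Matrix.adjugate_fin_three, Matrix.mul_apply, Fin.sum_univ_three]
  ring
theorem sh122 (x : I27 → R) : sh x (1, 2, 2) =
    (x (2, 0, 0) * x (2, 1, 1) - x (2, 0, 1) * x (2, 1, 0)) -
      (x (0, 2, 0) * x (1, 0, 2) + x (0, 2, 1) * x (1, 1, 2) + x (0, 2, 2) * x (1, 2, 2)) := by
  simp [sh, ofM, mat3, Matrix.adjugate_fin_three, Matrix.mul_apply, Fin.sum_univ_three]
theorem sh200 (x : I27 → R) : sh x (2, 0, 0) =
    (x (1, 1, 1) * x (1, 2, 2) - x (1, 1, 2) * x (1, 2, 1)) -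
      (x (2, 0, 0) * x (0, 0, 0) + x (2, 0, 1) * x (0, 1, 0) + x (2, 0, 2) * x (0, 2, 0)) := by
  simp [sh, ofM, mat3, Matrix.adjugate_fin_three, Matrix.mul_apply, Fin.sum_univ_three]
theorem sh201 (x : I27 → R) : sh x (2, 0, 1) =
    (x (1, 0, 2) * x (1, 2, 1) - x (1, 0, 1) * x (1, 2, 2)) -
      (x (2, 0, 0) * x (0, 0, 1) + x (2, 0, 1) * x (0, 1, 1) + x (2, 0, 2) * x (0, 2, 1)) := by
  simp [sh, ofM, mat3, Matrix.adjugate_fin_three, Matrix.mul_apply, Fin.sum_univ_three]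
  ring
theorem sh202 (x : I27 → R) : sh x (2, 0, 2) =
    (x (1, 0, 1) * x (1, 1, 2) - x (1, 0, 2) * x (1, 1, 1)) -
      (x (2, 0, 0) * x (0, 0, 2) + x (2, 0, 1) * x (0, 1, 2) + x (2, 0, 2) * x (0, 2, 2)) := by
  simp [sh, ofM, mat3, Matrix.adjugate_fin_three, Matrix.mul_apply, Fin.sum_univ_three]
theorem sh210 (x : I27 → R) : sh x (2, 1, 0) =
    (x (1, 1, 2) * x (1, 2, 0) - x (1, 1, 0) * x (1, 2, 2)) -
      (x (2, 1, 0) * x (0, 0, 0) + x (2, 1, 1) * x (0, 1, 0) + x (2, 1, 2) * x (0, 2, 0)) := by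
  simp [sh, ofM, mat3, Matrix.adjugate_fin_three, Matrix.mul_apply, Fin.sum_univ_three]
  ring
theorem sh211 (x : I27 → R) : sh x (2, 1, 1) =
    (x (1, 0, 0) * x (1, 2, 2) - x (1, 0, 2) * x (1, 2, 0)) -
      (x (2, 1, 0) * x (0, 0, 1) + x (2, 1, 1) * x (0, 1, 1) + x (2, 1, 2) * x (0, 2, 1)) := by
  simp [sh, ofM, mat3, Matrix.adjugate_fin_three, Matrix.mul_apply, Fin.sum_univ_three]
theorem sh212 (x : I27 → R) : sh x (2, 1, 2) =
    (x (1, 0, 2) * x (1, 1, 0) - x (1, 0, 0) * x (1, 1, 2)) -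
      (x (2, 1, 0) * x (0, 0, 2) + x (2, 1, 1) * x (0, 1, 2) + x (2, 1, 2) * x (0, 2, 2)) := by
  simp [sh, ofM, mat3, Matrix.adjugate_fin_three, Matrix.mul_apply, Fin.sum_univ_three]
  ring
theorem sh220 (x : I27 → R) : sh x (2, 2, 0) =
    (x (1, 1, 0) * x (1, 2, 1) - x (1, 1, 1) * x (1, 2, 0)) -
      (x (2, 2, 0) * x (0, 0, 0) + x (2, 2, 1) * x (0, 1, 0) + x (2, 2, 2) * x (0, 2, 0)) := by
  simp [sh, ofM, mat3, Matrix.adjugate_fin_three, Matrix.mul_apply, Fin.sum_univ_three]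
theorem sh221 (x : I27 → R) : sh x (2, 2, 1) =
    (x (1, 0, 1) * x (1, 2, 0) - x (1, 0, 0) * x (1, 2, 1)) -
      (x (2, 2, 0) * x (0, 0, 1) + x (2, 2, 1) * x (0, 1, 1) + x (2, 2, 2) * x (0, 2, 1)) := by
  simp [sh, ofM, mat3, Matrix.adjugate_fin_three, Matrix.mul_apply, Fin.sum_univ_three]
  ring
theorem sh222 (x : I27 → R) : sh x (2, 2, 2) =
    (x (1, 0, 0) * x (1, 1, 1) - x (1, 0, 1) * x (1, 1, 0)) -
      (x (2, 2, 0) * x (0, 0, 2) + x (2, 2, 1) * x (0, 1, 2) + x (2, 2, 2) * x (0, 2, 2)) := by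
  simp [sh, ofM, mat3, Matrix.adjugate_fin_three, Matrix.mul_apply, Fin.sum_univ_three]

/-! ### the trace form -/

theorem mat3_add (x y : I27 → R) (k : Fin 3) : mat3 (x + y) k = mat3 x k + mat3 y k := rfl

theorem mat3_smul (c : R) (x : I27 → R) (k : Fin 3) : mat3 (c • x) k = c • mat3 x k := rfl

theorem tf_comm (x y : I27 → R) : tf x y = tf y x := by
  unfold tf
  rw [Matrix.trace_mul_comm (mat3 x 0), Matrix.trace_mul_comm (mat3 x 1), Matrix.trace_mul_comm (mat3 x 2)]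
  ring

theorem tf_add_left (x x' y : I27 → R) : tf (x + x') y = tf x y + tf x' y := by
  unfold tf
  simp only [mat3_add, add_mul, Matrix.trace_add]
  ring

theorem tf_smul_left (c : R) (x y : I27 → R) : tf (c • x) y = c * tf x y := by
  unfold tf
  simp only [mat3_smul, Matrix.smul_mul, Matrix.trace_smul, smul_eq_mul]
  ring

/-- explicit formula -/
theorem tf_eq (x y : I27 → R) : tf x y =
    (∑ i : Fin 3, ∑ j : Fin 3, x (0, i, j) * y (0, j, i)) + (∑ i : Fin 3, ∑ j : Fin 3, x (1, i, j) * y (2, j, i)) +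
      (∑ i : Fin 3, ∑ j : Fin 3, x (2, i, j) * y (1, j, i)) := by
  simp only [tf, Matrix.trace, Matrix.diag, Matrix.mul_apply, mat3, Matrix.of_apply]

theorem tf_add_right (x y y' : I27 → R) : tf x (y + y') = tf x y + tf x y' := by
  rw [tf_comm, tf_add_left, tf_comm y, tf_comm y']

theorem tf_smul_right (c : R) (x y : I27 → R) : tf x (c • y) = c * tf x y := by
  rw [tf_comm, tf_smul_left, tf_comm]

theorem tf_nondeg {x : I27 → R} (h : ∀ y, tf x y = 0) : x = 0 := by
  funext ⟨k, i, j⟩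
  have key : ∀ (k' : Fin 3), (k' = if k = 0 then 0 else if k = 1 then 2 else 1) →
      tf x (Pi.single (k', j, i) 1) = x (k, i, j) := by
    intro k' hk'
    rw [tf_eq]
    subst hk'
    fin_cases k <;> fin_cases i <;> fin_cases j <;>
      simp [Fin.sum_univ_three, Pi.single_apply, Prod.mk.injEq]
  rw [← key _ rfl, h]
  rfl

theorem tf_u0 (x : I27 → R) : tf (u0 R) x = tr1 x := by
  rw [tf_eq]
  simp [Fin.sum_univ_three, u0, tr1, Matrix.trace, mat3]

theorem tr1_u0 : tr1 (u0 R) = 3 := by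
  simp [u0, tr1, Matrix.trace, mat3]

theorem tr1_add (x y : I27 → R) : tr1 (x + y) = tr1 x + tr1 y := by
  unfold tr1; rw [mat3_add, Matrix.trace_add]

theorem tr1_smul (c : R) (x : I27 → R) : tr1 (c • x) = c * tr1 x := by
  unfold tr1; rw [mat3_smul, Matrix.trace_smul, smul_eq_mul]

/-! ### the adjoint -/

theorem sh_add (x y : I27 → R) : sh (x + y) = sh x + sh y + cr x y := by
  unfold cr; abel

omit [CommRing R] in
theorem ext27 {x y : I27 → R} (h : ∀ k i j : Fin 3, x (k, i, j) = y (k, i, j)) : x = y := by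
  funext ⟨k, i, j⟩; exact h k i j

theorem sh_smul (c : R) (x : I27 → R) : sh (c • x) = c ^ 2 • sh x := by
  refine ext27 fun k i j => ?_
  fin_cases k <;> fin_cases i <;> fin_cases j <;>
    simp only [Fin.zero_eta, Fin.mk_one, Fin.reduceFinMk, Pi.smul_apply, smul_eq_mul, sh000, sh001, sh002, sh010, sh011,
      sh012, sh020, sh021, sh022, sh100, sh101, sh102, sh110, sh111, sh112, sh120, sh121, sh122, sh200, sh201, sh202,
      sh210, sh211, sh212, sh220, sh221, sh222] <;> ring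

theorem cr_comm (x y : I27 → R) : cr x y = cr y x := by
  unfold cr; rw [add_comm y x]; abel

theorem cr_add_left (x x' y : I27 → R) : cr (x + x') y = cr x y + cr x' y := by
  unfold cr
  refine ext27 fun k i j => ?_
  fin_cases k <;> fin_cases i <;> fin_cases j <;>
    simp only [Fin.zero_eta, Fin.mk_one, Fin.reduceFinMk, Pi.add_apply, Pi.sub_apply, sh000, sh001, sh002, sh010, sh011,
      sh012, sh020, sh021, sh022, sh100, sh101, sh102, sh110, sh111, sh112, sh120, sh121, sh122, sh200, sh201, sh202,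
      sh210, sh211, sh212, sh220, sh221, sh222] <;> ring

theorem cr_smul_left (c : R) (x y : I27 → R) : cr (c • x) y = c • cr x y := by
  unfold cr
  refine ext27 fun k i j => ?_
  fin_cases k <;> fin_cases i <;> fin_cases j <;>
    simp only [Fin.zero_eta, Fin.mk_one, Fin.reduceFinMk, Pi.add_apply, Pi.sub_apply, Pi.smul_apply, smul_eq_mul,
      sh000, sh001, sh002, sh010, sh011,
      sh012, sh020, sh021, sh022, sh100, sh101, sh102, sh110, sh111, sh112, sh120, sh121, sh122, sh200, sh201, sh202,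
      sh210, sh211, sh212, sh220, sh221, sh222] <;> ring

theorem cr_add_right (x y y' : I27 → R) : cr x (y + y') = cr x y + cr x y' := by
  rw [cr_comm, cr_add_left, cr_comm y, cr_comm y']

theorem cr_smul_right (c : R) (x y : I27 → R) : cr x (c • y) = c • cr x y := by
  rw [cr_comm, cr_smul_left, cr_comm]

theorem cr_self (x : I27 → R) : cr x x = (2 : R) • sh x := by
  unfold cr
  rw [← two_smul R x, sh_smul]
  module

theorem sh_u0 : sh (u0 R) = u0 R := by
  refine ext27 fun k i j => ?_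
  fin_cases k <;> fin_cases i <;> fin_cases j <;>
    simp only [Fin.zero_eta, Fin.mk_one, Fin.reduceFinMk, sh000, sh001, sh002, sh010, sh011,
      sh012, sh020, sh021, sh022, sh100, sh101, sh102, sh110, sh111, sh112, sh120, sh121, sh122, sh200, sh201, sh202,
      sh210, sh211, sh212, sh220, sh221, sh222] <;> simp [u0]

/-- explicit formula -/
theorem N_eq (x : I27 → R) : cubicT x =
    (x (0, 0, 0) * x (0, 1, 1) * x (0, 2, 2) - x (0, 0, 0) * x (0, 1, 2) * x (0, 2, 1)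
      - x (0, 0, 1) * x (0, 1, 0) * x (0, 2, 2) + x (0, 0, 1) * x (0, 1, 2) * x (0, 2, 0)
      + x (0, 0, 2) * x (0, 1, 0) * x (0, 2, 1) - x (0, 0, 2) * x (0, 1, 1) * x (0, 2, 0)) +
    (x (1, 0, 0) * x (1, 1, 1) * x (1, 2, 2) - x (1, 0, 0) * x (1, 1, 2) * x (1, 2, 1)
      - x (1, 0, 1) * x (1, 1, 0) * x (1, 2, 2) + x (1, 0, 1) * x (1, 1, 2) * x (1, 2, 0)
      + x (1, 0, 2) * x (1, 1, 0) * x (1, 2, 1) - x (1, 0, 2) * x (1, 1, 1) * x (1, 2, 0)) +
    (x (2, 0, 0) * x (2, 1, 1) * x (2, 2, 2) - x (2, 0, 0) * x (2, 1, 2) * x (2, 2, 1)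
      - x (2, 0, 1) * x (2, 1, 0) * x (2, 2, 2) + x (2, 0, 1) * x (2, 1, 2) * x (2, 2, 0)
      + x (2, 0, 2) * x (2, 1, 0) * x (2, 2, 1) - x (2, 0, 2) * x (2, 1, 1) * x (2, 2, 0)) -
    ∑ i : Fin 3, ∑ j : Fin 3, ∑ k : Fin 3, x (0, i, j) * x (1, j, k) * x (2, k, i) := by
  unfold cubicT
  rw [Matrix.det_fin_three, Matrix.det_fin_three, Matrix.det_fin_three]
  congr 1
  simp only [Matrix.trace, Matrix.diag, Matrix.mul_apply, mat3, Matrix.of_apply, Fin.sum_univ_three]
  ring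

theorem N_u0 : cubicT (u0 R) = 1 := by
  rw [N_eq]; simp [u0]

theorem cr_u0 (x : I27 → R) : cr (u0 R) x = tr1 x • u0 R - x := by
  unfold cr
  refine ext27 fun k i j => ?_
  fin_cases k <;> fin_cases i <;> fin_cases j <;>
    simp only [Fin.zero_eta, Fin.mk_one, Fin.reduceFinMk, Pi.add_apply, Pi.sub_apply, Pi.smul_apply, smul_eq_mul,
      sh000, sh001, sh002, sh010, sh011,
      sh012, sh020, sh021, sh022, sh100, sh101, sh102, sh110, sh111, sh112, sh120, sh121, sh122, sh200, sh201, sh202,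
      sh210, sh211, sh212, sh220, sh221, sh222] <;> simp [u0, tr1, Matrix.trace, mat3, Fin.sum_univ_three] <;> ring

theorem N_smul (c : R) (x : I27 → R) : cubicT (c • x) = c ^ 3 * cubicT x := by
  simp only [N_eq, Pi.smul_apply, smul_eq_mul, Fin.sum_univ_three]
  ring

set_option maxHeartbeats 4000000 in
theorem N_add (x y : I27 → R) : cubicT (x + y) = cubicT x + tf (sh x) y + tf x (sh y) + cubicT y := by
  simp only [N_eq, tf_eq, Pi.add_apply, Fin.sum_univ_three, sh000, sh001, sh002, sh010, sh011,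
      sh012, sh020, sh021, sh022, sh100, sh101, sh102, sh110, sh111, sh112, sh120, sh121, sh122, sh200, sh201, sh202,
      sh210, sh211, sh212, sh220, sh221, sh222]
  ring

theorem tf_sh_self (x : I27 → R) : tf (sh x) x = 3 * cubicT x := by
  simp only [N_eq, tf_eq, Fin.sum_univ_three, sh000, sh001, sh002, sh010, sh011,
      sh012, sh020, sh021, sh022, sh100, sh101, sh102, sh110, sh111, sh112, sh120, sh121, sh122, sh200, sh201, sh202,
      sh210, sh211, sh212, sh220, sh221, sh222]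
  ring

/-- `tr1 (sh x)` -/
theorem tr1_sh (x : I27 → R) : 2 * tr1 (sh x) = tr1 x ^ 2 - tf x x := by
  simp only [tr1, Matrix.trace, Matrix.diag, mat3, Matrix.of_apply, tf_eq, Fin.sum_univ_three, sh000, sh001, sh002,
    sh010, sh011, sh012, sh020, sh021, sh022]
  ring

theorem tr1_cr (x y : I27 → R) : tr1 (cr x y) = tr1 x * tr1 y - tf x y := by
  simp only [cr, tr1, Matrix.trace, Matrix.diag, mat3, Matrix.of_apply, tf_eq, Fin.sum_univ_three, Pi.sub_apply,
    Pi.add_apply, sh000, sh001, sh002, sh010, sh011, sh012, sh020, sh021, sh022]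
  ring

set_option maxHeartbeats 4000000 in
theorem tf_cr (x y z : I27 → R) : tf (cr x y) z = tf x (cr y z) := by
  simp only [cr, tf_eq, Fin.sum_univ_three, Pi.sub_apply, Pi.add_apply, sh000, sh001, sh002, sh010, sh011,
      sh012, sh020, sh021, sh022, sh100, sh101, sh102, sh110, sh111, sh112, sh120, sh121, sh122, sh200, sh201, sh202,
      sh210, sh211, sh212, sh220, sh221, sh222]
  ring

set_option maxHeartbeats 4000000 in
theorem sh_sh (x : I27 → R) : sh (sh x) = cubicT x • x := by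
  refine ext27 fun k i j => ?_
  fin_cases k <;> fin_cases i <;> fin_cases j <;>
    simp only [Fin.zero_eta, Fin.mk_one, Fin.reduceFinMk, Pi.smul_apply, smul_eq_mul, N_eq, Fin.sum_univ_three,
      sh000, sh001, sh002, sh010, sh011,
      sh012, sh020, sh021, sh022, sh100, sh101, sh102, sh110, sh111, sh112, sh120, sh121, sh122, sh200, sh201, sh202,
      sh210, sh211, sh212, sh220, sh221, sh222] <;> ring

/-! ### extension of scalars and polarization -/

section Map
variable {S : Type u} [CommRing S] (f : R →+* S)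

theorem map_sh (x : I27 → R) : sh (fun a => f (x a)) = fun a => f (sh x a) := by
  refine ext27 fun k i j => ?_
  fin_cases k <;> fin_cases i <;> fin_cases j <;>
    simp only [Fin.zero_eta, Fin.mk_one, Fin.reduceFinMk, map_sub, map_add, map_mul,
      sh000, sh001, sh002, sh010, sh011,
      sh012, sh020, sh021, sh022, sh100, sh101, sh102, sh110, sh111, sh112, sh120, sh121, sh122, sh200, sh201, sh202,
      sh210, sh211, sh212, sh220, sh221, sh222]

theorem map_cr (x y : I27 → R) : cr (fun a => f (x a)) (fun a => f (y a)) = fun a => f (cr x y a) := by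
  unfold cr
  have : (fun a => f (x a)) + (fun a => f (y a)) = fun a => f ((x + y) a) := by
    funext a; simp
  rw [this, map_sh, map_sh, map_sh]
  funext a; simp

theorem map_N (x : I27 → R) : cubicT (fun a => f (x a)) = f (cubicT x) := by
  simp only [N_eq, map_sub, map_add, map_mul, Fin.sum_univ_three]

theorem map_tf (x y : I27 → R) : tf (fun a => f (x a)) (fun a => f (y a)) = f (tf x y) := by
  simp only [tf_eq, map_add, map_mul, map_sum]

end Map

open Polynomial in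
theorem coeffs (a0 a1 a2 a3 a4 : R) :
    (C a0 + X * C a1 + X ^ 2 * C a2 + X ^ 3 * C a3 + X ^ 4 * C a4 : R[X]).coeff 1 = a1 ∧
    (C a0 + X * C a1 + X ^ 2 * C a2 + X ^ 3 * C a3 + X ^ 4 * C a4 : R[X]).coeff 2 = a2 := by
  constructor
  · simp only [coeff_add, coeff_X_pow_mul', coeff_C]
    rw [show (1 : ℕ) = 0 + 1 from rfl, coeff_X_mul]
    simp
  · simp only [coeff_add, coeff_X_pow_mul', coeff_C]
    rw [show (2 : ℕ) = 1 + 1 from rfl, coeff_X_mul]
    simp

open Polynomial in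
/-- constant vectors over the polynomial ring -/
noncomputable def cst (x : I27 → R) : I27 → R[X] := fun a => C (x a)

theorem cst_apply (x : I27 → R) (a : I27) : cst x a = Polynomial.C (x a) := rfl

theorem cst_sh (x : I27 → R) : sh (cst x) = cst (sh x) := map_sh Polynomial.C x

theorem cst_cr (x y : I27 → R) : cr (cst x) (cst y) = cst (cr x y) := map_cr Polynomial.C x y

theorem cst_N (x : I27 → R) : cubicT (cst x) = Polynomial.C (cubicT x) := map_N Polynomial.C x

theorem cst_tf (x y : I27 → R) : tf (cst x) (cst y) = Polynomial.C (tf x y) := map_tf Polynomial.C x y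

open Polynomial in
/-- comparison of coefficients -/
theorem polar {A0 A1 A2 A3 A4 B0 B1 B2 B3 B4 : I27 → R}
    (h : cst A0 + (X : R[X]) • cst A1 + (X : R[X]) ^ 2 • cst A2 + (X : R[X]) ^ 3 • cst A3 + (X : R[X]) ^ 4 • cst A4 =
      cst B0 + (X : R[X]) • cst B1 + (X : R[X]) ^ 2 • cst B2 + (X : R[X]) ^ 3 • cst B3 + (X : R[X]) ^ 4 • cst B4) :
    A1 = B1 ∧ A2 = B2 := by
  constructor
  · funext a
    have h1 := congrArg (fun p : R[X] => p.coeff 1) (congrFun h a)
    simp only [Pi.add_apply, Pi.smul_apply, smul_eq_mul, cst_apply, (coeffs _ _ _ _ _).1] at h1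
    exact h1
  · funext a
    have h1 := congrArg (fun p : R[X] => p.coeff 2) (congrFun h a)
    simp only [Pi.add_apply, Pi.smul_apply, smul_eq_mul, cst_apply, (coeffs _ _ _ _ _).2] at h1
    exact h1

open Polynomial in
theorem cr_sh_cr_sh_cr (x y : I27 → R) : cr (sh x) (cr x y) = cubicT x • y + tf (sh x) y • x ∧
    sh (cr x y) + cr (sh x) (sh y) = tf (sh x) y • y + tf x (sh y) • x := by
  have h := sh_sh (cst x + (X : R[X]) • cst y)
  simp only [sh_add, N_add, sh_smul, cst_sh, cr_smul_right, cst_cr, cr_add_left, cr_smul_left, cr_add_right, N_smul,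
    cst_N, tf_smul_right, tf_smul_left, cst_tf] at h
  have := polar (A0 := sh (sh x)) (A1 := cr (sh x) (cr x y)) (A2 := sh (cr x y) + cr (sh x) (sh y))
    (A3 := cr (sh y) (cr x y)) (A4 := sh (sh y)) (B0 := cubicT x • x)
    (B1 := cubicT x • y + tf (sh x) y • x) (B2 := tf (sh x) y • y + tf x (sh y) • x)
    (B3 := tf x (sh y) • y + cubicT y • x) (B4 := cubicT y • y) ?_
  · exact this
  · refine Eq.trans ?_ (h.trans ?_)
    · funext a
      simp only [Pi.add_apply, Pi.smul_apply, smul_eq_mul, map_add, cst_apply]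
      ring
    · funext a
      simp only [Pi.add_apply, Pi.smul_apply, smul_eq_mul, map_add, map_mul, cst_apply]
      ring

theorem cr_sh_cr (x y : I27 → R) : cr (sh x) (cr x y) = cubicT x • y + tf (sh x) y • x := (cr_sh_cr_sh_cr x y).1

theorem sh_cr (x y : I27 → R) : sh (cr x y) + cr (sh x) (sh y) = tf (sh x) y • y + tf x (sh y) • x :=
  (cr_sh_cr_sh_cr x y).2

open Polynomial in
theorem cr_cr (x y z : I27 → R) : cr (cr x y) (cr x z) + cr (sh x) (cr y z) =
    tf (sh x) y • z + tf (sh x) z • y + tf x (cr y z) • x := by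
  have h := cr_sh_cr (cst x + (X : R[X]) • cst z) (cst y)
  simp only [sh_add, N_add, sh_smul, cst_sh, cr_smul_right, cst_cr, cr_add_left, cr_smul_left, cr_add_right, N_smul,
    cst_N, tf_smul_right, tf_smul_left, tf_add_left, cst_tf] at h
  have := (polar (A0 := cr (sh x) (cr x y)) (A1 := cr (cr x z) (cr x y) + cr (sh x) (cr z y))
    (A2 := cr (sh z) (cr x y) + cr (cr x z) (cr z y)) (A3 := cr (sh z) (cr z y)) (A4 := 0)
    (B0 := cubicT x • y + tf (sh x) y • x)
    (B1 := tf (sh x) z • y + tf (cr x z) y • x + tf (sh x) y • z)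
    (B2 := tf x (sh z) • y + tf (cr x z) y • z + tf (sh z) y • x)
    (B3 := cubicT z • y + tf (sh z) y • z) (B4 := 0) ?_).1
  · rw [cr_comm (cr x y), cr_comm y z, this, tf_cr]
    abel
  · refine Eq.trans ?_ (h.trans ?_)
    · funext a
      simp only [Pi.add_apply, Pi.smul_apply, smul_eq_mul, map_add, Pi.zero_apply, map_zero, cst_apply]
      ring
    · funext a
      simp only [Pi.add_apply, Pi.smul_apply, smul_eq_mul, map_add, map_mul, Pi.zero_apply, map_zero, cst_apply]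
      ring

end Cfsg.Agent.H952.F4.Jord
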