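import Cfsg.Agent.H333.F4J.Ad
import Cfsg.Agent.GpExc.Field

/-!
# S5926, D1 and D2: the 27-dimensional module of F₄ (helper333)
-/

set_option autoImplicit false

namespace Cfsg.Agent.H952.F4.JMod

open Cfsg.Lie Cfsg.Agent.ChevalleyStructure.E6Min.Tables Cfsg.Agent.ChevalleyStructure.E6Min.Basic
open Cfsg.Agent.ChevalleyStructure Cfsg.Agent.ChevalleyStructure.Elts
open Cfsg.Agent.H952.F4 Cfsg.Agent.H333.F4J.Ev Cfsg.Agent.H333.F4J.Ad
open Cfsg.Agent.GpExc.Field (emb glMap coe_emb coe_glMap glMap_xG)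

universe u

/-- D1 -/
theorem exists_isJ (K : Type u) [Field K] : ∃ ρ : ↥(chevF4.group K) →* GL I27 K, IsJ ρ := by
  refine ⟨(FZ K).subtype.comp (eqv K).symm.toMonoidHom, ?_⟩
  intro r t g hg
  have h1 : (g : GL chevF4.Idx K) = xG hF4 r.val t := by
    apply Units.ext
    rw [hg, coe_xG_lt r.isLt]
  have h2 := eqv_symm_xG r.isLt t g h1
  change (((eqv K).symm g : FZ K) : GL I27 K).val = _
  rw [h2]
  exact coe_yU r.isLt t

/-- reduction of the root elements -/
theorem yM_map {F K : Type u} [Field F] [Field K] (f : F →+* K) (r : ℕ) (t : F) :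
    (yM r t : Matrix I27 I27 F).map f = yM r (f t) := by
  unfold yM
  generalize dat.getD r [] = L
  induction L with
  | nil => simp
  | cons e L ih =>
    rw [List.map_cons, List.prod_cons, List.map_cons, List.prod_cons, Matrix.map_mul, ih]
    congr 1
    ext x y
    rw [Matrix.map_apply, zM_def, zM_def, Matrix.add_apply, Matrix.add_apply, Matrix.smul_apply, Matrix.smul_apply,
      Nm_apply, Nm_apply, Matrix.one_apply, Matrix.one_apply, smul_eq_mul, smul_eq_mul, map_add, map_mul, map_mul]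
    split_ifs <;> simp

/-- D2 -/
theorem map_isJ {F K : Type u} [Field F] [Field K] (f : F →+* K) {ρ : ↥(chevF4.group F) →* GL I27 F}
    {ρ' : ↥(chevF4.group K) →* GL I27 K} (h : IsJ ρ) (h' : IsJ ρ') (g : ↥(chevF4.group F)) :
    ((ρ' (emb hF4 f g) : GL I27 K) : Matrix I27 I27 K) = ((ρ g : GL I27 F) : Matrix I27 I27 F).map f := by
  let m : GL I27 F →* GL I27 K := Units.map (f.mapMatrix : Matrix I27 I27 F →+* Matrix I27 I27 K).toMonoidHom
  have hm : ∀ x : GL I27 F, ((m x : GL I27 K) : Matrix I27 I27 K) = (x : Matrix I27 I27 F).map f := fun x => rfl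
  have key : ρ'.comp (emb hF4 f) = m.comp ρ := by
    -- the subgroup on which both agree
    have h1 : chevF4.group F ≤ ((ρ'.comp (emb hF4 f)).eqLocus (m.comp ρ)).map (chevF4.group F).subtype := by
      rw [group_le_iff hF4]
      intro r hr t
      refine ⟨⟨xG hF4 r t, xG_mem_group hF4 r t⟩, ?_, rfl⟩
      change ρ' (emb hF4 f ⟨xG hF4 r t, xG_mem_group hF4 r t⟩) = m (ρ ⟨xG hF4 r t, xG_mem_group hF4 r t⟩)
      apply Units.ext
      rw [hm, h ⟨r, hr⟩ t _ (coe_xG_lt hr t), yM_map]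
      refine h' ⟨r, hr⟩ (f t) _ ?_
      rw [coe_emb]
      change ((glMap chevF4 f (xG hF4 r t) : GL chevF4.Idx K) : Matrix chevF4.Idx chevF4.Idx K) = _
      rw [glMap_xG hF4, coe_xG_lt hr]
    ext1 ⟨A, hA⟩
    obtain ⟨y, hy, h2⟩ := h1 hA
    have : (⟨A, hA⟩ : chevF4.group F) = y := Subtype.ext h2.symm
    rw [this]
    exact hy
  have h2 := congrArg (fun z : ↥(chevF4.group F) →* GL I27 K => ((z g : GL I27 K) : Matrix I27 I27 K)) key
  exact h2

end Cfsg.Agent.H952.F4.JMod
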