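import Mathlib

/-!
# S5926: the values of the roots of F₄ on vectors modulo `m` (helper755)

`rowsL` : the coefficient vectors of the 48 roots (plus 8), `rowsJ` : the 27 weights of the 27-dimensional module (plus 8).
`nn rows m j a b c d` : the number of rows `r` with `⟨r - 8, (a, b, c, d)⟩ ≡ j (mod m)`; tables of these numbers for
`m = 2, 3, 4, 5, 7`.
-/

set_option autoImplicit false

namespace Cfsg.Agent.H952.F4.TabNum

/-- the roots of `F₄` plus `(8, 8, 8, 8)` -/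
def rowsL : List (ℕ × ℕ × ℕ × ℕ) :=
  [(6, 4, 5, 6), (6, 4, 5, 7), (6, 4, 6, 7), (6, 5, 6, 7), (6, 6, 6, 7), (6, 6, 7, 7), (6, 6, 7, 8),
   (7, 5, 6, 7), (7, 6, 6, 7), (7, 6, 7, 7), (7, 6, 7, 8), (7, 7, 7, 7), (7, 7, 7, 8), (7, 7, 8, 8),
   (7, 8, 8, 8), (8, 6, 6, 7), (8, 6, 7, 7), (8, 6, 7, 8), (8, 7, 7, 7), (8, 7, 7, 8), (8, 7, 8, 8),
   (8, 8, 7, 7), (8, 8, 7, 8), (8, 8, 8, 7), (8, 8, 8, 9), (8, 8, 9, 8), (8, 8, 9, 9), (8, 9, 8, 8),
   (8, 9, 9, 8), (8, 9, 9, 9), (8, 10, 9, 8), (8, 10, 9, 9), (8, 10, 10, 9), (9, 8, 8, 8), (9, 9, 8, 8),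
   (9, 9, 9, 8), (9, 9, 9, 9), (9, 10, 9, 8), (9, 10, 9, 9), (9, 10, 10, 9), (9, 11, 10, 9), (10, 10, 9, 8),
   (10, 10, 9, 9), (10, 10, 10, 9), (10, 11, 10, 9), (10, 12, 10, 9), (10, 12, 11, 9), (10, 12, 11, 10)]

/-- the weights of the 27-dimensional module plus `(8, 8, 8, 8)` -/
def rowsJ : List (ℕ × ℕ × ℕ × ℕ) :=
  [(8, 8, 8, 8), (8, 9, 8, 8), (9, 11, 10, 9), (8, 7, 8, 8), (8, 8, 8, 8), (9, 10, 10, 9), (7, 5, 6, 7),
   (7, 6, 6, 7), (8, 8, 8, 8), (7, 8, 8, 8), (9, 10, 9, 8), (9, 10, 9, 9), (7, 7, 8, 8), (9, 9, 9, 8),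
   (9, 9, 9, 9), (6, 5, 6, 7), (8, 7, 7, 7), (8, 7, 7, 8), (9, 8, 8, 8), (9, 9, 8, 8), (10, 11, 10, 9),
   (7, 6, 7, 8), (7, 7, 7, 8), (8, 9, 9, 9), (7, 6, 7, 7), (7, 7, 7, 7), (8, 9, 9, 8)]

/-- the value of a row -/
def rv (m a b c d : ℕ) (r : ℕ × ℕ × ℕ × ℕ) : ℕ :=
  Nat.mod (Nat.add (Nat.add (Nat.mul r.1 a) (Nat.mul r.2.1 b)) (Nat.add (Nat.mul r.2.2.1 c) (Nat.mul r.2.2.2 d))) m

/-- number of rows with value `T` -/
def cnt (m T a b c d : ℕ) : List (ℕ × ℕ × ℕ × ℕ) → ℕ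
  | [] => 0
  | r :: t => bif Nat.beq (rv m a b c d r) T then Nat.succ (cnt m T a b c d t) else cnt m T a b c d t

/-- number of rows with value `j` (corrected by the shift) -/
def nn (rows : List (ℕ × ℕ × ℕ × ℕ)) (m j a b c d : ℕ) : ℕ :=
  cnt m (Nat.mod (Nat.add j (Nat.mul 8 (Nat.add (Nat.add a b) (Nat.add c d)))) m) a b c d rows

/-- `f` holds below `n` -/
def allLT (f : ℕ → Bool) : ℕ → Bool
  | 0 => true
  | n + 1 => f n && allLT f n

theorem allLT_spec {f : ℕ → Bool} {n : ℕ} (h : allLT f n = true) : ∀ a < n, f a = true := by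
  induction n with
  | zero => intro a ha; omega
  | succ n ih =>
    rw [allLT, Bool.and_eq_true] at h
    intro a ha
    rcases Nat.lt_succ_iff_lt_or_eq.1 ha with h1 | h1
    · exact ih h.2 a h1
    · rw [h1]; exact h.1

theorem allLT_of {f : ℕ → Bool} : ∀ {n : ℕ}, (∀ a < n, f a = true) → allLT f n = true := by
  intro n
  induction n with
  | zero => intro _; rfl
  | succ n ih =>
    intro h
    rw [allLT, Bool.and_eq_true]
    exact ⟨h n (Nat.lt_succ_self n), ih fun a ha => h a (Nat.lt_succ_of_lt ha)⟩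

def all4 (f : ℕ → ℕ → ℕ → ℕ → Bool) (m : ℕ) : Bool :=
  allLT (fun a => allLT (fun b => allLT (fun c => allLT (f a b c) m) m) m) m

theorem all4_spec {f : ℕ → ℕ → ℕ → ℕ → Bool} {m : ℕ} (h : all4 f m = true) {a b c d : ℕ} (ha : a < m) (hb : b < m)
    (hc : c < m) (hd : d < m) : f a b c d = true :=
  allLT_spec (allLT_spec (allLT_spec (allLT_spec h a ha) b hb) c hc) d hd

def z4 (a b c d : ℕ) : Bool := Nat.beq (Nat.add (Nat.add a b) (Nat.add c d)) 0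

theorem z4_iff {a b c d : ℕ} : z4 a b c d = true ↔ a = 0 ∧ b = 0 ∧ c = 0 ∧ d = 0 := by
  unfold z4
  rw [Nat.beq_eq]
  show a + b + (c + d) = 0 ↔ _
  omega

/-- `m = 2` -/
def chk2 (a b c d : ℕ) : Bool :=
  z4 a b c d ||
  (Nat.beq (nn rowsJ 2 0 a b c d) 15 && Nat.beq (nn rowsJ 2 1 a b c d) 12 &&
    Nat.beq (nn rowsL 2 0 a b c d) 20 && Nat.beq (nn rowsL 2 1 a b c d) 28) ||
  (Nat.beq (nn rowsJ 2 0 a b c d) 11 && Nat.beq (nn rowsJ 2 1 a b c d) 16 &&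
    Nat.beq (nn rowsL 2 0 a b c d) 32 && Nat.beq (nn rowsL 2 1 a b c d) 16)

theorem chk2_all : all4 chk2 2 = true := by decide +kernel

/-- `m = 3` -/
def chk3 (a b c d : ℕ) : Bool :=
  z4 a b c d ||
  (Nat.beq (nn rowsJ 3 0 a b c d) 15 && Nat.beq (nn rowsJ 3 1 a b c d) 6 && Nat.beq (nn rowsJ 3 2 a b c d) 6 &&
    Nat.beq (nn rowsL 3 0 a b c d) 18 && Nat.beq (nn rowsL 3 1 a b c d) 15 && Nat.beq (nn rowsL 3 2 a b c d) 15) ||
  (Nat.beq (nn rowsJ 3 0 a b c d) 9 && Nat.beq (nn rowsJ 3 1 a b c d) 9 && Nat.beq (nn rowsJ 3 2 a b c d) 9 &&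
    Nat.beq (nn rowsL 3 0 a b c d) 18 && Nat.beq (nn rowsL 3 1 a b c d) 15 && Nat.beq (nn rowsL 3 2 a b c d) 15) ||
  (Nat.beq (nn rowsJ 3 0 a b c d) 9 && Nat.beq (nn rowsJ 3 1 a b c d) 9 && Nat.beq (nn rowsJ 3 2 a b c d) 9 &&
    Nat.beq (nn rowsL 3 0 a b c d) 12 && Nat.beq (nn rowsL 3 1 a b c d) 18 && Nat.beq (nn rowsL 3 2 a b c d) 18)

theorem chk3_all : all4 chk3 3 = true := by decide +kernel

/-- the numbers for `m = 4` -/
def q4 (a b c d j0 j1 j2 l0 l1 l2 : ℕ) : Bool :=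
  Nat.beq (nn rowsJ 4 0 a b c d) j0 && Nat.beq (nn rowsJ 4 1 a b c d) j1 && Nat.beq (nn rowsJ 4 2 a b c d) j2 &&
    Nat.beq (nn rowsJ 4 3 a b c d) j1 &&
    Nat.beq (nn rowsL 4 0 a b c d) l0 && Nat.beq (nn rowsL 4 1 a b c d) l1 && Nat.beq (nn rowsL 4 2 a b c d) l2 &&
    Nat.beq (nn rowsL 4 3 a b c d) l1

/-- `m = 4` -/
def chk4 (a b c d : ℕ) : Bool :=
  z4 (Nat.mod a 2) (Nat.mod b 2) (Nat.mod c 2) (Nat.mod d 2) ||
  q4 a b c d 9 6 6 8 14 12 || q4 a b c d 7 6 8 10 14 10 || q4 a b c d 5 8 6 14 8 18 || q4 a b c d 9 8 2 18 8 14 ||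
  q4 a b c d 15 6 0 18 14 2

theorem chk4_all_p0 :
    allLT (fun b => allLT (fun c => allLT (chk4 0 b c) 4) 4) 4 = true := by decide +kernel

theorem chk4_all_p1 :
    allLT (fun b => allLT (fun c => allLT (chk4 1 b c) 4) 4) 4 = true := by decide +kernel

theorem chk4_all_p2 :
    allLT (fun b => allLT (fun c => allLT (chk4 2 b c) 4) 4) 4 = true := by decide +kernel

theorem chk4_all_p3 :
    allLT (fun b => allLT (fun c => allLT (chk4 3 b c) 4) 4) 4 = true := by decide +kernel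

theorem chk4_all : all4 chk4 4 = true :=
  allLT_of fun a ha => by
    interval_cases a
    · exact chk4_all_p0
    · exact chk4_all_p1
    · exact chk4_all_p2
    · exact chk4_all_p3

/-- `m = 4`, symmetry -/
def chk4s (a b c d : ℕ) : Bool :=
  Nat.beq (nn rowsJ 4 1 a b c d) (nn rowsJ 4 3 a b c d)

theorem chk4s_all : all4 chk4s 4 = true := by decide +kernel

/-- `m = 5` -/
def chk5 (a b c d : ℕ) : Bool :=
  z4 a b c d ||
  (Nat.beq (nn rowsL 5 0 a b c d) 8 && (Nat.beq (nn rowsJ 5 0 a b c d) 5 || Nat.beq (nn rowsJ 5 0 a b c d) 7 ||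
    Nat.beq (nn rowsJ 5 0 a b c d) 9)) ||
  (Nat.beq (nn rowsL 5 0 a b c d) 18 && (Nat.beq (nn rowsJ 5 0 a b c d) 9 || Nat.beq (nn rowsJ 5 0 a b c d) 15))

theorem chk5_all_p0 :
    allLT (fun b => allLT (fun c => allLT (chk5 0 b c) 5) 5) 5 = true := by decide +kernel

theorem chk5_all_p1 :
    allLT (fun b => allLT (fun c => allLT (chk5 1 b c) 5) 5) 5 = true := by decide +kernel

theorem chk5_all_p2 :
    allLT (fun b => allLT (fun c => allLT (chk5 2 b c) 5) 5) 5 = true := by decide +kernel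

theorem chk5_all_p3 :
    allLT (fun b => allLT (fun c => allLT (chk5 3 b c) 5) 5) 5 = true := by decide +kernel

theorem chk5_all_p4 :
    allLT (fun b => allLT (fun c => allLT (chk5 4 b c) 5) 5) 5 = true := by decide +kernel

theorem chk5_all : all4 chk5 5 = true :=
  allLT_of fun a ha => by
    interval_cases a
    · exact chk5_all_p0
    · exact chk5_all_p1
    · exact chk5_all_p2
    · exact chk5_all_p3
    · exact chk5_all_p4

/-- `m = 5`, rational elements -/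
def chk5r (a b c d : ℕ) : Bool :=
  z4 a b c d || !(Nat.beq (nn rowsJ 5 1 a b c d) (nn rowsJ 5 2 a b c d)) ||
  (Nat.beq (nn rowsJ 5 0 a b c d) 7 && Nat.beq (nn rowsJ 5 1 a b c d) 5 && Nat.beq (nn rowsJ 5 2 a b c d) 5 &&
    Nat.beq (nn rowsJ 5 3 a b c d) 5 && Nat.beq (nn rowsJ 5 4 a b c d) 5 &&
    Nat.beq (nn rowsL 5 0 a b c d) 8 && Nat.beq (nn rowsL 5 1 a b c d) 10 && Nat.beq (nn rowsL 5 2 a b c d) 10 &&
    Nat.beq (nn rowsL 5 3 a b c d) 10 && Nat.beq (nn rowsL 5 4 a b c d) 10)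

theorem chk5r_all_p0 :
    allLT (fun b => allLT (fun c => allLT (chk5r 0 b c) 5) 5) 5 = true := by decide +kernel

theorem chk5r_all_p1 :
    allLT (fun b => allLT (fun c => allLT (chk5r 1 b c) 5) 5) 5 = true := by decide +kernel

theorem chk5r_all_p2 :
    allLT (fun b => allLT (fun c => allLT (chk5r 2 b c) 5) 5) 5 = true := by decide +kernel

theorem chk5r_all_p3 :
    allLT (fun b => allLT (fun c => allLT (chk5r 3 b c) 5) 5) 5 = true := by decide +kernel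

theorem chk5r_all_p4 :
    allLT (fun b => allLT (fun c => allLT (chk5r 4 b c) 5) 5) 5 = true := by decide +kernel

theorem chk5r_all : all4 chk5r 5 = true :=
  allLT_of fun a ha => by
    interval_cases a
    · exact chk5r_all_p0
    · exact chk5r_all_p1
    · exact chk5r_all_p2
    · exact chk5r_all_p3
    · exact chk5r_all_p4

/-- the numbers of `J` for `m = 7` -/
def q7 (a b c d j0 j1 : ℕ) : Bool :=
  Nat.beq (nn rowsJ 7 0 a b c d) j0 && Nat.beq (nn rowsJ 7 1 a b c d) j1 && Nat.beq (nn rowsJ 7 2 a b c d) j1 &&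
    Nat.beq (nn rowsJ 7 3 a b c d) j1 && Nat.beq (nn rowsJ 7 4 a b c d) j1 && Nat.beq (nn rowsJ 7 5 a b c d) j1 &&
    Nat.beq (nn rowsJ 7 6 a b c d) j1

/-- `m = 7`, rational elements -/
def chk7r (a b c d : ℕ) : Bool :=
  z4 a b c d || !(Nat.beq (nn rowsL 7 1 a b c d) (nn rowsL 7 2 a b c d)) ||
  !(Nat.beq (nn rowsL 7 2 a b c d) (nn rowsL 7 4 a b c d)) ||
  (Nat.beq (nn rowsL 7 0 a b c d) 6 && Nat.beq (nn rowsL 7 1 a b c d) 7 && Nat.beq (nn rowsL 7 2 a b c d) 7 &&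
    Nat.beq (nn rowsL 7 3 a b c d) 7 && Nat.beq (nn rowsL 7 4 a b c d) 7 && Nat.beq (nn rowsL 7 5 a b c d) 7 &&
    Nat.beq (nn rowsL 7 6 a b c d) 7 && (q7 a b c d 3 4 || q7 a b c d 9 3))

theorem chk7r_all_p0 :
    allLT (fun b => allLT (fun c => allLT (chk7r 0 b c) 7) 7) 7 = true := by decide +kernel

theorem chk7r_all_p1 :
    allLT (fun b => allLT (fun c => allLT (chk7r 1 b c) 7) 7) 7 = true := by decide +kernel

theorem chk7r_all_p2 :
    allLT (fun b => allLT (fun c => allLT (chk7r 2 b c) 7) 7) 7 = true := by decide +kernel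

theorem chk7r_all_p3 :
    allLT (fun b => allLT (fun c => allLT (chk7r 3 b c) 7) 7) 7 = true := by decide +kernel

theorem chk7r_all_p4 :
    allLT (fun b => allLT (fun c => allLT (chk7r 4 b c) 7) 7) 7 = true := by decide +kernel

theorem chk7r_all_p5 :
    allLT (fun b => allLT (fun c => allLT (chk7r 5 b c) 7) 7) 7 = true := by decide +kernel

theorem chk7r_all_p6 :
    allLT (fun b => allLT (fun c => allLT (chk7r 6 b c) 7) 7) 7 = true := by decide +kernel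

theorem chk7r_all : all4 chk7r 7 = true :=
  allLT_of fun a ha => by
    interval_cases a
    · exact chk7r_all_p0
    · exact chk7r_all_p1
    · exact chk7r_all_p2
    · exact chk7r_all_p3
    · exact chk7r_all_p4
    · exact chk7r_all_p5
    · exact chk7r_all_p6

end Cfsg.Agent.H952.F4.TabNum
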