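import Mathlib
import Cfsg.Agent.H952.F4.Defs2
import Cfsg.Agent.H952.F4.TabNum
import Cfsg.Agent.H944.TorAnyChev

/-!
# S5926: eigenspaces of diagonal matrices, and the counts `nn` (helper755)
-/

set_option autoImplicit false

namespace Cfsg.Agent.H952.F4.TabLin

open Cfsg Cfsg.Lie Module
open Cfsg.Agent.ChevalleyStructure Cfsg.Agent.ChevalleyStructure.RootVecTab Cfsg.Agent.ChevalleyStructure.RootVec
open Cfsg.Agent.ChevalleyStructure.E6Min.Tables Cfsg.Agent.ChevalleyStructure.E6Min.Basic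
open Cfsg.Agent.H952.F4.TabNum

/-! ### linear algebra -/

theorem ev_diag {K ι : Type*} [Field K] [Fintype ι] [DecidableEq ι] [DecidableEq K] (d : ι → K) (μ : K)
    {T : Module.End K (ι → K)} (hT : T = Matrix.toLin' (Matrix.diagonal d)) :
    ev T μ = (Finset.univ.filter fun i => d i = μ).card := by
  subst hT
  unfold ev
  have h1 : Module.End.eigenspace (Matrix.toLin' (Matrix.diagonal d)) μ =
      LinearMap.ker (Matrix.toLin' (Matrix.diagonal fun i => d i - μ)) := by
    rw [Module.End.eigenspace_def]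
    congr 1
    refine LinearMap.ext fun v => funext fun i => ?_
    rw [LinearMap.sub_apply, Pi.sub_apply, Matrix.toLin'_apply, Matrix.toLin'_apply, Matrix.mulVec_diagonal,
      Matrix.mulVec_diagonal, sub_mul]
    rfl
  rw [h1]
  have h2 := LinearMap.finrank_range_add_finrank_ker (Matrix.toLin' (Matrix.diagonal fun i => d i - μ))
  have h3 : finrank K ↥(LinearMap.range (Matrix.toLin' (Matrix.diagonal fun i => d i - μ))) =
      Fintype.card {i // d i - μ ≠ 0} := by
    have := Matrix.rank_diagonal (fun i => d i - μ)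
    rw [Matrix.rank, ← Matrix.toLin'_apply'] at this
    exact this
  rw [h3, Module.finrank_fintype_fun_eq_card] at h2
  have h4 : Fintype.card {i // d i - μ ≠ 0} = (Finset.univ.filter fun i => ¬ d i = μ).card := by
    rw [Fintype.card_subtype]
    congr 1
    ext i
    simp [sub_eq_zero]
  have h5 := Finset.card_filter_add_card_filter_not (s := (Finset.univ : Finset ι)) (fun i => d i = μ)
  rw [Finset.card_univ] at h5
  omega

theorem trace_diag {K ι : Type*} [Field K] [Fintype ι] [DecidableEq ι] (d : ι → K)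
    {T : Module.End K (ι → K)} (hT : T = Matrix.toLin' (Matrix.diagonal d)) :
    LinearMap.trace K (ι → K) T = ∑ i, d i := by
  rw [hT, Matrix.trace_toLin'_eq, Matrix.trace_diagonal]

section conj

variable {K V G : Type*} [Field K] [AddCommGroup V] [Module K V] [Group G]

theorem ev_conj (ρ : Representation K G V) (g x : G) (μ : K) : ev (ρ (g * x * g⁻¹)) μ = ev (ρ x) μ := by
  unfold ev
  let e : V ≃ₗ[K] V := LinearEquiv.ofLinearMap (ρ g) (ρ g⁻¹)
    (by rw [← Module.End.mul_eq_comp, ← map_mul, mul_inv_cancel, map_one]; rfl)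
    (by rw [← Module.End.mul_eq_comp, ← map_mul, inv_mul_cancel, map_one]; rfl)
  have h1 : Module.End.eigenspace (ρ (g * x * g⁻¹)) μ = (Module.End.eigenspace (ρ x) μ).map (e : V →ₗ[K] V) := by
    ext v
    rw [Submodule.mem_map, Module.End.mem_eigenspace_iff]
    constructor
    · intro h
      refine ⟨ρ g⁻¹ v, ?_, ?_⟩
      · rw [Module.End.mem_eigenspace_iff]
        have h2 : ρ x (ρ g⁻¹ v) = ρ g⁻¹ (ρ (g * x * g⁻¹) v) := by
          rw [← Module.End.mul_apply, ← Module.End.mul_apply, ← map_mul, ← map_mul]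
          congr 2
          group
        rw [h2, h, map_smul]
      · show ρ g (ρ g⁻¹ v) = v
        rw [← Module.End.mul_apply, ← map_mul, mul_inv_cancel, map_one]
        rfl
    · rintro ⟨w, hw, rfl⟩
      rw [Module.End.mem_eigenspace_iff] at hw
      show ρ (g * x * g⁻¹) (ρ g w) = μ • ρ g w
      have h2 : ρ (g * x * g⁻¹) (ρ g w) = ρ g (ρ x w) := by
        rw [← Module.End.mul_apply, ← Module.End.mul_apply, ← map_mul, ← map_mul]
        congr 2
        group
      rw [h2, hw, map_smul]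
  rw [h1]
  exact LinearEquiv.finrank_map_eq e _

theorem trace_conj (ρ : Representation K G V) (g x : G) :
    LinearMap.trace K V (ρ (g * x * g⁻¹)) = LinearMap.trace K V (ρ x) := by
  rw [map_mul ρ, map_mul ρ, mul_assoc, LinearMap.trace_mul_comm, mul_assoc, ← map_mul ρ, inv_mul_cancel, map_one,
    mul_one]

end conj

/-! ### counting -/

theorem countP_ofFn {α : Type*} (p : α → Bool) : ∀ (n : ℕ) (f : Fin n → α),
    (List.ofFn f).countP p = ∑ i, if p (f i) then 1 else 0
  | 0, f => by simp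
  | n + 1, f => by
    rw [List.ofFn_succ, List.countP_cons, countP_ofFn p n, Fin.sum_univ_succ, add_comm]

theorem cnt_eq (m T a b c d : ℕ) (l : List (ℕ × ℕ × ℕ × ℕ)) :
    cnt m T a b c d l = l.countP fun r => Nat.beq (rv m a b c d r) T := by
  induction l with
  | nil => rfl
  | cons r t ih =>
    rw [List.countP_cons, cnt, ih]
    cases Nat.beq (rv m a b c d r) T <;> simp

theorem rowsL_ofFn : rowsL = List.ofFn fun s : Fin 48 => rowsL.getD s (8, 8, 8, 8) := by decide +kernel

theorem rowsJ_ofFn : rowsJ = List.ofFn fun s : Fin 27 => rowsJ.getD s (8, 8, 8, 8) := by decide +kernel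

theorem rowsL_spec : ∀ s : Fin 48, rowsL.getD s (8, 8, 8, 8) =
    (dig (RootVecTab.code chevF4 s) 3, dig (RootVecTab.code chevF4 s) 2, dig (RootVecTab.code chevF4 s) 1,
      dig (RootVecTab.code chevF4 s) 0) := by decide +kernel

theorem rowsJ_spec : ∀ n : Fin 27, rowsJ.getD n (8, 8, 8, 8) =
    if wtab.getD n 48 = 48 then (8, 8, 8, 8) else rowsL.getD (wtab.getD n 48) (8, 8, 8, 8) := by decide +kernel

theorem wtab_spec : ∀ n : Fin 27, wtab.getD n 48 = 48 ∨ wtab.getD n 48 < 48 := by decide +kernel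

/-- the value of a row as a unit -/
def val {K : Type*} [Field K] (z : Kˣ) (a : Fin 4 → ℕ) (r : ℕ × ℕ × ℕ × ℕ) : Kˣ :=
  z ^ (((r.1 : ℤ) - 8) * a 0 + ((r.2.1 : ℤ) - 8) * a 1 + ((r.2.2.1 : ℤ) - 8) * a 2 + ((r.2.2.2 : ℤ) - 8) * a 3)

theorem val_eq_iff {K : Type*} [Field K] {z : Kˣ} {m : ℕ} (hz : orderOf z = m) (a : Fin 4 → ℕ)
    (r : ℕ × ℕ × ℕ × ℕ) (j : ℕ) : val z a r = z ^ j ↔
    Nat.beq (rv m (a 0) (a 1) (a 2) (a 3) r)
      (Nat.mod (Nat.add j (Nat.mul 8 (Nat.add (Nat.add (a 0) (a 1)) (Nat.add (a 2) (a 3))))) m) = true := by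
  rw [Nat.beq_eq]
  show _ ↔ (r.1 * a 0 + r.2.1 * a 1 + (r.2.2.1 * a 2 + r.2.2.2 * a 3)) % m =
    (j + 8 * (a 0 + a 1 + (a 2 + a 3))) % m
  have h1 : val z a r * z ^ (8 * (a 0 + a 1 + (a 2 + a 3))) =
      z ^ (r.1 * a 0 + r.2.1 * a 1 + (r.2.2.1 * a 2 + r.2.2.2 * a 3)) := by
    unfold val
    rw [← zpow_natCast, ← zpow_natCast, ← zpow_add]
    congr 1
    push_cast
    ring
  rw [← mul_left_inj (z ^ (8 * (a 0 + a 1 + (a 2 + a 3)))), h1, ← pow_add, pow_eq_pow_iff_modEq, hz]
  rfl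

/-- the number of indices of `L` -/
theorem card_L {K : Type*} [Field K] [DecidableEq K] {z : Kˣ} {m : ℕ} (hz : orderOf z = m) (a : Fin 4 → ℕ) (j : ℕ) :
    (Finset.univ.filter fun s : Fin 48 => ((val z a (rowsL.getD s (8, 8, 8, 8)) : Kˣ) : K) = ((z ^ j : Kˣ) : K)).card =
      nn rowsL m j (a 0) (a 1) (a 2) (a 3) := by
  unfold nn
  rw [cnt_eq, rowsL_ofFn, countP_ofFn, ← rowsL_ofFn, Finset.card_filter]
  refine Finset.sum_congr rfl fun s _ => ?_
  exact if_congr (Units.val_inj.trans (val_eq_iff hz a _ j)) rfl rfl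

/-- the number of indices of `J` -/
theorem card_J {K : Type*} [Field K] [DecidableEq K] {z : Kˣ} {m : ℕ} (hz : orderOf z = m) (a : Fin 4 → ℕ) (j : ℕ) :
    (Finset.univ.filter fun x : I27 => ((val z a (rowsJ.getD (E6Min.Tables.code x) (8, 8, 8, 8)) : Kˣ) : K) =
      ((z ^ j : Kˣ) : K)).card = nn rowsJ m j (a 0) (a 1) (a 2) (a 3) := by
  unfold nn
  rw [cnt_eq, rowsJ_ofFn, countP_ofFn, ← rowsJ_ofFn, Finset.card_filter]
  have hb : Function.Bijective (fun x : I27 => (⟨E6Min.Tables.code x, E6Min.Tables.code_lt x⟩ : Fin 27)) := by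
    refine (Fintype.bijective_iff_injective_and_card _).2 ⟨?_, by decide⟩
    intro x y h
    exact E6Min.Tables.code_injective (Fin.mk.inj_iff.1 h)
  refine Fintype.sum_bijective _ hb _ _ fun x => ?_
  exact if_congr (Units.val_inj.trans (val_eq_iff hz a _ j)) rfl rfl

/-- sum over the fibres -/
theorem sum_fib {K ι : Type*} [Field K] [DecidableEq K] [Fintype ι] {ζ : K} {m : ℕ} (hζ : IsPrimitiveRoot ζ m)
    (hm : m ≠ 0) (d : ι → K) (hd : ∀ i, d i ^ m = 1) :
    ∑ i, d i = ∑ j ∈ Finset.range m, ((Finset.univ.filter fun i => d i = ζ ^ j).card : K) * ζ ^ j := by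
  have : NeZero m := ⟨hm⟩
  have h1 : ∀ i, ∃ j < m, ζ ^ j = d i := fun i => by
    obtain ⟨j, hj, h⟩ := hζ.eq_pow_of_pow_eq_one (hd i)
    exact ⟨j, hj, h⟩
  choose e he1 he2 using h1
  have h2 : ∀ i j, j < m → (d i = ζ ^ j ↔ e i = j) := by
    intro i j hj
    rw [← he2 i]
    constructor
    · intro h
      exact hζ.pow_inj (he1 i) hj h
    · rintro rfl
      rfl
  rw [← Finset.sum_fiberwise_of_maps_to (s := Finset.univ) (t := Finset.range m) (g := e)
    (fun i _ => Finset.mem_range.2 (he1 i)) d]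
  refine Finset.sum_congr rfl fun j hj => ?_
  have h3 : (Finset.univ.filter fun i => d i = ζ ^ j) = Finset.univ.filter fun i => e i = j := by
    ext i
    simp only [Finset.mem_filter, Finset.mem_univ, true_and]
    exact h2 i j (Finset.mem_range.1 hj)
  rw [h3, Finset.sum_congr rfl (g := fun _ => ζ ^ j), Finset.sum_const, nsmul_eq_mul]
  intro i hi
  rw [← (Finset.mem_filter.1 hi).2]
  exact (he2 i).symm

end Cfsg.Agent.H952.F4.TabLin
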