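import Cfsg.Agent.H952.F4.Defs2
import Cfsg.Agent.H944.RootVals
import Cfsg.Agent.ChevalleyStructure.E6Min.Torus

/-!
# Simultaneous diagonal form of the torus elements of `F₄` on the adjoint and the 27-dimensional module (S5926, F-E1)
-/

set_option autoImplicit false

namespace Cfsg.Agent.H815.F4Tor

open Cfsg Cfsg.Lie Module Cfsg.Agent.H952.F4
open Cfsg.Agent.ChevalleyStructure Cfsg.Agent.ChevalleyStructure.Elts Cfsg.Agent.ChevalleyStructure.RootVecTab
open Cfsg.Agent.ChevalleyStructure.E6Min.Tables Cfsg.Agent.ChevalleyStructure.E6Min.Basic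
  Cfsg.Agent.ChevalleyStructure.E6Min.Checks Cfsg.Agent.ChevalleyStructure.E6Min.Checks2
open Cfsg.Agent.GpExc.Field (emb)
open Cfsg.Agent.BpExc.TorAll Cfsg.Agent.BpExc.TorChev
open Cfsg.Agent.Tits.Roots Cfsg.Agent.Nodes.BNOf Cfsg.Agent.Nodes.RGDChev Cfsg.Agent.KFacts.RgdChevCoord
open Cfsg.Agent.ChevalleyStructure.CoxeterGeomTypes

universe u

theorem typeF4 : IsType chevF4 4 CoxeterMatrix.F₄ := by simp [IsType, typeList]

section Mat

variable {K : Type u} [Field K]

/-- the diagonal entries of `h_r(a)` of `E₆` -/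
def dE (r : ℕ) (a : K) : I27 → K := fun x => a ^ (ind r x - ind (71 - r) x)

/-- `n_r(c) n_r(-d)` for `E₆` -/
theorem nn_eq {r : ℕ} (hr : r < 72) {c d a : K} (hc : c ≠ 0) (hd : d ≠ 0) (ha : c = a * d) :
    (zM r c * zM (71 - r) (-c⁻¹) * zM r c) * (zM r (-d) * zM (71 - r) (-(-d)⁻¹) * zM r (-d)) =
      Matrix.diagonal (dE r a) := by
  have ha0 : a ≠ 0 := by
    rintro rfl
    rw [zero_mul] at ha
    exact hc ha
  rw [E6Min.Torus.nM_eq hr hc, E6Min.Torus.nM_eq hr (neg_ne_zero.2 hd)]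
  have hr' : 71 - r < 72 := by omega
  have h1 : Nm K r * Nm K r = 0 := Nm_sq hr
  have h1' : Nm K (71 - r) * Nm K (71 - r) = 0 := Nm_sq hr'
  have h2 : Nm K r * Nm K (71 - r) * Nm K r = Nm K r := Nm_mul_opp_mul hr
  have h2' : Nm K (71 - r) * Nm K r * Nm K (71 - r) = Nm K (71 - r) := by
    have := Nm_mul_opp_mul (F := K) hr'
    rwa [opp_opp hr] at this
  have key : (1 - Nm K r * Nm K (71 - r) - Nm K (71 - r) * Nm K r + c • Nm K r - c⁻¹ • Nm K (71 - r)) *
      (1 - Nm K r * Nm K (71 - r) - Nm K (71 - r) * Nm K r + (-d) • Nm K r - (-d)⁻¹ • Nm K (71 - r)) =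
      1 + (a - 1) • (Nm K r * Nm K (71 - r)) + (a⁻¹ - 1) • (Nm K (71 - r) * Nm K r) := by
    have e1 : c * d⁻¹ = a := by rw [ha, mul_assoc, mul_inv_cancel₀ hd, mul_one]
    have e2 : c⁻¹ * d = a⁻¹ := by rw [ha, mul_inv, mul_assoc, inv_mul_cancel₀ hd, mul_one]
    generalize Nm K r = N at *
    generalize Nm K (71 - r) = M at *
    have h3 : N * (M * N) = N := by rw [← mul_assoc, h2]
    have h3' : M * (N * M) = M := by rw [← mul_assoc, h2']
    have h4 : N * (N * M) = 0 := by rw [← mul_assoc, h1, zero_mul]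
    have h4' : M * (M * N) = 0 := by rw [← mul_assoc, h1', zero_mul]
    have h5 : N * M * M = 0 := by rw [mul_assoc, h1', mul_zero]
    have h5' : M * N * N = 0 := by rw [mul_assoc, h1, mul_zero]
    have h6 : N * M * (N * M) = N * M := by rw [← mul_assoc, h2]
    have h6' : M * N * (M * N) = M * N := by rw [← mul_assoc, h2']
    have h7 : N * M * (M * N) = 0 := by rw [← mul_assoc, h5, zero_mul]
    have h7' : M * N * (N * M) = 0 := by rw [← mul_assoc, h5', zero_mul]
    rw [← e2, ← e1]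
    simp only [add_mul, sub_mul, mul_add, mul_sub, mul_one, one_mul, smul_mul_assoc, mul_smul_comm, neg_smul,
      mul_neg, h1, h1', h2, h2', h3, h3', h4, h4', h5, h5', h6, h6', h7, h7', inv_neg,
      smul_zero, sub_smul, one_smul]
    module
  rw [key, Nm_mul_opp hr, Nm_opp_mul hr]
  ext x y
  simp only [Matrix.add_apply, Matrix.smul_apply, Matrix.diagonal_apply, Matrix.one_apply, smul_eq_mul]
  by_cases hxy : x = y
  · subst hxy
    simp only [if_true, dE]
    by_cases h8 : sg r x = 0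
    · by_cases h9 : sg (71 - r) x = 0
      · rw [ind_of_eq h8, ind_of_eq h9]; simp
      · rw [ind_of_eq h8, ind_of_ne h9]; simp
    · rw [ind_of_ne h8, ind_of_eq (row_opp hr h8).2.2]; simp
  · simp only [hxy, if_false]; simp

/-- two commuting `E₆` root subgroups -/
theorem zM_comm {e e' : ℕ} (he : e < 72) (he' : e' < 72) (h : e' + e ≠ 71) (hk : kN e e' = 127) (s t : K) :
    Commute (zM e s) (zM e' t) := by
  have h1 := Nm_comm_of_none (F := K) he he' h hk
  show zM e s * zM e' t = zM e' t * zM e s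
  simp only [zM_def, add_mul, mul_add, mul_one, one_mul, smul_mul_smul_comm, h1, mul_comm t s]
  abel

omit [Field K] in
theorem word_comm {M : Type*} [Monoid M] {A₁ A₂ B₁ B₂ : M} (h1 : Commute B₁ A₂) (h2 : Commute B₁ B₂)
    (h3 : Commute A₁ A₂) (h4 : Commute A₁ B₂) :
    (A₁ * A₂) * ((B₂ * B₁) * (A₁ * A₂)) = (A₁ * B₁ * A₁) * (A₂ * B₂ * A₂) := by
  have hc : Commute (A₂ * B₂) (B₁ * A₁) := (h1.symm.mul_right h3.symm).mul_left (h2.symm.mul_right h4.symm)
  calc (A₁ * A₂) * ((B₂ * B₁) * (A₁ * A₂)) = A₁ * ((A₂ * B₂) * (B₁ * A₁)) * A₂ := by simp only [mul_assoc]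
    _ = A₁ * ((B₁ * A₁) * (A₂ * B₂)) * A₂ := by rw [hc.eq]
    _ = _ := by simp only [mul_assoc]

theorem yM_one {r e : ℕ} {s : ℤ} (h : dat.getD r [] = [(e, s)]) (t : K) : yM r t = zM e ((s : K) * t) := by
  rw [yM, h]; simp

theorem yM_two {r e e' : ℕ} {s s' : ℤ} (h : dat.getD r [] = [(e, s), (e', s')]) (t : K) :
    yM r t = zM e ((s : K) * t) * zM e' ((s' : K) * t) := by
  rw [yM, h]; simp

/-- the word of `h_j(a)` -/
def hY (r r' : ℕ) (a : K) : Matrix I27 I27 K :=
  (yM r a * (yM r' (-a⁻¹) * yM r a)) * (yM r (-1) * (yM r' (-(-1)⁻¹) * yM r (-1)))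

theorem hY_long {r r' e : ℕ} (he : e < 72) (h : dat.getD r [] = [(e, 1)]) (h' : dat.getD r' [] = [(71 - e, 1)])
    {a : K} (ha : a ≠ 0) : hY r r' a = Matrix.diagonal (dE e a) := by
  have := nn_eq he (c := a) (d := 1) (a := a) ha one_ne_zero (mul_one a).symm
  rw [← this, hY, yM_one h, yM_one h, yM_one h', yM_one h']
  simp only [Int.cast_one, one_mul, mul_assoc]

theorem hY_short {r r' e e' : ℕ} {s s' : ℤ} (he : e < 72) (he' : e' < 72) (hs : s = 1 ∨ s = -1)
    (hs' : s' = 1 ∨ s' = -1) (h : dat.getD r [] = [(e, s), (e', s')])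
    (h' : dat.getD r' [] = [(71 - e', s'), (71 - e, s)])
    (k1 : kN e e' = 127 ∧ e' + e ≠ 71) (k2 : kN e (71 - e') = 127 ∧ (71 - e') + e ≠ 71)
    (k3 : kN (71 - e) e' = 127 ∧ e' + (71 - e) ≠ 71) (k4 : kN (71 - e) (71 - e') = 127 ∧ (71 - e') + (71 - e) ≠ 71)
    {a : K} (ha : a ≠ 0) : hY r r' a = Matrix.diagonal (dE e a) * Matrix.diagonal (dE e' a) := by
  have hsK : (s : K) ≠ 0 ∧ (s : K)⁻¹ = s := by rcases hs with rfl | rfl <;> simp
  have hsK' : (s' : K) ≠ 0 ∧ (s' : K)⁻¹ = s' := by rcases hs' with rfl | rfl <;> simp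
  have h1 := nn_eq he (c := s * a) (d := s) (a := a) (mul_ne_zero hsK.1 ha) hsK.1 (mul_comm _ _)
  have h2 := nn_eq he' (c := s' * a) (d := s') (a := a) (mul_ne_zero hsK'.1 ha) hsK'.1 (mul_comm _ _)
  have c1 : ∀ x y : K, Commute (zM e x) (zM e' y) := fun x y => zM_comm he he' k1.2 k1.1 x y
  have c2 : ∀ x y : K, Commute (zM e x) (zM (71 - e') y) := fun x y => zM_comm he (by omega) k2.2 k2.1 x y
  have c3 : ∀ x y : K, Commute (zM (71 - e) x) (zM e' y) := fun x y => zM_comm (by omega) he' k3.2 k3.1 x y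
  have c4 : ∀ x y : K, Commute (zM (71 - e) x) (zM (71 - e') y) :=
    fun x y => zM_comm (by omega) (by omega) k4.2 k4.1 x y
  have hn : ∀ b : K, yM r b * (yM r' (-b⁻¹) * yM r b) =
      (zM e (s * b) * zM (71 - e) (-(s * b)⁻¹) * zM e (s * b)) *
      (zM e' (s' * b) * zM (71 - e') (-(s' * b)⁻¹) * zM e' (s' * b)) := by
    intro b
    have e1 : (s : K) * -b⁻¹ = -(s * b)⁻¹ := by rw [mul_inv, hsK.2]; ring
    have e2 : (s' : K) * -b⁻¹ = -(s' * b)⁻¹ := by rw [mul_inv, hsK'.2]; ring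
    rw [yM_two h, yM_two h', e1, e2]
    exact word_comm (c3 _ _) (c4 _ _) (c1 _ _) (c2 _ _)
  rw [hY, hn, hn]
  have e3 : (s : K) * -1 = -s := by ring
  have e4 : (s' : K) * -1 = -s' := by ring
  rw [e3, e4]
  have hcc : ∀ x y z x' y' z' : K, Commute (zM e' x * zM (71 - e') y * zM e' z) (zM e x' * zM (71 - e) y' * zM e z') := by
    intro x y z x' y' z'
    refine Commute.mul_left (Commute.mul_left ?_ ?_) ?_
    · exact ((c1 _ _).symm.mul_right (c3 _ _).symm).mul_right (c1 _ _).symm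
    · exact ((c2 _ _).symm.mul_right (c4 _ _).symm).mul_right (c2 _ _).symm
    · exact ((c1 _ _).symm.mul_right (c3 _ _).symm).mul_right (c1 _ _).symm
  rw [← h1, ← h2, mul_assoc, ← mul_assoc (zM e' (s' * a) * _ * _), (hcc _ _ _ _ _ _).eq]
  simp only [mul_assoc]

end Mat

section Grp

variable {K : Type u} [Field K] {ρ : ↥(chevF4.group K) →* GL I27 K}

/-- root elements in the group -/
noncomputable def xg (r : ℕ) (t : K) : ↥(chevF4.group K) := ⟨xG hF4 r t, xG_mem_group hF4 r t⟩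

theorem rho_xg (hρ : IsJ ρ) {r : ℕ} (hr : r < chevF4.nroots) (t : K) :
    ((ρ (xg r t) : GL I27 K) : Matrix I27 I27 K) = yM r t :=
  hρ ⟨r, hr⟩ t (xg r t) (by
    show ((xG hF4 r t : GL chevF4.Idx K) : Matrix chevF4.Idx chevF4.Idx K) = _
    rw [coe_xG, x_of_lt hr])

theorem hc_eq (j : Fin 4) (a : K) : hc typeF4 j a =
    (xg (chevF4.simple j) a * (xg (chevF4.neg (chevF4.simple j)) (-a⁻¹) * xg (chevF4.simple j) a)) *
    (xg (chevF4.simple j) (-1) * (xg (chevF4.neg (chevF4.simple j)) (-(-1)⁻¹) * xg (chevF4.simple j) (-1))) := by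
  apply Subtype.ext
  show hG _ _ _ = _
  rw [hG_def, nG_def, nG_def]
  rfl

theorem rho_hc (hρ : IsJ ρ) (j : Fin 4) (a : K) : ((ρ (hc typeF4 j a) : GL I27 K) : Matrix I27 I27 K) =
    hY (chevF4.simple j) (chevF4.neg (chevF4.simple j)) a := by
  have h1 : chevF4.simple j < chevF4.nroots := by fin_cases j <;> decide
  have h2 : chevF4.neg (chevF4.simple j) < chevF4.nroots := by fin_cases j <;> decide
  rw [hc_eq]
  simp only [map_mul, Units.val_mul, rho_xg hρ h1, rho_xg hρ h2]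
  rfl

theorem chk0 : (allLt 27 fun c => (indN 3 c - indN 68 c + (indN 5 c - indN 66 c)) ==
    (if wtab.getD c 48 = 48 then 0 else chevF4.cartan 0 (wtab.getD c 48))) = true := by
  decide +kernel

theorem chk1 : (allLt 27 fun c => (indN 36 c - indN 35 c + (indN 56 c - indN 15 c)) ==
    (if wtab.getD c 48 = 48 then 0 else chevF4.cartan 1 (wtab.getD c 48))) = true := by
  decide +kernel

theorem chk2 : (allLt 27 fun c => (indN 44 c - indN 27 c) ==
    (if wtab.getD c 48 = 48 then 0 else chevF4.cartan 2 (wtab.getD c 48))) = true := by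
  decide +kernel

theorem chk3 : (allLt 27 fun c => (indN 46 c - indN 25 c) ==
    (if wtab.getD c 48 = 48 then 0 else chevF4.cartan 3 (wtab.getD c 48))) = true := by
  decide +kernel

/-- the weights on the 27-dimensional module -/
def wx (j : ℕ) (x : I27) : ℤ := if wtab.getD (code x) 48 = 48 then 0 else chevF4.cartan j (wtab.getD (code x) 48)

theorem hY_eq (j : Fin 4) {a : K} (ha : a ≠ 0) : hY (chevF4.simple j) (chevF4.neg (chevF4.simple j)) a =
    Matrix.diagonal fun x => a ^ wx j x := by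
  fin_cases j
  · show hY 33 14 a = _
    rw [hY_short (e := 3) (e' := 5) (s := 1) (s' := -1) (by norm_num) (by norm_num) (Or.inl rfl) (Or.inr rfl) rfl rfl
      (by decide +kernel) (by decide +kernel) (by decide +kernel) (by decide +kernel) ha, Matrix.diagonal_mul_diagonal]
    congr 1
    funext x
    have h := allLt_spec chk0 _ (code_lt x)
    rw [beq_iff_eq] at h
    show a ^ (ind 3 x - ind 68 x) * a ^ (ind 5 x - ind 66 x) = a ^ wx 0 x
    rw [← zpow_add₀ ha]
    exact congrArg (fun n => a ^ n) h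
  · show hY 27 20 a = _
    rw [hY_short (e := 36) (e' := 56) (s := 1) (s' := -1) (by norm_num) (by norm_num) (Or.inl rfl) (Or.inr rfl) rfl rfl
      (by decide +kernel) (by decide +kernel) (by decide +kernel) (by decide +kernel) ha, Matrix.diagonal_mul_diagonal]
    congr 1
    funext x
    have h := allLt_spec chk1 _ (code_lt x)
    rw [beq_iff_eq] at h
    show a ^ (ind 36 x - ind 35 x) * a ^ (ind 56 x - ind 15 x) = a ^ wx 1 x
    rw [← zpow_add₀ ha]
    exact congrArg (fun n => a ^ n) h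
  · show hY 25 22 a = _
    rw [hY_long (e := 44) (by norm_num) rfl rfl ha]
    congr 1
    funext x
    have h := allLt_spec chk2 _ (code_lt x)
    rw [beq_iff_eq] at h
    show a ^ (ind 44 x - ind 27 x) = a ^ wx 2 x
    exact congrArg (fun n => a ^ n) h
  · show hY 24 23 a = _
    rw [hY_long (e := 46) (by norm_num) rfl rfl ha]
    congr 1
    funext x
    have h := allLt_spec chk3 _ (code_lt x)
    rw [beq_iff_eq] at h
    show a ^ (ind 46 x - ind 25 x) = a ^ wx 3 x
    exact congrArg (fun n => a ^ n) h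

theorem wtab_lt (x : I27) (h : wtab.getD (code x) 48 ≠ 48) : wtab.getD (code x) 48 < chevF4.nroots := by
  have h0 : (allLt 27 fun c => (wtab.getD c 48 == 48) || Nat.blt (wtab.getD c 48) 48) = true := by decide +kernel
  have h1 := allLt_spec h0 _ (code_lt x)
  rw [Bool.or_eq_true, beq_iff_eq, Nat.blt_eq] at h1
  exact h1.resolve_left h

/-- the torus elements with given characters -/
structure IsDg (ρ : ↥(chevF4.group K) →* GL I27 K) (c : Fin 4 → Kˣ) (t : ↥(chevF4.group K)) : Prop where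
  l : (((t : ↥(chevF4.group K)) : GL chevF4.Idx K) : Matrix chevF4.Idx chevF4.Idx K) =
        Matrix.diagonal (Sum.elim (fun _ => (1 : K)) (fun s : Fin chevF4.nroots =>
          ((∏ i, c i ^ (vec chevF4 4 s i) : Kˣ) : K)))
  j : ((ρ t : GL I27 K) : Matrix I27 I27 K) = Matrix.diagonal (fun x : I27 =>
        if wtab.getD (code x) 48 = 48 then (1 : K) else ((∏ i, c i ^ (vec chevF4 4 (wtab.getD (code x) 48) i) : Kˣ) : K))

theorem IsDg.mul {c d : Fin 4 → Kˣ} {s t : ↥(chevF4.group K)} (h : IsDg ρ c s) (h' : IsDg ρ d t) :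
    IsDg ρ (c * d) (s * t) := by
  have key : ∀ n : Fin 4 → ℤ, ∏ i, (c * d) i ^ n i = (∏ i, c i ^ n i) * ∏ i, d i ^ n i := by
    intro n
    rw [← Finset.prod_mul_distrib]
    exact Finset.prod_congr rfl fun j _ => mul_zpow _ _ _
  constructor
  · rw [Subgroup.coe_mul, Units.val_mul, h.l, h'.l, Matrix.diagonal_mul_diagonal]
    congr 1
    funext i
    rcases i with i | i
    · simp
    · simp only [Sum.elim_inr, key, Units.val_mul]
  · rw [map_mul, Units.val_mul, h.j, h'.j, Matrix.diagonal_mul_diagonal]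
    congr 1
    funext x
    by_cases hx : wtab.getD (code x) 48 = 48
    · simp only [if_pos hx, mul_one]
    · simp only [if_neg hx, key, Units.val_mul]

theorem IsDg.one : IsDg ρ 1 1 := by
  constructor
  · rw [Subgroup.coe_one, Units.val_one, ← Matrix.diagonal_one]
    congr 1
    funext i
    rcases i with i | i <;> simp
  · rw [map_one, Units.val_one, ← Matrix.diagonal_one]
    congr 1
    funext x
    split_ifs <;> simp

theorem eq_of_diag_mul {ι : Type*} [Fintype ι] [DecidableEq ι] {A : GL ι K} {d : ι → K}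
    (hA : (A : Matrix ι ι K) * Matrix.diagonal d = 1) : ((A⁻¹ : GL ι K) : Matrix ι ι K) = Matrix.diagonal d := by
  rw [Matrix.coe_units_inv]
  exact Matrix.inv_eq_right_inv hA

theorem IsDg.inv {c : Fin 4 → Kˣ} {t : ↥(chevF4.group K)} (h : IsDg ρ c t) : IsDg ρ c⁻¹ t⁻¹ := by
  have key : ∀ n : Fin 4 → ℤ, (∏ i, c i ^ n i) * ∏ i, (c⁻¹) i ^ n i = 1 := by
    intro n
    rw [← Finset.prod_mul_distrib]
    refine Finset.prod_eq_one fun j _ => ?_
    rw [Pi.inv_apply, inv_zpow, mul_inv_cancel]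
  constructor
  · rw [Subgroup.coe_inv]
    refine eq_of_diag_mul ?_
    rw [h.l, Matrix.diagonal_mul_diagonal, ← Matrix.diagonal_one]
    congr 1
    funext i
    rcases i with i | i
    · simp
    · simp only [Sum.elim_inr]
      rw [← Units.val_mul, key, Units.val_one]
  · rw [map_inv]
    refine eq_of_diag_mul ?_
    rw [h.j, Matrix.diagonal_mul_diagonal, ← Matrix.diagonal_one]
    congr 1
    funext x
    by_cases hx : wtab.getD (code x) 48 = 48
    · simp only [if_pos hx, mul_one]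
    · simp only [if_neg hx]
      rw [← Units.val_mul, key, Units.val_one]

theorem prod_pow (a : Kˣ) (n : Fin 4 → ℤ) : ∏ i, a ^ n i = a ^ ∑ i, n i := by
  have h3 : ∀ (S : Finset (Fin 4)), ∏ i ∈ S, a ^ (n i) = a ^ (∑ i ∈ S, n i) := by
    intro S
    induction S using Finset.induction_on with
    | empty => simp
    | insert b S hb ih => rw [Finset.prod_insert hb, Finset.sum_insert hb, zpow_add, ih]
  exact h3 _

theorem prod_cartan (j : Fin 4) (a : Kˣ) {s : ℕ} (hs : s < chevF4.nroots) :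
    ∏ i, (a ^ (cartanOf chevF4 4 j i)) ^ (vec chevF4 4 s i) = a ^ (chevF4.cartan j s) := by
  rw [← pairing_vec typeF4 j hs]
  have h5 : ∀ i ∈ (Finset.univ : Finset (Fin 4)), (a ^ (cartanOf chevF4 4 j i)) ^ (vec chevF4 4 s i) =
      a ^ (cartanOf chevF4 4 j i * vec chevF4 4 s i) := fun i _ => (zpow_mul _ _ _).symm
  rw [Finset.prod_congr rfl h5, prod_pow]
  rfl

theorem isDg_hc (hρ : IsJ ρ) (j : Fin 4) {a : K} (ha : a ≠ 0) :
    IsDg ρ (fun i => (Units.mk0 a ha) ^ (cartanOf chevF4 4 j i)) (hc typeF4 j a) := by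
  constructor
  · have h2 : (((hc typeF4 j a : ↥(chevF4.group K)) : GL chevF4.Idx K) : Matrix chevF4.Idx chevF4.Idx K) =
        chevF4.hMat K (chevF4.simple j) a := by
      show ((hG typeF4.inList (chevF4.simple j) a : GL chevF4.Idx K) : Matrix chevF4.Idx chevF4.Idx K) = _
      exact coe_hG typeF4.inList _ _
    rw [h2, Cfsg.Agent.S1033.result (F := K) chevF4 typeF4.inList j (lt_rank typeF4 j) a ha]
    congr 1
    funext s
    rcases s with s | s
    · simp
    · simp only [Sum.elim_inr]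
      rw [prod_cartan j _ s.2, Units.val_zpow_eq_zpow_val, Units.val_mk0]
  · rw [rho_hc hρ, hY_eq j ha]
    congr 1
    funext x
    unfold wx
    by_cases hx : wtab.getD (code x) 48 = 48
    · simp only [if_pos hx, zpow_zero]
    · simp only [if_neg hx]
      rw [prod_cartan j _ (wtab_lt x hx), Units.val_zpow_eq_zpow_val, Units.val_mk0]

theorem exists_isDg (hρ : IsJ ρ) {t : ↥(chevF4.group K)} (ht : t ∈ TT chevF4 K) : ∃ c, IsDg ρ c t := by
  let S : Subgroup ↥(chevF4.group K) :=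
    { carrier := {t | ∃ c, IsDg ρ c t}
      one_mem' := ⟨1, IsDg.one⟩
      mul_mem' := by
        rintro a b ⟨c, hc⟩ ⟨d, hd⟩
        exact ⟨c * d, hc.mul hd⟩
      inv_mem' := by
        rintro a ⟨c, hc⟩
        exact ⟨c⁻¹, hc.inv⟩ }
  have h1 : TT chevF4 K ≤ S := by
    refine (TT_le typeF4).trans ?_
    rw [Subgroup.closure_le]
    rintro g ⟨j, a, ha, rfl⟩
    exact ⟨_, isDg_hc hρ j ha⟩
  exact h1 ht

end Grp

end Cfsg.Agent.H815.F4Tor

namespace Cfsg.Agent.H952.F4.Tor

open Cfsg Cfsg.Lie Module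
open Cfsg.Agent.ChevalleyStructure.E6Min.Tables Cfsg.Agent.ChevalleyStructure.E6Min.Basic
open Cfsg.Agent.BpExc.TorAll Cfsg.Agent.BpExc.TorChev
open Cfsg.Agent.Tits.Roots Cfsg.Agent.Nodes.BNOf Cfsg.Agent.Nodes.RGDChev Cfsg.Agent.KFacts.RgdChevCoord

universe u

/-- E1: simultaneous diagonal form of the torus elements -/
theorem diag {K : Type u} [Field K] {ρ : ↥(chevF4.group K) →* GL I27 K} (hρ : IsJ ρ) {t : ↥(chevF4.group K)}
    (ht : t ∈ TT chevF4 K) : ∃ c : Fin 4 → Kˣ,
      (((t : ↥(chevF4.group K)) : GL chevF4.Idx K) : Matrix chevF4.Idx chevF4.Idx K) =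
        Matrix.diagonal (Sum.elim (fun _ => (1 : K)) (fun s : Fin chevF4.nroots =>
          ((∏ i, c i ^ (vec chevF4 4 s i) : Kˣ) : K))) ∧
      ((ρ t : GL I27 K) : Matrix I27 I27 K) = Matrix.diagonal (fun x : I27 =>
        if wtab.getD (code x) 48 = 48 then (1 : K) else ((∏ i, c i ^ (vec chevF4 4 (wtab.getD (code x) 48) i) : Kˣ) : K)) := by
  obtain ⟨c, h⟩ := Cfsg.Agent.H815.F4Tor.exists_isDg hρ ht
  exact ⟨c, h.l, h.j⟩

end Cfsg.Agent.H952.F4.Tor
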