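import Mathlib
import Cfsg.Agent.H952.F4.TabLin
import Cfsg.Agent.H944.RootVals
import Cfsg.Agent.H952.F4.TorDiag

/-!
# S5926: multiplicities of the eigenvalues of the elements of order prime to `p` (helper755)

`Mult ρ m ζ x a` : the element `x` (`x ^ m = 1`) has the eigenvalue `ζ ^ j` on `L` and `J` as often as
`⟨s, a⟩ ≡ j (mod m)` for a root (weight) `s`.
-/

set_option autoImplicit false

namespace Cfsg.Agent.H952.F4.TabMult

open Cfsg Cfsg.Lie Module
open Cfsg.Agent.ChevalleyStructure Cfsg.Agent.ChevalleyStructure.Elts Cfsg.Agent.ChevalleyStructure.RootVecTab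
open Cfsg.Agent.ChevalleyStructure.RootVec
open Cfsg.Agent.ChevalleyStructure.E6Min.Tables Cfsg.Agent.ChevalleyStructure.E6Min.Basic
open Cfsg.Agent.GpExc.Field (emb)
open Cfsg.Agent.BpExc.TorAll Cfsg.Agent.BpExc.TorChev
open Cfsg.Agent.Tits.Roots Cfsg.Agent.Nodes.BNOf Cfsg.Agent.Nodes.RGDChev Cfsg.Agent.KFacts.RgdChevCoord
open Cfsg.Agent.H952.F4.TabNum Cfsg.Agent.H952.F4.TabLin
open Cfsg.Agent.ChevalleyStructure.CoxeterGeom Cfsg.Agent.ChevalleyStructure.CoxeterGeomTypes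
  Cfsg.Agent.Nodes.Reps

universe u

variable {K : Type u} [Field K]

/-- The multiplicities of the eigenvalues. -/
structure Mult (ρ : ↥(chevF4.group K) →* GL I27 K) (m : ℕ) (ζ : K) (x : ↥(chevF4.group K)) (a : Fin 4 → ℕ) :
    Prop where
  lt : ∀ i, a i < m
  ord : ∀ k : ℕ, (∀ i, m ∣ k * a i) → x ^ k = 1
  evL : ∀ j, ev (LK K x) (ζ ^ j) = (if m ∣ j then 4 else 0) + nn rowsL m j (a 0) (a 1) (a 2) (a 3)
  evJ : ∀ j, ev (JK ρ x) (ζ ^ j) = nn rowsJ m j (a 0) (a 1) (a 2) (a 3)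
  trL : LinearMap.trace K _ (LK K x) = ∑ j ∈ Finset.range m, (ev (LK K x) (ζ ^ j) : K) * ζ ^ j
  trJ : LinearMap.trace K _ (JK ρ x) = ∑ j ∈ Finset.range m, (ev (JK ρ x) (ζ ^ j) : K) * ζ ^ j
  powL : ∀ k j, k.Coprime m → ev (LK K (x ^ k)) (ζ ^ (k * j)) = ev (LK K x) (ζ ^ j)
  powJ : ∀ k j, k.Coprime m → ev (JK ρ (x ^ k)) (ζ ^ (k * j)) = ev (JK ρ x) (ζ ^ j)
  sqL : m = 4 → ev (LK K (x * x)) 1 = ev (LK K x) 1 + ev (LK K x) (ζ ^ 2)
  sqJ : m = 4 → ev (JK ρ (x * x)) 1 = ev (JK ρ x) 1 + ev (JK ρ x) (ζ ^ 2)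

theorem hpF4 : IsType chevF4 4 CoxeterMatrix.F₄ := by simp [IsType, typeList]

/-- powers of roots of unity -/
theorem pow_eq_pow_iff_of_coprime {m k : ℕ} (hk : k.Coprime m) {d e : K} (hd : d ^ m = 1) (he : e ^ m = 1)
    (hm : m ≠ 0) : d ^ k = e ^ k ↔ d = e := by
  constructor
  · intro h
    have he0 : e ≠ 0 := by
      rintro rfl
      rw [zero_pow hm] at he
      exact zero_ne_one he
    have h1 : (d / e) ^ k = 1 := by rw [div_pow, h, div_self (pow_ne_zero _ he0)]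
    have h2 : (d / e) ^ m = 1 := by rw [div_pow, hd, he, div_self one_ne_zero]
    have h3 : (d / e) ^ (Nat.gcd k m) = 1 := by
      have h4 := orderOf_dvd_of_pow_eq_one h1
      have h5 := orderOf_dvd_of_pow_eq_one h2
      exact orderOf_dvd_iff_pow_eq_one.1 (Nat.dvd_gcd h4 h5)
    rw [hk, pow_one] at h3
    exact (div_eq_one_iff_eq he0).1 h3
  · rintro rfl
    rfl

theorem sq_one_iff {d : K} : d ^ 2 = 1 ↔ d = 1 ∨ d = -1 := by
  rw [← sub_eq_zero, show d ^ 2 - 1 = (d - 1) * (d + 1) by ring, mul_eq_zero, sub_eq_zero, add_eq_zero_iff_eq_neg]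

/-- facts on a module with diagonal action of a conjugate -/
theorem diag_facts {ι G : Type*} [Fintype ι] [DecidableEq ι] [DecidableEq K] [Group G] (σ : Representation K G (ι → K))
    {x g : G} {m : ℕ} {ζ : K} (hζ : IsPrimitiveRoot ζ m) (hm : m ≠ 0) {d : ι → K}
    (hd : ∀ k : ℕ, σ ((g * x * g⁻¹) ^ k) = Matrix.toLin' (Matrix.diagonal fun i => d i ^ k)) (hdm : ∀ i, d i ^ m = 1) :
    (∀ μ : K, ev (σ x) μ = (Finset.univ.filter fun i => d i = μ).card) ∧
    (LinearMap.trace K _ (σ x) = ∑ j ∈ Finset.range m, (ev (σ x) (ζ ^ j) : K) * ζ ^ j) ∧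
    (∀ k j, k.Coprime m → ev (σ (x ^ k)) (ζ ^ (k * j)) = ev (σ x) (ζ ^ j)) ∧
    (m = 4 → ev (σ (x * x)) 1 = ev (σ x) 1 + ev (σ x) (ζ ^ 2)) := by
  have hk : ∀ (k : ℕ) (μ : K), ev (σ (x ^ k)) μ = (Finset.univ.filter fun i => d i ^ k = μ).card := by
    intro k μ
    rw [← ev_conj σ g (x ^ k) μ, ← conj_pow]
    exact ev_diag _ _ (hd k)
  have h1 : ∀ μ : K, ev (σ x) μ = (Finset.univ.filter fun i => d i = μ).card := by
    intro μ
    have := hk 1 μ
    simpa only [pow_one] using this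
  refine ⟨h1, ?_, ?_, ?_⟩
  · rw [← trace_conj σ g x]
    have h2 := hd 1
    simp only [pow_one] at h2
    rw [trace_diag d h2, sum_fib hζ hm d hdm]
    exact Finset.sum_congr rfl fun j _ => by rw [h1]
  · intro k j hkm
    rw [hk, h1]
    congr 1
    ext i
    simp only [Finset.mem_filter, Finset.mem_univ, true_and]
    rw [mul_comm, pow_mul]
    exact pow_eq_pow_iff_of_coprime hkm (hdm i) (by rw [← pow_mul, mul_comm, pow_mul, hζ.pow_eq_one, one_pow]) hm
  · rintro rfl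
    have h2 := hk 2 1
    rw [pow_two] at h2
    rw [h2, h1, h1]
    have hζ2 : ζ ^ 2 = -1 := by
      have h3 : (ζ ^ 2) ^ 2 = 1 := by rw [← pow_mul]; exact hζ.pow_eq_one
      rcases sq_one_iff.1 h3 with h4 | h4
      · exact absurd h4 (hζ.pow_ne_one_of_pos_of_lt (by norm_num) (by norm_num))
      · exact h4
    have hne : (1 : K) ≠ ζ ^ 2 := fun h => hζ.pow_ne_one_of_pos_of_lt (by norm_num) (by norm_num) h.symm
    rw [← Finset.card_union_of_disjoint]
    · congr 1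
      ext i
      simp only [Finset.mem_filter, Finset.mem_univ, true_and, Finset.mem_union]
      rw [hζ2, sq_one_iff]
    · rw [Finset.disjoint_filter]
      intro i _ h3 h4
      exact hne (h3.symm.trans h4)

/-- the torus element of exponents `a` -/
theorem prod_eq_val {z : Kˣ} {a : Fin 4 → ℕ} {c : Fin 4 → Kˣ} (hc : ∀ i, z ^ a i = c i) (s : ℕ) (hs : s < 48) :
    ∏ i, c i ^ (vec chevF4 4 s i) = val z a (rowsL.getD s (8, 8, 8, 8)) := by
  have h0 : ∀ i : Fin 4, vec chevF4 4 s i = (dig (RootVecTab.code chevF4 s) (3 - i) : ℤ) - 8 := by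
    intro i
    rw [vec_apply, rt_of_lt (D := chevF4) (show s < chevF4.nroots from hs) (show (i : ℕ) < chevF4.rank from i.2)]
    rfl
  have h1 := rowsL_spec ⟨s, hs⟩
  simp only at h1
  rw [h1, Fin.prod_univ_four, ← hc, ← hc, ← hc, ← hc, h0, h0, h0, h0]
  unfold val
  simp only [← zpow_natCast, ← zpow_mul, ← zpow_add]
  congr 1
  show (a 0 : ℤ) * ((dig (RootVecTab.code chevF4 s) 3 : ℤ) - 8) + (a 1 : ℤ) * ((dig (RootVecTab.code chevF4 s) 2 : ℤ) - 8) +
    (a 2 : ℤ) * ((dig (RootVecTab.code chevF4 s) 1 : ℤ) - 8) + (a 3 : ℤ) * ((dig (RootVecTab.code chevF4 s) 0 : ℤ) - 8) = _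
  ring

/-- **Multiplicities of the eigenvalues of the elements of order prime to `p`.** -/
theorem exists_mult [IsAlgClosed K] (p : ℕ) [Fact p.Prime] [CharP K p] (hK : HAlg p K)
    {ρ : ↥(chevF4.group K) →* GL I27 K} (hρ : IsJ ρ) {m : ℕ} (hm0 : m ≠ 0) (hm : m.Coprime p) {ζ : K}
    (hζ : IsPrimitiveRoot ζ m) {x : ↥(chevF4.group K)} (hx : x ^ m = 1) :
    ∃ a : Fin 4 → ℕ, Mult ρ m ζ x a := by
  classical
  obtain ⟨g, hg⟩ := Cfsg.Agent.H944.TorAnyChev.exists_conj_mem_TT hpF4 p hK hm0 hm hx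
  set t := g * x * g⁻¹ with ht
  obtain ⟨c, hcL, hcJ⟩ := Tor.diag hρ hg
  have htm : t ^ m = 1 := by rw [ht, conj_pow, hx, mul_one, mul_inv_cancel]
  have hζ0 : ζ ≠ 0 := hζ.ne_zero hm0
  let z : Kˣ := Units.mk0 ζ hζ0
  have hz : orderOf z = m := by rw [← orderOf_units]; exact hζ.eq_orderOf.symm
  -- the powers of `t` on `L`
  have hpow : ∀ d : ℕ, (((t ^ d : ↥(chevF4.group K)) : GL chevF4.Idx K) : Matrix chevF4.Idx chevF4.Idx K) =
      Matrix.diagonal (Sum.elim (fun _ => (1 : K)) (fun s : Fin chevF4.nroots =>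
        ((∏ i, c i ^ (vec chevF4 4 s i) : Kˣ) : K) ^ d)) := by
    intro d
    rw [Subgroup.coe_pow, Units.val_pow_eq_pow_val, hcL, Matrix.diagonal_pow]
    congr 1
    funext i
    rcases i with i | i
    · simp
    · simp
  -- the values on the simple roots
  have hsimple : ∀ j : Fin 4, ∃ s : Fin chevF4.nroots, (∏ i, c i ^ (vec chevF4 4 s i) : Kˣ) = c j := by
    intro j
    have hlt := NPerm.simple_lt hpF4.inList (lt_rank hpF4 j)
    refine ⟨⟨chevF4.simple j, hlt⟩, ?_⟩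
    show (∏ i, c i ^ (vec chevF4 4 (chevF4.simple j) i) : Kˣ) = c j
    rw [vec_simple hpF4 j, Finset.prod_eq_single j]
    · rw [sr_self, zpow_one]
    · intro i _ hij
      rw [sr_ne hij, zpow_zero]
    · intro h
      exact absurd (Finset.mem_univ j) h
  have hcm : ∀ j, c j ^ m = 1 := by
    intro j
    obtain ⟨s, hs⟩ := hsimple j
    have h2 := hpow m
    rw [htm, Subgroup.coe_one, Units.val_one] at h2
    have h3 := congrFun (congrFun h2 (Sum.inr s)) (Sum.inr s)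
    rw [Matrix.one_apply_eq, Matrix.diagonal_apply_eq, Sum.elim_inr, hs, ← Units.val_pow_eq_pow_val] at h3
    exact Units.ext h3.symm
  have hex : ∀ j, ∃ a < m, z ^ a = c j := by
    intro j
    have : NeZero m := ⟨hm0⟩
    have h1 : ((c j : Kˣ) : K) ^ m = 1 := by
      rw [← Units.val_pow_eq_pow_val, hcm j, Units.val_one]
    obtain ⟨a, ha', ha⟩ := hζ.eq_pow_of_pow_eq_one h1
    refine ⟨a, ha', Units.ext ?_⟩
    rw [Units.val_pow_eq_pow_val, ← ha]
    rfl
  choose a ha' ha using hex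
  -- the entries
  set dL : chevF4.Idx → K := Sum.elim (fun _ => (1 : K)) (fun s : Fin chevF4.nroots =>
    ((val z a (rowsL.getD s (8, 8, 8, 8)) : Kˣ) : K)) with hdL
  set dJ : I27 → K := fun x => ((val z a (rowsJ.getD (E6Min.Tables.code x) (8, 8, 8, 8)) : Kˣ) : K) with hdJ
  have hval8 : val z a (8, 8, 8, 8) = 1 := by
    unfold val
    simp
  have hvalm : ∀ r, ((val z a r : Kˣ) : K) ^ m = 1 := by
    intro r
    unfold val
    rw [← Units.val_pow_eq_pow_val, ← zpow_natCast, ← zpow_mul, mul_comm, zpow_mul, zpow_natCast, ← hz,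
      pow_orderOf_eq_one, one_zpow, Units.val_one]
  have hL1 : (((t : ↥(chevF4.group K)) : GL chevF4.Idx K) : Matrix chevF4.Idx chevF4.Idx K) = Matrix.diagonal dL := by
    rw [hcL]
    congr 1
    funext i
    rcases i with i | i
    · rfl
    · show ((∏ j, c j ^ (vec chevF4 4 i j) : Kˣ) : K) = ((val z a (rowsL.getD i (8, 8, 8, 8)) : Kˣ) : K)
      rw [prod_eq_val ha i i.2]
  have hJ1 : ((ρ t : GL I27 K) : Matrix I27 I27 K) = Matrix.diagonal dJ := by
    rw [hcJ]
    congr 1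
    funext x
    have h1 := rowsJ_spec ⟨E6Min.Tables.code x, E6Min.Tables.code_lt x⟩
    have h2 := wtab_spec ⟨E6Min.Tables.code x, E6Min.Tables.code_lt x⟩
    simp only at h1 h2
    show _ = ((val z a (rowsJ.getD (E6Min.Tables.code x) (8, 8, 8, 8)) : Kˣ) : K)
    rw [h1]
    split_ifs with h3
    · rw [hval8, Units.val_one]
    · rw [prod_eq_val ha _ (h2.resolve_left h3)]
  have hL : ∀ k : ℕ, LK K (t ^ k) = Matrix.toLin' (Matrix.diagonal fun i => dL i ^ k) := by
    intro k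
    show Matrix.toLin' (((t ^ k : ↥(chevF4.group K)) : GL chevF4.Idx K) : Matrix chevF4.Idx chevF4.Idx K) = _
    rw [Subgroup.coe_pow, Units.val_pow_eq_pow_val, hL1, Matrix.diagonal_pow]
    rfl
  have hJ : ∀ k : ℕ, JK ρ (t ^ k) = Matrix.toLin' (Matrix.diagonal fun i => dJ i ^ k) := by
    intro k
    show Matrix.toLin' ((ρ (t ^ k) : GL I27 K) : Matrix I27 I27 K) = _
    rw [map_pow, Units.val_pow_eq_pow_val, hJ1, Matrix.diagonal_pow]
    rfl
  obtain ⟨l1, l2, l3, l4⟩ := diag_facts (LK K) hζ hm0 (x := x) (g := g) (d := dL) hL (by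
    intro i
    rcases i with i | i
    · exact one_pow _
    · exact hvalm _)
  obtain ⟨j1, j2, j3, j4⟩ := diag_facts (JK ρ) hζ hm0 (x := x) (g := g) (d := dJ) hJ (fun i => hvalm _)
  have hζz : ∀ j : ℕ, ζ ^ j = ((z ^ j : Kˣ) : K) := fun j => by
    rw [Units.val_pow_eq_pow_val]
    rfl
  refine ⟨a, ha', ?_, ?_, ?_, l2, j2, l3, j3, l4, j4⟩
  · intro k hk
    have h1 : t ^ k = 1 := by
      apply Subtype.ext
      apply Units.ext
      rw [hpow, Subgroup.coe_one, Units.val_one, ← Matrix.diagonal_one]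
      congr 1
      funext i
      rcases i with i | i
      · rfl
      · rw [Sum.elim_inr, ← Units.val_pow_eq_pow_val, ← Finset.prod_pow]
        have : ∀ j ∈ (Finset.univ : Finset (Fin 4)), (c j ^ vec chevF4 4 i j) ^ k = 1 := by
          intro j _
          rw [← zpow_natCast, ← zpow_mul, mul_comm, zpow_mul, zpow_natCast, ← ha j, ← pow_mul, mul_comm (a j)]
          obtain ⟨b, hb⟩ := hk j
          rw [hb, pow_mul, ← hz, pow_orderOf_eq_one, one_pow, one_zpow]
        rw [Finset.prod_congr rfl this, Finset.prod_const_one, Units.val_one]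
    rw [ht, conj_pow, conj_eq_one_iff] at h1
    exact h1
  · intro j
    rw [l1, ← card_L hz a j, Finset.card_filter, Fintype.sum_sum_type, ← Finset.card_filter, ← Finset.card_filter]
    congr 1
    · show (Finset.univ.filter fun i : Fin chevF4.rank => (1 : K) = ζ ^ j).card = _
      by_cases hj : m ∣ j
      · rw [if_pos hj, Finset.filter_true_of_mem, Finset.card_univ, Fintype.card_fin]
        · rfl
        · intro i _
          exact ((hζ.pow_eq_one_iff_dvd j).2 hj).symm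
      · rw [if_neg hj, Finset.filter_false_of_mem, Finset.card_empty]
        intro i _ h
        exact hj ((hζ.pow_eq_one_iff_dvd j).1 h.symm)
  · intro j
    rw [j1, ← card_J hz a j, ← hζz]

end Cfsg.Agent.H952.F4.TabMult
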