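import Mathlib
import Cfsg.Agent.H952.F4.TabMult

/-!
# S5926: class tables of the elements of order 2, 3, 4, 5, 7 of `F₄` over an algebraically closed field (helper755)
-/

set_option autoImplicit false

namespace Cfsg.Agent.H952.F4.Tor

open Cfsg Cfsg.Lie Module
open Cfsg.Agent.ChevalleyStructure Cfsg.Agent.ChevalleyStructure.Elts Cfsg.Agent.ChevalleyStructure.RootVecTab
open Cfsg.Agent.ChevalleyStructure.E6Min.Tables Cfsg.Agent.ChevalleyStructure.E6Min.Basic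
open Cfsg.Agent.GpExc.Field (emb)
open Cfsg.Agent.BpExc.TorAll Cfsg.Agent.BpExc.TorChev
open Cfsg.Agent.H952.F4.TabNum Cfsg.Agent.H952.F4.TabLin Cfsg.Agent.H952.F4.TabMult

universe u

section closed

variable (p : ℕ) [Fact p.Prime] {K : Type u} [Field K] [IsAlgClosed K] [CharP K p] (hK : HAlg p K)
  {ρ : ↥(chevF4.group K) →* GL I27 K} (hρ : IsJ ρ)

include hK hρ in
theorem exists_root {m : ℕ} (hm0 : m ≠ 0) (hm : m.Coprime p) : ∃ ζ : K, IsPrimitiveRoot ζ m ∧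
    ∀ x : ↥(chevF4.group K), x ^ m = 1 → ∃ a : Fin 4 → ℕ, Mult ρ m ζ x a := by
  have hNk : ((m : ℕ) : K) ≠ 0 := by
    intro h0
    have h1 : p ∣ m := (CharP.cast_eq_zero_iff K p m).1 h0
    have h2 : p ∣ 1 := by
      rw [← hm]
      exact Nat.dvd_gcd h1 dvd_rfl
    exact (Fact.out : p.Prime).one_lt.ne' (Nat.dvd_one.1 h2)
  have : NeZero ((m : ℕ) : K) := ⟨hNk⟩
  obtain ⟨ζ, hζ⟩ : ∃ ζ : K, IsPrimitiveRoot ζ m := HasEnoughRootsOfUnity.exists_primitiveRoot K m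
  exact ⟨ζ, hζ, fun x hx => exists_mult p hK hρ hm0 hm hζ hx⟩

omit [IsAlgClosed K] [CharP K p] in
theorem coprime_of_ne {m : ℕ} (hm : m.Prime) (h : p ≠ m) : m.Coprime p :=
  (Nat.coprime_primes hm Fact.out).2 fun h' => h h'.symm

include hK hρ in
theorem two_closed (hp : p ≠ 2) (x : ↥(chevF4.group K)) (hx1 : x ≠ 1) (hx : x * x = 1) :
    (ev (JK ρ x) 1 = 15 ∧ ev (LK K x) 1 = 24 ∧ LinearMap.trace K _ (JK ρ x) = 3 ∧
      LinearMap.trace K _ (LK K x) = -4) ∨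
    (ev (JK ρ x) 1 = 11 ∧ ev (LK K x) 1 = 36 ∧ LinearMap.trace K _ (JK ρ x) = -5 ∧
      LinearMap.trace K _ (LK K x) = 20) := by
  obtain ⟨ζ, hζ, h⟩ := exists_root p hK hρ (m := 2) (by norm_num) (coprime_of_ne p Nat.prime_two hp)
  obtain ⟨a, ha⟩ := h x (by rw [pow_two, hx])
  have hc := all4_spec chk2_all (ha.lt 0) (ha.lt 1) (ha.lt 2) (ha.lt 3)
  have hz : z4 (a 0) (a 1) (a 2) (a 3) = false := by
    rw [Bool.eq_false_iff]
    intro h0
    rw [z4_iff] at h0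
    apply hx1
    rw [← pow_one x]
    refine ha.ord 1 fun i => ?_
    obtain ⟨h0, h1, h2, h3⟩ := h0
    fin_cases i <;> simp [h0, h1, h2, h3]
  have hs := hζ.geom_sum_eq_zero (by norm_num)
  simp only [Finset.sum_range_succ, Finset.sum_range_zero, pow_zero, pow_one, zero_add] at hs
  have e0 := ha.evL 0
  have e1 := ha.evL 1
  have f0 := ha.evJ 0
  have f1 := ha.evJ 1
  have tL := ha.trL
  have tJ := ha.trJ
  simp only [Finset.sum_range_succ, Finset.sum_range_zero, pow_zero, pow_one, zero_add, mul_one] at tL tJ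
  rw [pow_zero] at e0 f0
  rw [pow_one] at e1 f1
  rw [if_pos (by norm_num)] at e0
  rw [if_neg (by norm_num)] at e1
  simp only [chk2, hz, Bool.false_or, Bool.or_eq_true, Bool.and_eq_true, Nat.beq_eq] at hc
  rcases hc with ⟨⟨⟨c1, c2⟩, c3⟩, c4⟩ | ⟨⟨⟨c1, c2⟩, c3⟩, c4⟩
  · left
    rw [c1] at f0
    rw [c2] at f1
    rw [c3] at e0
    rw [c4] at e1
    rw [tL, tJ, e0, e1, f0, f1]
    refine ⟨rfl, rfl, ?_, ?_⟩
    · push_cast; linear_combination (12 : K) * hs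
    · push_cast; linear_combination (28 : K) * hs
  · right
    rw [c1] at f0
    rw [c2] at f1
    rw [c3] at e0
    rw [c4] at e1
    rw [tL, tJ, e0, e1, f0, f1]
    refine ⟨rfl, rfl, ?_, ?_⟩
    · push_cast; linear_combination (16 : K) * hs
    · push_cast; linear_combination (16 : K) * hs

include hK hρ in
theorem three_closed (hp : p ≠ 3) (x : ↥(chevF4.group K)) (hx1 : x ≠ 1) (hx : x ^ 3 = 1) :
    (ev (JK ρ x) 1 = 15 ∧ ev (LK K x) 1 = 22 ∧ LinearMap.trace K _ (JK ρ x) = 9 ∧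
      LinearMap.trace K _ (LK K x) = 7) ∨
    (ev (JK ρ x) 1 = 9 ∧ ev (LK K x) 1 = 22 ∧ LinearMap.trace K _ (JK ρ x) = 0 ∧
      LinearMap.trace K _ (LK K x) = 7) ∨
    (ev (JK ρ x) 1 = 9 ∧ ev (LK K x) 1 = 16 ∧ LinearMap.trace K _ (JK ρ x) = 0 ∧
      LinearMap.trace K _ (LK K x) = -2) := by
  obtain ⟨ζ, hζ, h⟩ := exists_root p hK hρ (m := 3) (by norm_num) (coprime_of_ne p Nat.prime_three hp)
  obtain ⟨a, ha⟩ := h x hx
  have hc := all4_spec chk3_all (ha.lt 0) (ha.lt 1) (ha.lt 2) (ha.lt 3)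
  have hz : z4 (a 0) (a 1) (a 2) (a 3) = false := by
    rw [Bool.eq_false_iff]
    intro h0
    rw [z4_iff] at h0
    apply hx1
    rw [← pow_one x]
    refine ha.ord 1 fun i => ?_
    obtain ⟨h0, h1, h2, h3⟩ := h0
    fin_cases i <;> simp [h0, h1, h2, h3]
  have hs := hζ.geom_sum_eq_zero (by norm_num)
  simp only [Finset.sum_range_succ, Finset.sum_range_zero, pow_zero, pow_one, zero_add] at hs
  have e0 := ha.evL 0
  have e1 := ha.evL 1
  have e2 := ha.evL 2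
  have f0 := ha.evJ 0
  have f1 := ha.evJ 1
  have f2 := ha.evJ 2
  have tL := ha.trL
  have tJ := ha.trJ
  simp only [Finset.sum_range_succ, Finset.sum_range_zero, pow_zero, pow_one, zero_add, mul_one] at tL tJ
  rw [pow_zero] at e0 f0
  rw [pow_one] at e1 f1
  rw [if_pos (by norm_num)] at e0
  rw [if_neg (by norm_num)] at e1 e2
  simp only [chk3, hz, Bool.false_or, Bool.or_eq_true, Bool.and_eq_true, Nat.beq_eq] at hc
  rcases hc with (⟨⟨⟨⟨⟨c1, c2⟩, c3⟩, c4⟩, c5⟩, c6⟩ | ⟨⟨⟨⟨⟨c1, c2⟩, c3⟩, c4⟩, c5⟩, c6⟩) |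
    ⟨⟨⟨⟨⟨c1, c2⟩, c3⟩, c4⟩, c5⟩, c6⟩
  · left
    rw [c1] at f0
    rw [c2] at f1
    rw [c3] at f2
    rw [c4] at e0
    rw [c5] at e1
    rw [c6] at e2
    rw [tL, tJ, e0, e1, e2, f0, f1, f2]
    refine ⟨rfl, rfl, ?_, ?_⟩
    · push_cast; linear_combination (6 : K) * hs
    · push_cast; linear_combination (15 : K) * hs
  · right; left
    rw [c1] at f0
    rw [c2] at f1
    rw [c3] at f2
    rw [c4] at e0
    rw [c5] at e1
    rw [c6] at e2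
    rw [tL, tJ, e0, e1, e2, f0, f1, f2]
    refine ⟨rfl, rfl, ?_, ?_⟩
    · push_cast; linear_combination (9 : K) * hs
    · push_cast; linear_combination (15 : K) * hs
  · right; right
    rw [c1] at f0
    rw [c2] at f1
    rw [c3] at f2
    rw [c4] at e0
    rw [c5] at e1
    rw [c6] at e2
    rw [tL, tJ, e0, e1, e2, f0, f1, f2]
    refine ⟨rfl, rfl, ?_, ?_⟩
    · push_cast; linear_combination (9 : K) * hs
    · push_cast; linear_combination (18 : K) * hs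

omit [IsAlgClosed K] in
theorem sq_eq_neg_one {ζ : K} (hζ : IsPrimitiveRoot ζ 4) : ζ ^ 2 = -1 := by
  have h3 : (ζ ^ 2) ^ 2 = 1 := by rw [← pow_mul]; exact hζ.pow_eq_one
  rcases sq_one_iff.1 h3 with h4 | h4
  · exact absurd h4 (hζ.pow_ne_one_of_pos_of_lt (by norm_num) (by norm_num))
  · exact h4

omit [IsAlgClosed K] [CharP K p] in
theorem coprime_four (hp : p ≠ 2) : Nat.Coprime 4 p := by
  have h := coprime_of_ne p Nat.prime_two hp
  exact Nat.Coprime.mul_left h h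

include hK hρ in
theorem four_closed (hp : p ≠ 2) (x : ↥(chevF4.group K)) (hx1 : x * x ≠ 1) (hx : x ^ 4 = 1) :
    (ev (JK ρ (x * x)) 1 = 11 ∧ ev (LK K (x * x)) 1 = 36 ∧ ev (JK ρ x) 1 = 5 ∧ ev (LK K x) 1 = 18 ∧
      LinearMap.trace K _ (JK ρ x) = -1 ∧ LinearMap.trace K _ (LK K x) = 0) ∨
    (ev (JK ρ (x * x)) 1 = 11 ∧ ev (LK K (x * x)) 1 = 36 ∧ ev (JK ρ x) 1 = 9 ∧ ev (LK K x) 1 = 22 ∧
      LinearMap.trace K _ (JK ρ x) = 7 ∧ LinearMap.trace K _ (LK K x) = 8) ∨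
    (ev (JK ρ (x * x)) 1 = 15 ∧ ev (LK K (x * x)) 1 = 24 ∧ ev (JK ρ x) 1 = 7 ∧ ev (LK K x) 1 = 14 ∧
      LinearMap.trace K _ (JK ρ x) = -1 ∧ LinearMap.trace K _ (LK K x) = 4) ∨
    (ev (JK ρ (x * x)) 1 = 15 ∧ ev (LK K (x * x)) 1 = 24 ∧ ev (JK ρ x) 1 = 9 ∧ ev (LK K x) 1 = 12 ∧
      LinearMap.trace K _ (JK ρ x) = 3 ∧ LinearMap.trace K _ (LK K x) = 0) ∨
    (ev (JK ρ (x * x)) 1 = 15 ∧ ev (LK K (x * x)) 1 = 24 ∧ ev (JK ρ x) 1 = 15 ∧ ev (LK K x) 1 = 22 ∧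
      LinearMap.trace K _ (JK ρ x) = 15 ∧ LinearMap.trace K _ (LK K x) = 20) := by
  obtain ⟨ζ, hζ, h⟩ := exists_root p hK hρ (m := 4) (by norm_num) (coprime_four p hp)
  obtain ⟨a, ha⟩ := h x hx
  have hc := all4_spec chk4_all (ha.lt 0) (ha.lt 1) (ha.lt 2) (ha.lt 3)
  have hz : z4 (Nat.mod (a 0) 2) (Nat.mod (a 1) 2) (Nat.mod (a 2) 2) (Nat.mod (a 3) 2) = false := by
    rw [Bool.eq_false_iff]
    intro h0
    rw [z4_iff] at h0
    apply hx1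
    rw [← pow_two x]
    refine ha.ord 2 fun i => ?_
    obtain ⟨h0, h1, h2, h3⟩ := h0
    have hd : ∀ b : ℕ, Nat.mod b 2 = 0 → 4 ∣ 2 * b := by
      intro b hb
      have hb' : b % 2 = 0 := hb
      omega
    fin_cases i
    · exact hd _ h0
    · exact hd _ h1
    · exact hd _ h2
    · exact hd _ h3
  have hs := sq_eq_neg_one hζ
  have e0 := ha.evL 0
  have e1 := ha.evL 1
  have e2 := ha.evL 2
  have e3 := ha.evL 3
  have f0 := ha.evJ 0
  have f1 := ha.evJ 1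
  have f2 := ha.evJ 2
  have f3 := ha.evJ 3
  have tL := ha.trL
  have tJ := ha.trJ
  have sL := ha.sqL rfl
  have sJ := ha.sqJ rfl
  simp only [Finset.sum_range_succ, Finset.sum_range_zero, pow_zero, pow_one, zero_add, mul_one] at tL tJ
  rw [pow_zero] at e0 f0
  rw [pow_one] at e1 f1
  rw [if_pos (by norm_num)] at e0
  rw [if_neg (by norm_num)] at e1 e2 e3
  simp only [chk4, hz, q4, Bool.false_or, Bool.or_eq_true, Bool.and_eq_true, Nat.beq_eq] at hc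
  rcases hc with (((⟨⟨⟨⟨⟨⟨⟨c1, c2⟩, c3⟩, c4⟩, c5⟩, c6⟩, c7⟩, c8⟩ | ⟨⟨⟨⟨⟨⟨⟨c1, c2⟩, c3⟩, c4⟩, c5⟩, c6⟩, c7⟩, c8⟩) |
    ⟨⟨⟨⟨⟨⟨⟨c1, c2⟩, c3⟩, c4⟩, c5⟩, c6⟩, c7⟩, c8⟩) | ⟨⟨⟨⟨⟨⟨⟨c1, c2⟩, c3⟩, c4⟩, c5⟩, c6⟩, c7⟩, c8⟩) |
    ⟨⟨⟨⟨⟨⟨⟨c1, c2⟩, c3⟩, c4⟩, c5⟩, c6⟩, c7⟩, c8⟩
  all_goals
    rw [c1] at f0
    rw [c2] at f1
    rw [c3] at f2
    rw [c4] at f3
    rw [c5] at e0
    rw [c6] at e1
    rw [c7] at e2
    rw [c8] at e3
    rw [e0, e2] at sL
    rw [f0, f2] at sJ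
    rw [tL, tJ, sL, sJ, e0, e1, e2, e3, f0, f1, f2, f3]
  · right; right; right; left
    refine ⟨rfl, rfl, rfl, rfl, ?_, ?_⟩
    · push_cast; linear_combination (6 + 6 * ζ) * hs
    · push_cast; linear_combination (12 + 14 * ζ) * hs
  · right; right; left
    refine ⟨rfl, rfl, rfl, rfl, ?_, ?_⟩
    · push_cast; linear_combination (8 + 6 * ζ) * hs
    · push_cast; linear_combination (10 + 14 * ζ) * hs
  · left
    refine ⟨rfl, rfl, rfl, rfl, ?_, ?_⟩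
    · push_cast; linear_combination (6 + 8 * ζ) * hs
    · push_cast; linear_combination (18 + 8 * ζ) * hs
  · right; left
    refine ⟨rfl, rfl, rfl, rfl, ?_, ?_⟩
    · push_cast; linear_combination (2 + 8 * ζ) * hs
    · push_cast; linear_combination (14 + 8 * ζ) * hs
  · right; right; right; right
    refine ⟨rfl, rfl, rfl, rfl, ?_, ?_⟩
    · push_cast; linear_combination (6 * ζ) * hs
    · push_cast; linear_combination (2 + 14 * ζ) * hs

include hK hρ in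
theorem four_i_closed (hp : p ≠ 2) (x : ↥(chevF4.group K)) (hx : x ^ 4 = 1) (i : K) (hi : i * i = -1) :
    ev (JK ρ x) i = ev (JK ρ x) (-i) := by
  obtain ⟨ζ, hζ, h⟩ := exists_root p hK hρ (m := 4) (by norm_num) (coprime_four p hp)
  obtain ⟨a, ha⟩ := h x hx
  have hc := all4_spec chk4s_all (ha.lt 0) (ha.lt 1) (ha.lt 2) (ha.lt 3)
  have hs := sq_eq_neg_one hζ
  simp only [chk4s, Nat.beq_eq] at hc
  have f1 := ha.evJ 1
  have f3 := ha.evJ 3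
  rw [← hc, ← f1, pow_one] at f3
  have h3 : ζ ^ 3 = -ζ := by rw [pow_succ, hs]; ring
  rw [h3] at f3
  have h4 : (i - ζ) * (i + ζ) = 0 := by linear_combination hi - hs
  rcases mul_eq_zero.1 h4 with h5 | h5
  · rw [sub_eq_zero.1 h5, f3]
  · rw [eq_neg_of_add_eq_zero_left h5, neg_neg, f3]

include hK hρ in
theorem five_closed (hp : p ≠ 5) (x : ↥(chevF4.group K)) (hx1 : x ≠ 1) (hx : x ^ 5 = 1) :
    (ev (JK ρ x) 1 = 5 ∧ ev (LK K x) 1 = 12) ∨ (ev (JK ρ x) 1 = 7 ∧ ev (LK K x) 1 = 12) ∨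
    (ev (JK ρ x) 1 = 9 ∧ ev (LK K x) 1 = 12) ∨
    (ev (JK ρ x) 1 = 9 ∧ ev (LK K x) 1 = 22) ∨ (ev (JK ρ x) 1 = 15 ∧ ev (LK K x) 1 = 22) := by
  obtain ⟨ζ, hζ, h⟩ := exists_root p hK hρ (m := 5) (by norm_num) (coprime_of_ne p Nat.prime_five hp)
  obtain ⟨a, ha⟩ := h x hx
  have hc := all4_spec chk5_all (ha.lt 0) (ha.lt 1) (ha.lt 2) (ha.lt 3)
  have hz : z4 (a 0) (a 1) (a 2) (a 3) = false := by
    rw [Bool.eq_false_iff]
    intro h0
    rw [z4_iff] at h0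
    apply hx1
    rw [← pow_one x]
    refine ha.ord 1 fun i => ?_
    obtain ⟨h0, h1, h2, h3⟩ := h0
    fin_cases i <;> simp [h0, h1, h2, h3]
  have e0 := ha.evL 0
  have f0 := ha.evJ 0
  rw [pow_zero] at e0 f0
  rw [if_pos (by norm_num)] at e0
  simp only [chk5, hz, Bool.false_or, Bool.or_eq_true, Bool.and_eq_true, Nat.beq_eq] at hc
  omega

include hK hρ in
theorem five_rat_closed (hp : p ≠ 5) (x : ↥(chevF4.group K)) (hx1 : x ≠ 1) (hx : x ^ 5 = 1)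
    (hg : ∃ g : ↥(chevF4.group K), g * x * g⁻¹ = x ^ 2) :
    ev (JK ρ x) 1 = 7 ∧ ev (LK K x) 1 = 12 ∧ LinearMap.trace K _ (JK ρ x) = 2 ∧
      LinearMap.trace K _ (LK K x) = 2 := by
  obtain ⟨ζ, hζ, h⟩ := exists_root p hK hρ (m := 5) (by norm_num) (coprime_of_ne p Nat.prime_five hp)
  obtain ⟨a, ha⟩ := h x hx
  obtain ⟨g, hg⟩ := hg
  have hc := all4_spec chk5r_all (ha.lt 0) (ha.lt 1) (ha.lt 2) (ha.lt 3)
  have hz : z4 (a 0) (a 1) (a 2) (a 3) = false := by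
    rw [Bool.eq_false_iff]
    intro h0
    rw [z4_iff] at h0
    apply hx1
    rw [← pow_one x]
    refine ha.ord 1 fun i => ?_
    obtain ⟨h0, h1, h2, h3⟩ := h0
    fin_cases i <;> simp [h0, h1, h2, h3]
  have hs := hζ.geom_sum_eq_zero (by norm_num)
  simp only [Finset.sum_range_succ, Finset.sum_range_zero, pow_zero, pow_one, zero_add] at hs
  have e0 := ha.evL 0
  have e1 := ha.evL 1
  have e2 := ha.evL 2
  have e3 := ha.evL 3
  have e4 := ha.evL 4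
  have f0 := ha.evJ 0
  have f1 := ha.evJ 1
  have f2 := ha.evJ 2
  have f3 := ha.evJ 3
  have f4 := ha.evJ 4
  have h12 := ha.powJ 2 1 (by norm_num)
  rw [← hg, ev_conj, mul_one, f1, f2] at h12
  have hb : Nat.beq (nn rowsJ 5 1 (a 0) (a 1) (a 2) (a 3)) (nn rowsJ 5 2 (a 0) (a 1) (a 2) (a 3)) = true := by
    rw [Nat.beq_eq]; exact h12.symm
  have tL := ha.trL
  have tJ := ha.trJ
  simp only [Finset.sum_range_succ, Finset.sum_range_zero, pow_zero, pow_one, zero_add, mul_one] at tL tJ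
  rw [pow_zero] at e0 f0
  rw [pow_one] at e1 f1
  rw [if_pos (by norm_num)] at e0
  rw [if_neg (by norm_num)] at e1 e2 e3 e4
  simp only [chk5r, hz, hb, Bool.not_true, Bool.false_or, Bool.and_eq_true, Nat.beq_eq] at hc
  obtain ⟨⟨⟨⟨⟨⟨⟨⟨⟨c0, c1⟩, c2⟩, c3⟩, c4⟩, d0⟩, d1⟩, d2⟩, d3⟩, d4⟩ := hc
  rw [c0] at f0
  rw [c1] at f1
  rw [c2] at f2
  rw [c3] at f3
  rw [c4] at f4
  rw [d0] at e0
  rw [d1] at e1
  rw [d2] at e2
  rw [d3] at e3
  rw [d4] at e4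
  rw [tL, tJ, e0, e1, e2, e3, e4, f0, f1, f2, f3, f4]
  refine ⟨rfl, rfl, ?_, ?_⟩
  · push_cast; linear_combination (5 : K) * hs
  · push_cast; linear_combination (10 : K) * hs

include hK hρ in
theorem seven_rat_closed (hp : p ≠ 7) (x : ↥(chevF4.group K)) (hx1 : x ≠ 1) (hx : x ^ 7 = 1)
    (hg : ∃ g : ↥(chevF4.group K), g * x * g⁻¹ = x ^ 2) :
    ev (LK K x) 1 = 10 ∧ LinearMap.trace K _ (LK K x) = 3 ∧
      ((ev (JK ρ x) 1 = 3 ∧ LinearMap.trace K _ (JK ρ x) = -1) ∨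
        (ev (JK ρ x) 1 = 9 ∧ LinearMap.trace K _ (JK ρ x) = 6)) := by
  obtain ⟨ζ, hζ, h⟩ := exists_root p hK hρ (m := 7) (by norm_num) (coprime_of_ne p (by norm_num) hp)
  obtain ⟨a, ha⟩ := h x hx
  obtain ⟨g, hg⟩ := hg
  have hc := all4_spec chk7r_all (ha.lt 0) (ha.lt 1) (ha.lt 2) (ha.lt 3)
  have hz : z4 (a 0) (a 1) (a 2) (a 3) = false := by
    rw [Bool.eq_false_iff]
    intro h0
    rw [z4_iff] at h0
    apply hx1
    rw [← pow_one x]
    refine ha.ord 1 fun i => ?_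
    obtain ⟨h0, h1, h2, h3⟩ := h0
    fin_cases i <;> simp [h0, h1, h2, h3]
  have hs := hζ.geom_sum_eq_zero (by norm_num)
  simp only [Finset.sum_range_succ, Finset.sum_range_zero, pow_zero, pow_one, zero_add] at hs
  have e0 := ha.evL 0
  have e1 := ha.evL 1
  have e2 := ha.evL 2
  have e3 := ha.evL 3
  have e4 := ha.evL 4
  have e5 := ha.evL 5
  have e6 := ha.evL 6
  have f0 := ha.evJ 0
  have f1 := ha.evJ 1
  have f2 := ha.evJ 2
  have f3 := ha.evJ 3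
  have f4 := ha.evJ 4
  have f5 := ha.evJ 5
  have f6 := ha.evJ 6
  rw [if_pos (by norm_num)] at e0
  rw [if_neg (by norm_num), zero_add] at e1 e2 e3 e4 e5 e6
  have h12 := ha.powL 2 1 (by norm_num)
  have h24 := ha.powL 2 2 (by norm_num)
  rw [← hg, ev_conj, mul_one, e1, e2] at h12
  rw [← hg, ev_conj, show 2 * 2 = 4 by norm_num, e4, e2] at h24
  have hb : Nat.beq (nn rowsL 7 1 (a 0) (a 1) (a 2) (a 3)) (nn rowsL 7 2 (a 0) (a 1) (a 2) (a 3)) = true := by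
    rw [Nat.beq_eq]; exact h12.symm
  have hb' : Nat.beq (nn rowsL 7 2 (a 0) (a 1) (a 2) (a 3)) (nn rowsL 7 4 (a 0) (a 1) (a 2) (a 3)) = true := by
    rw [Nat.beq_eq]; exact h24.symm
  have tL := ha.trL
  have tJ := ha.trJ
  simp only [Finset.sum_range_succ, Finset.sum_range_zero, pow_zero, pow_one, zero_add, mul_one] at tL tJ
  rw [pow_zero] at e0 f0
  rw [pow_one] at e1 f1
  simp only [chk7r, hz, hb, hb', q7, Bool.not_true, Bool.false_or, Bool.or_eq_true, Bool.and_eq_true,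
    Nat.beq_eq] at hc
  obtain ⟨⟨⟨⟨⟨⟨⟨d0, d1⟩, d2⟩, d3⟩, d4⟩, d5⟩, d6⟩, hc⟩ := hc
  rw [d0] at e0
  rw [d1] at e1
  rw [d2] at e2
  rw [d3] at e3
  rw [d4] at e4
  rw [d5] at e5
  rw [d6] at e6
  rw [tL, e0, e1, e2, e3, e4, e5, e6]
  refine ⟨rfl, ?_, ?_⟩
  · push_cast; linear_combination (7 : K) * hs
  · rcases hc with ⟨⟨⟨⟨⟨⟨c0, c1⟩, c2⟩, c3⟩, c4⟩, c5⟩, c6⟩ | ⟨⟨⟨⟨⟨⟨c0, c1⟩, c2⟩, c3⟩, c4⟩, c5⟩, c6⟩
    · left
      rw [c0] at f0
      rw [c1] at f1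
      rw [c2] at f2
      rw [c3] at f3
      rw [c4] at f4
      rw [c5] at f5
      rw [c6] at f6
      rw [tJ, f0, f1, f2, f3, f4, f5, f6]
      refine ⟨rfl, ?_⟩
      push_cast; linear_combination (4 : K) * hs
    · right
      rw [c0] at f0
      rw [c1] at f1
      rw [c2] at f2
      rw [c3] at f3
      rw [c4] at f4
      rw [c5] at f5
      rw [c6] at f6
      rw [tJ, f0, f1, f2, f3, f4, f5, f6]
      refine ⟨rfl, ?_⟩
      push_cast; linear_combination (3 : K) * hs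

/-- **The class tables over an algebraically closed field.** -/
theorem tab_closed (p : ℕ) [Fact p.Prime] {K : Type u} [Field K] [IsAlgClosed K] [CharP K p] (hK : HAlg p K)
    {ρ : ↥(chevF4.group K) →* GL I27 K} (hρ : IsJ ρ) : Tab p (LK K) (JK ρ) where
  two := two_closed p hK hρ
  three := three_closed p hK hρ
  four := four_closed p hK hρ
  four_i := four_i_closed p hK hρ
  five := five_closed p hK hρ
  five_rat := five_rat_closed p hK hρ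
  seven_rat := seven_rat_closed p hK hρ

end closed

end Cfsg.Agent.H952.F4.Tor
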