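import Mathlib
import Cfsg.Agent.H952.F4.TabClosed
import Cfsg.Agent.H952.F4.Chg
import Cfsg.Agent.H952.F4.JMod

/-!
# S5926: class tables of the elements of order 2, 3, 4, 5, 7 of `F₄` (helper755)

`Tor.tab_closed` (over an algebraically closed field, `TabClosed.lean`), `Tor.tab_finite` (over a finite field).
-/

set_option autoImplicit false

namespace Cfsg.Agent.H952.F4.Tor

open Cfsg Cfsg.Lie Module
open Cfsg.Agent.ChevalleyStructure Cfsg.Agent.ChevalleyStructure.Elts Cfsg.Agent.ChevalleyStructure.RootVecTab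
open Cfsg.Agent.ChevalleyStructure.E6Min.Tables Cfsg.Agent.ChevalleyStructure.E6Min.Basic
open Cfsg.Agent.GpExc.Field (emb)
open Cfsg.Agent.BpExc.TorAll Cfsg.Agent.BpExc.TorChev

universe u

/-- **The class tables over a finite field.** -/
theorem tab_finite (p : ℕ) [Fact p.Prime] {F : Type u} [Field F] [Finite F] [CharP F p]
    {ρ : ↥(chevF4.group F) →* GL I27 F} (hρ : IsJ ρ) : Tab p (LK F) (JK ρ) := by
  set K := AlgebraicClosure F with hKdef
  have hch : CharP K p := charP_of_injective_algebraMap (algebraMap F K).injective p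
  have hK : HAlg p K := Cfsg.Agent.H944.RootVals.hAlg_closure p F
  set f : F →+* K := algebraMap F K with hf
  obtain ⟨ρ', hρ'⟩ := JMod.exists_isJ K
  have T := tab_closed p hK hρ'
  have hfi : Function.Injective f := f.injective
  have inj : Function.Injective (emb hF4 f) := Cfsg.Agent.GpExc.Field.emb_injective hF4 f
  have eL : ∀ x μ, ev (LK K (emb hF4 f x)) (f μ) = ev (LK F x) μ := fun x μ => Chg.ev_L f x μ
  have eJ : ∀ x μ, ev (JK ρ' (emb hF4 f x)) (f μ) = ev (JK ρ x) μ := fun x μ => Chg.ev_J f hρ hρ' x μ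
  have eL1 : ∀ x, ev (LK K (emb hF4 f x)) 1 = ev (LK F x) 1 := fun x => by rw [← eL, map_one]
  have eJ1 : ∀ x, ev (JK ρ' (emb hF4 f x)) 1 = ev (JK ρ x) 1 := fun x => by rw [← eJ, map_one]
  have tL : ∀ x, LinearMap.trace K _ (LK K (emb hF4 f x)) = f (LinearMap.trace F _ (LK F x)) :=
    fun x => Chg.trace_L f x
  have tJ : ∀ x, LinearMap.trace K _ (JK ρ' (emb hF4 f x)) = f (LinearMap.trace F _ (JK ρ x)) :=
    fun x => Chg.trace_J f hρ hρ' x
  have ne : ∀ {x : ↥(chevF4.group F)}, x ≠ 1 → emb hF4 f x ≠ 1 := fun h h' => h (inj (by rw [h', map_one]))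
  have po : ∀ {x : ↥(chevF4.group F)} {k : ℕ}, x ^ k = 1 → (emb hF4 f x) ^ k = 1 := fun h => by
    rw [← map_pow, h, map_one]
  have ct : ∀ {a : F} (n : ℤ), f a = (n : K) → a = n := fun {a} n h => hfi (by rw [h, map_intCast])
  refine ⟨?_, ?_, ?_, ?_, ?_, ?_, ?_⟩
  · intro hp x hx1 hx
    have h := T.two hp (emb hF4 f x) (ne hx1) (by rw [← map_mul, hx, map_one])
    rw [eL1, eJ1, tL, tJ] at h
    rcases h with ⟨h1, h2, h3, h4⟩ | ⟨h1, h2, h3, h4⟩
    · left
      refine ⟨h1, h2, ?_, ?_⟩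
      · exact_mod_cast ct 3 (by exact_mod_cast h3)
      · exact_mod_cast ct (-4) (by exact_mod_cast h4)
    · right
      refine ⟨h1, h2, ?_, ?_⟩
      · exact_mod_cast ct (-5) (by exact_mod_cast h3)
      · exact_mod_cast ct 20 (by exact_mod_cast h4)
  · intro hp x hx1 hx
    have h := T.three hp (emb hF4 f x) (ne hx1) (po hx)
    rw [eL1, eJ1, tL, tJ] at h
    rcases h with ⟨h1, h2, h3, h4⟩ | ⟨h1, h2, h3, h4⟩ | ⟨h1, h2, h3, h4⟩
    · left
      refine ⟨h1, h2, ?_, ?_⟩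
      · exact_mod_cast ct 9 (by exact_mod_cast h3)
      · exact_mod_cast ct 7 (by exact_mod_cast h4)
    · right; left
      refine ⟨h1, h2, ?_, ?_⟩
      · exact_mod_cast ct 0 (by exact_mod_cast h3)
      · exact_mod_cast ct 7 (by exact_mod_cast h4)
    · right; right
      refine ⟨h1, h2, ?_, ?_⟩
      · exact_mod_cast ct 0 (by exact_mod_cast h3)
      · exact_mod_cast ct (-2) (by exact_mod_cast h4)
  · intro hp x hx1 hx
    have h := T.four hp (emb hF4 f x) (by rw [← map_mul]; exact ne hx1) (po hx)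
    rw [← map_mul, eL1, eJ1, eL1, eJ1, tL, tJ] at h
    rcases h with ⟨g1, g2, h1, h2, h3, h4⟩ | ⟨g1, g2, h1, h2, h3, h4⟩ | ⟨g1, g2, h1, h2, h3, h4⟩ |
      ⟨g1, g2, h1, h2, h3, h4⟩ | ⟨g1, g2, h1, h2, h3, h4⟩
    · left
      refine ⟨g1, g2, h1, h2, ?_, ?_⟩
      · exact_mod_cast ct (-1) (by exact_mod_cast h3)
      · exact_mod_cast ct 0 (by exact_mod_cast h4)
    · right; left
      refine ⟨g1, g2, h1, h2, ?_, ?_⟩
      · exact_mod_cast ct 7 (by exact_mod_cast h3)
      · exact_mod_cast ct 8 (by exact_mod_cast h4)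
    · right; right; left
      refine ⟨g1, g2, h1, h2, ?_, ?_⟩
      · exact_mod_cast ct (-1) (by exact_mod_cast h3)
      · exact_mod_cast ct 4 (by exact_mod_cast h4)
    · right; right; right; left
      refine ⟨g1, g2, h1, h2, ?_, ?_⟩
      · exact_mod_cast ct 3 (by exact_mod_cast h3)
      · exact_mod_cast ct 0 (by exact_mod_cast h4)
    · right; right; right; right
      refine ⟨g1, g2, h1, h2, ?_, ?_⟩
      · exact_mod_cast ct 15 (by exact_mod_cast h3)
      · exact_mod_cast ct 20 (by exact_mod_cast h4)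
  · intro hp x hx i hi
    have h := T.four_i hp (emb hF4 f x) (po hx) (f i) (by rw [← map_mul, hi, map_neg, map_one])
    rw [← map_neg, eJ, eJ] at h
    exact h
  · intro hp x hx1 hx
    have h := T.five hp (emb hF4 f x) (ne hx1) (po hx)
    rw [eL1, eJ1] at h
    exact h
  · rintro hp x hx1 hx ⟨g, hg⟩
    have h := T.five_rat hp (emb hF4 f x) (ne hx1) (po hx) ⟨emb hF4 f g, by
      rw [← map_inv, ← map_mul, ← map_mul, hg, map_pow]⟩
    rw [eL1, eJ1, tL, tJ] at h
    obtain ⟨h1, h2, h3, h4⟩ := h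
    refine ⟨h1, h2, ?_, ?_⟩
    · exact_mod_cast ct 2 (by exact_mod_cast h3)
    · exact_mod_cast ct 2 (by exact_mod_cast h4)
  · rintro hp x hx1 hx ⟨g, hg⟩
    have h := T.seven_rat hp (emb hF4 f x) (ne hx1) (po hx) ⟨emb hF4 f g, by
      rw [← map_inv, ← map_mul, ← map_mul, hg, map_pow]⟩
    rw [eL1, eJ1, tL, tJ] at h
    obtain ⟨h1, h2, ⟨h3, h4⟩ | ⟨h3, h4⟩⟩ := h
    · refine ⟨h1, ?_, Or.inl ⟨h3, ?_⟩⟩
      · exact_mod_cast ct 3 (by exact_mod_cast h2)
      · exact_mod_cast ct (-1) (by exact_mod_cast h4)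
    · refine ⟨h1, ?_, Or.inr ⟨h3, ?_⟩⟩
      · exact_mod_cast ct 3 (by exact_mod_cast h2)
      · exact_mod_cast ct 6 (by exact_mod_cast h4)

end Cfsg.Agent.H952.F4.Tor
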