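import Cfsg.Agent.H952.F4.Defs2

/-!
# S5926, G2 and G3: counting (helper361)

* `no_fixed`  : the alternating group has no fixed vectors on a module of small dimension;
* `few_fixed` : bounds for the dimension of the fixed space (`n = 5`).
-/

set_option autoImplicit false

namespace Cfsg.Agent.H952.F4

open Cfsg Cfsg.Lie Module
open Cfsg.Agent.ChevalleyStructure Cfsg.Agent.ChevalleyStructure.Elts
open Cfsg.Agent.ChevalleyStructure.E6Min.Tables Cfsg.Agent.ChevalleyStructure.E6Min.Basic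

universe u

namespace MaxA

section count

variable {G : Type u} [Group G] {F V : Type*} [Field F] [AddCommGroup V] [Module F V] (ρ : Representation F G V)

theorem rmul (g h : G) (v : V) : ρ (g * h) v = ρ g (ρ h v) := by
  rw [map_mul, Module.End.mul_apply]

theorem rone (v : V) : ρ 1 v = v := by
  rw [map_one, Module.End.one_apply]

theorem rinv (g : G) (v : V) : ρ g⁻¹ (ρ g v) = v := by
  rw [← rmul, inv_mul_cancel, rone]

/-- the stabilizer of the line spanned by `w` -/
def LS (w : V) : Subgroup G where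
  carrier := {g | ∃ c : Fˣ, ρ g w = (c : F) • w}
  one_mem' := ⟨1, by rw [rone, Units.val_one, one_smul]⟩
  mul_mem' := by
    rintro g h ⟨c, hc⟩ ⟨d, hd⟩
    exact ⟨d * c, by rw [rmul, hd, map_smul, hc, smul_smul, Units.val_mul]⟩
  inv_mem' := by
    rintro g ⟨c, hc⟩
    refine ⟨c⁻¹, ?_⟩
    have h1 := rinv ρ g w
    rw [hc, map_smul] at h1
    have h2 : ((c⁻¹ : Fˣ) : F) • ((c : F) • ρ g⁻¹ w) = ((c⁻¹ : Fˣ) : F) • w := by rw [h1]
    rwa [smul_smul, Units.inv_mul, one_smul] at h2

/-- the stabilizer of `w` -/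
def VS (w : V) : Subgroup G where
  carrier := {g | ρ g w = w}
  one_mem' := rone ρ w
  mul_mem' := by
    intro g h hg hh
    change ρ (g * h) w = w
    rw [rmul, show ρ h w = w from hh, show ρ g w = w from hg]
  inv_mem' := by
    intro g hg
    change ρ g⁻¹ w = w
    conv_lhs => rw [← show ρ g w = w from hg]
    exact rinv ρ g w

variable {ρ}

theorem mem_LS {w : V} {g : G} : g ∈ LS ρ w ↔ ∃ c : Fˣ, ρ g w = (c : F) • w := Iff.rfl

theorem mem_VS {w : V} {g : G} : g ∈ VS ρ w ↔ ρ g w = w := Iff.rfl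

theorem inv_smul' {w : V} {g : G} {c : Fˣ} (hc : ρ g w = (c : F) • w) : ρ g⁻¹ w = ((c⁻¹ : Fˣ) : F) • w := by
  have h1 := rinv ρ g w
  rw [hc, map_smul] at h1
  have h2 : ((c⁻¹ : Fˣ) : F) • ((c : F) • ρ g⁻¹ w) = ((c⁻¹ : Fˣ) : F) • w := by rw [h1]
  rwa [smul_smul, Units.inv_mul, one_smul] at h2

/-- commutators act trivially on invariant lines -/
theorem comm_mem {w : V} {g h : G} (hg : g ∈ LS ρ w) (hh : h ∈ LS ρ w) : g * h * g⁻¹ * h⁻¹ ∈ VS ρ w := by
  obtain ⟨c, hc⟩ := hg
  obtain ⟨d, hd⟩ := hh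
  rw [mem_VS, rmul, rmul, rmul, inv_smul' hd, map_smul, inv_smul' hc, map_smul, map_smul, map_smul, map_smul, hd,
    map_smul, hc, smul_smul, smul_smul, smul_smul, ← Units.val_mul, ← Units.val_mul, ← Units.val_mul]
  rw [show d⁻¹ * c⁻¹ * d * c = 1 by rw [mul_right_comm d⁻¹ c⁻¹ d]; group, Units.val_one, one_smul]

/-- the counting lemma -/
theorem count [Finite G] [Finite F] [FiniteDimensional F V] (H : Subgroup G) (S : Set V) (hS0 : (0 : V) ∉ S)
    (h : ∀ w ∈ S, ∀ w' ∈ S, ∀ x : G, ρ x w = w' → x ∈ H) :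
    Nat.card S * Nat.card G ≤ Nat.card H * (Nat.card F ^ finrank F V - 1) := by
  classical
  have : Finite V := Module.finite_of_finite F
  have := Fintype.ofFinite G
  have := Fintype.ofFinite V
  have := Fintype.ofFinite S
  have := Fintype.ofFinite H
  let f : S × G → V := fun x => ρ x.2 x.1
  have h1 : (Finset.univ : Finset (S × G)).card ≤ Nat.card H * ((Finset.univ : Finset (S × G)).image f).card := by
    refine Finset.card_le_mul_card_image _ _ fun v hv => ?_
    obtain ⟨⟨⟨w', hw'⟩, g'⟩, -, rfl⟩ := Finset.mem_image.1 hv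
    rw [Nat.card_eq_fintype_card, ← Finset.card_univ]
    refine Finset.card_le_card_of_injOn (fun x => if hx : g'⁻¹ * x.2 ∈ H then (⟨g'⁻¹ * x.2, hx⟩ : H) else 1)
      (fun _ _ => Finset.mem_coe.2 (Finset.mem_univ _)) ?_
    have key : ∀ x : S × G, f x = f (⟨w', hw'⟩, g') → g'⁻¹ * x.2 ∈ H := by
      rintro ⟨⟨w, hw⟩, g⟩ hx
      refine h w hw w' hw' _ ?_
      change ρ (g'⁻¹ * g) w = w'
      rw [rmul, show ρ g w = ρ g' w' from hx, rinv]
    rintro ⟨⟨w, hw⟩, g⟩ hx ⟨⟨w1, hw1⟩, g1⟩ hx1 he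
    have e1 := (Finset.mem_filter.1 (Finset.mem_coe.1 hx)).2
    have e2 := (Finset.mem_filter.1 (Finset.mem_coe.1 hx1)).2
    have k1 : g'⁻¹ * g ∈ H := key _ e1
    have k2 : g'⁻¹ * g1 ∈ H := key _ e2
    simp only [k1, k2, dif_pos, Subtype.mk.injEq, mul_right_inj] at he
    subst he
    have h5 : ρ g w = ρ g w1 := Eq.trans (b := ρ g' w') e1 e2.symm
    have h6 : w = w1 := by rw [← rinv ρ g w, h5, rinv]
    subst h6
    rfl
  have h2 : ((Finset.univ : Finset (S × G)).image f).card ≤ Nat.card F ^ finrank F V - 1 := by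
    have h3 : ((Finset.univ : Finset (S × G)).image f) ⊆ Finset.univ.erase (0 : V) := by
      intro v hv
      obtain ⟨⟨⟨w, hw⟩, g⟩, -, rfl⟩ := Finset.mem_image.1 hv
      refine Finset.mem_erase.2 ⟨fun h0 => hS0 ?_, Finset.mem_univ _⟩
      have h4 : w = 0 := by
        rw [← rinv ρ g w, show ρ g w = 0 from h0, map_zero]
      rwa [← h4]
    have h4 := Finset.card_le_card h3
    rw [Finset.card_erase_of_mem (Finset.mem_univ _), Finset.card_univ, ← Nat.card_eq_fintype_card,
      Module.natCard_eq_pow_finrank (K := F)] at h4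
    exact h4
  rw [Finset.card_univ, Fintype.card_prod, ← Nat.card_eq_fintype_card, ← Nat.card_eq_fintype_card] at h1
  exact h1.trans (Nat.mul_le_mul_left _ h2)

end count

variable {G : Type u} [Group G] [Finite G] [IsSimpleGroup G] {F V : Type*} [Field F] [Finite F] [AddCommGroup V]
  [Module F V] [FiniteDimensional F V] {H : Subgroup G} {n : ℕ} {φ : ↥(alternatingGroup (Fin n)) →* G}

omit [Finite G] in
omit [IsSimpleGroup G] in
theorem nonab (hM : MaxAlt H n φ) (hn : 5 ≤ n) : ¬ ∀ x y : G, x * y = y * x := by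
  intro hc
  have h4 : 4 ≤ Nat.card (Fin n) := by rw [Nat.card_eq_fintype_card, Fintype.card_fin]; omega
  have h1 := alternatingGroup.center_eq_bot h4
  have h2 : Subgroup.center ↥(alternatingGroup (Fin n)) = ⊤ := by
    rw [eq_top_iff]
    intro x _
    rw [Subgroup.mem_center_iff]
    intro y
    apply hM.inj
    rw [map_mul, map_mul, hc]
  have h3 : Nontrivial ↥(alternatingGroup (Fin n)) :=
    alternatingGroup.nontrivial_of_three_le_card (by rw [Nat.card_eq_fintype_card, Fintype.card_fin]; omega)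
  rw [h1] at h2
  exact bot_ne_top h2

omit [Finite G] [Finite F] [FiniteDimensional F V] in
/-- the stabilizer of an `H`-invariant line is `H` -/
theorem LS_eq {ρ : Representation F G V} (hρ : ρ.invariants = ⊥) (hM : MaxAlt H n φ) (hn : 5 ≤ n) {w : V} (hw : w ≠ 0)
    (h : ∀ x ∈ H, ∃ c : Fˣ, ρ x w = (c : F) • w) : LS ρ w = H := by
  have h1 : H ≤ LS ρ w := fun x hx => h x hx
  rcases eq_or_lt_of_le h1 with h2 | h2
  · exact h2.symm
  exfalso
  have h3 : LS ρ w = ⊤ := hM.coatom.2 _ h2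
  have h4 : commutator G ≤ VS ρ w := by
    rw [commutator_def, Subgroup.commutator_le]
    intro g _ g' _
    exact comm_mem (by rw [h3]; trivial) (by rw [h3]; trivial)
  have h5 : commutator G = ⊤ := by
    rcases (inferInstance : (commutator G).Normal).eq_bot_or_eq_top with h6 | h6
    · exfalso
      apply nonab hM hn
      intro x y
      have h7 : x * y * x⁻¹ * y⁻¹ ∈ commutator G :=
        Subgroup.commutator_mem_commutator (Subgroup.mem_top _) (Subgroup.mem_top _)
      rw [h6, Subgroup.mem_bot] at h7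
      exact mul_inv_eq_iff_eq_mul.1 (mul_inv_eq_one.1 h7)
    · exact h6
  apply hw
  have h8 : w ∈ ρ.invariants := by
    rw [Representation.mem_invariants]
    intro g
    exact h4 (by rw [h5]; trivial)
  rw [hρ] at h8
  exact (Submodule.mem_bot F).1 h8

omit [Finite G] in
theorem norm_eq (hM : MaxAlt H n φ) (hn : 5 ≤ n) {x : G} (hx : ∀ h, h ∈ H ↔ x * h * x⁻¹ ∈ H) : x ∈ H := by
  have h1 : H ≤ Subgroup.normalizer (H : Set G) := Subgroup.le_normalizer
  have hxN : x ∈ Subgroup.normalizer (H : Set G) := Subgroup.mem_normalizer_iff.2 hx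
  rcases eq_or_lt_of_le h1 with h2 | h2
  · rwa [h2]
  exfalso
  have h3 : H.Normal := Subgroup.normalizer_eq_top_iff.1 (hM.coatom.2 _ h2)
  rcases h3.eq_bot_or_eq_top with h4 | h4
  · have h5 : Nontrivial ↥(alternatingGroup (Fin n)) :=
      alternatingGroup.nontrivial_of_three_le_card
        (by rw [Nat.card_eq_fintype_card, Fintype.card_fin]; omega)
    obtain ⟨a, ha⟩ := exists_ne (1 : ↥(alternatingGroup (Fin n)))
    apply ha
    apply hM.inj
    have h6 : φ a ∈ H := hM.le ⟨a, rfl⟩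
    rw [h4, Subgroup.mem_bot] at h6
    rw [h6, map_one]
  · exact hM.coatom.1 h4

omit [Finite G] [Finite F] [FiniteDimensional F V] in
/-- two vectors spanning `H`-invariant lines which are conjugate -/
theorem mem_of_conj {ρ : Representation F G V} (hρ : ρ.invariants = ⊥) (hM : MaxAlt H n φ) (hn : 5 ≤ n) {w w' : V}
    (hw : w ≠ 0) (hw' : w' ≠ 0)
    (h : ∀ x ∈ H, ∃ c : Fˣ, ρ x w = (c : F) • w) (h' : ∀ x ∈ H, ∃ c : Fˣ, ρ x w' = (c : F) • w') {x : G}
    (hx : ρ x w = w') : x ∈ H := by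
  have h1 := LS_eq hρ hM hn hw h
  have h2 := LS_eq hρ hM hn hw' h'
  refine norm_eq hM hn fun g => ?_
  have h3 : ρ x⁻¹ w' = w := by rw [← hx, rinv]
  constructor
  · intro hg
    rw [← h2, mem_LS]
    obtain ⟨c, hc⟩ := h g hg
    exact ⟨c, by rw [rmul, rmul, h3, hc, map_smul, hx]⟩
  · intro hg
    rw [← h1, mem_LS]
    obtain ⟨c, hc⟩ := h' _ hg
    refine ⟨c, ?_⟩
    rw [rmul, rmul, h3] at hc
    have h4 : ρ x⁻¹ (ρ x (ρ g w)) = ρ x⁻¹ ((c : F) • w') := by rw [hc]
    rwa [rinv, map_smul, h3] at h4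

omit [Finite G] [IsSimpleGroup G] [Finite F] [FiniteDimensional F V] in
theorem mem_inv {ρ : Representation F G V} {v : V} :
    v ∈ Representation.invariants (MonoidHom.comp ρ φ : ↥(alternatingGroup (Fin n)) →* (V →ₗ[F] V)) ↔
      ∀ a ∈ φ.range, ρ a v = v := by
  rw [Representation.mem_invariants]
  constructor
  · rintro h _ ⟨a, rfl⟩
    exact h a
  · intro h a
    exact h _ ⟨a, rfl⟩

omit [Finite G] [IsSimpleGroup G] [Finite F] in
/-- commuting involutions have a common eigenvector -/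
theorem exists_line {ρ : Representation F G V} (H : Subgroup G) (W : Submodule F V) :
    W ≠ ⊥ → (∀ x ∈ H, ∀ v ∈ W, ρ x v ∈ W) → (∀ x ∈ H, ∀ v ∈ W, ρ x (ρ x v) = v) →
    ∃ w ∈ W, w ≠ 0 ∧ ∀ x ∈ H, ρ x w = w ∨ ρ x w = -w := by
  induction W using WellFoundedLT.induction with
  | ind W ih =>
    intro h0 hW hsq
    have hcomm : ∀ x ∈ H, ∀ y ∈ H, ∀ v ∈ W, ρ x (ρ y v) = ρ y (ρ x v) := by
      intro x hx y hy v hv
      have h1 := hsq (x * y) (mul_mem hx hy) v hv
      rw [rmul, rmul] at h1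
      have h2 : ρ y (ρ x (ρ y v)) = ρ x v := by
        rw [← hsq x hx (ρ y (ρ x (ρ y v))) (hW y hy _ (hW x hx _ (hW y hy v hv))), h1]
      rw [← h2, hsq y hy _ (hW x hx _ (hW y hy v hv))]
    by_cases hall : ∀ x ∈ H, (∀ v ∈ W, ρ x v = v) ∨ ∀ v ∈ W, ρ x v = -v
    · obtain ⟨w, hw, hw0⟩ := Submodule.exists_mem_ne_zero_of_ne_bot h0
      refine ⟨w, hw, hw0, fun x hx => ?_⟩
      rcases hall x hx with h1 | h1
      · exact Or.inl (h1 w hw)
      · exact Or.inr (h1 w hw)
    · push Not at hall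
      obtain ⟨x, hx, ⟨u, hu, hu'⟩, ⟨u1, hu1, hu1'⟩⟩ := hall
      let W1 : Submodule F V := W ⊓ LinearMap.ker (ρ x - 1)
      have mem1 : ∀ v, v ∈ W1 ↔ v ∈ W ∧ ρ x v = v := by
        intro v
        rw [Submodule.mem_inf, LinearMap.mem_ker, LinearMap.sub_apply, Module.End.one_apply, sub_eq_zero]
      have hlt : W1 < W := by
        refine lt_of_le_of_ne inf_le_left fun he => hu' ?_
        rw [← he] at hu
        exact ((mem1 u).1 hu).2
      have hne : W1 ≠ ⊥ := by
        intro he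
        apply hu1'
        have h1 : ρ x u1 + u1 ∈ W1 := by
          rw [mem1]
          refine ⟨add_mem (hW x hx u1 hu1) hu1, ?_⟩
          rw [map_add, hsq x hx u1 hu1, add_comm]
        rw [he, Submodule.mem_bot] at h1
        exact eq_neg_of_add_eq_zero_left h1
      obtain ⟨w, hw, hw0, hw'⟩ := ih W1 hlt hne (fun y hy v hv => by
        obtain ⟨h1, h2⟩ := (mem1 v).1 hv
        rw [mem1]
        refine ⟨hW y hy v h1, ?_⟩
        rw [hcomm x hx y hy v h1, h2]) (fun y hy v hv => hsq y hy v ((mem1 v).1 hv).1)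
      exact ⟨w, ((mem1 w).1 hw).1, hw0, hw'⟩

/-- G2 -/
theorem no_fixed (ρ : Representation F G V) (hρ : ρ.invariants = ⊥) (hM : MaxAlt H n φ) (hn : 5 ≤ n)
    (hcard : Nat.card ↥H * Nat.card F ^ finrank F V < Nat.card G * (Nat.card F - 1)) :
    Representation.invariants (MonoidHom.comp ρ φ) = ⊥ := by
  by_contra hne
  set W : Submodule F V := Representation.invariants (MonoidHom.comp ρ φ) with hWdef
  have memW : ∀ v, v ∈ W ↔ ∀ a ∈ φ.range, ρ a v = v := fun v => mem_inv
  have hW : ∀ x ∈ H, ∀ v ∈ W, ρ x v ∈ W := by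
    intro x hx v hv
    rw [memW] at hv ⊢
    intro a ha
    have h1 := hM.norm x⁻¹ (inv_mem hx) a ha
    rw [inv_inv] at h1
    have h2 : ρ a (ρ x v) = ρ x (ρ (x⁻¹ * a * x) v) := by
      rw [← rmul, ← rmul]
      congr 2
      group
    rw [h2, hv _ h1]
  have hsq : ∀ x ∈ H, ∀ v ∈ W, ρ x (ρ x v) = v := by
    intro x hx v hv
    rw [← rmul]
    exact (memW v).1 hv _ (hM.sq x hx)
  obtain ⟨w, hw, hw0, hw'⟩ := exists_line H W hne hW hsq
  have hline : ∀ x ∈ H, ∃ c : Fˣ, ρ x w = (c : F) • w := by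
    intro x hx
    rcases hw' x hx with h1 | h1
    · exact ⟨1, by rw [h1, Units.val_one, one_smul]⟩
    · exact ⟨-1, by rw [h1, Units.val_neg, Units.val_one, neg_smul, one_smul]⟩
  have hS := count (ρ := ρ) H (Set.range fun c : Fˣ => (c : F) • w) (by
    rintro ⟨c, hc⟩
    exact hw0 ((smul_eq_zero.1 hc).resolve_left c.ne_zero)) (by
    rintro _ ⟨c, rfl⟩ _ ⟨d, rfl⟩ x hx
    rw [← LS_eq hρ hM hn hw0 hline, mem_LS]
    refine ⟨d * c⁻¹, ?_⟩
    change ρ x ((c : F) • w) = (d : F) • w at hx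
    rw [map_smul] at hx
    have h1 : ((c⁻¹ : Fˣ) : F) • ((c : F) • ρ x w) = ((c⁻¹ : Fˣ) : F) • ((d : F) • w) := by rw [hx]
    rwa [smul_smul, Units.inv_mul, one_smul, smul_smul, ← Units.val_mul, mul_comm] at h1)
  have hinj : Function.Injective fun c : Fˣ => (c : F) • w := by
    intro c d h
    have h1 : ((c : F) - d) • w = 0 := by rw [sub_smul, sub_eq_zero]; exact h
    exact Units.ext (sub_eq_zero.1 ((smul_eq_zero.1 h1).resolve_right hw0))
  have h2 : Nat.card (Set.range fun c : Fˣ => (c : F) • w) = Nat.card F - 1 := by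
    rw [Nat.card_congr (Equiv.ofInjective _ hinj).symm, Nat.card_units]
  rw [h2] at hS
  have h3 : Nat.card ↥H * (Nat.card F ^ finrank F V - 1) ≤ Nat.card ↥H * Nat.card F ^ finrank F V :=
    Nat.mul_le_mul_left _ (Nat.sub_le _ _)
  rw [mul_comm] at hS
  omega

/-- G3 -/
theorem few_fixed (ρ : Representation F G V) (hρ : ρ.invariants = ⊥) (hM : MaxAlt H n φ) (hn : n = 5)
    (h2 : (2 : F) ≠ 0) : ∃ k l : ℕ, k + l = finrank F (Representation.invariants (MonoidHom.comp ρ φ)) ∧
      (H = φ.range → l = 0) ∧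
      ((Nat.card F ^ k - 1) + (Nat.card F ^ l - 1)) * Nat.card G ≤ Nat.card ↥H * (Nat.card F ^ finrank F V - 1) := by
  have hn5 : 5 ≤ n := hn.ge
  set W : Submodule F V := Representation.invariants (MonoidHom.comp ρ φ) with hWdef
  have memW : ∀ v, v ∈ W ↔ ∀ a ∈ φ.range, ρ a v = v := fun v => mem_inv
  have hfV : Finite V := Module.finite_of_finite F
  have card0 : ∀ U : Submodule F V, ((U : Set V) \ {0}).ncard = Nat.card F ^ finrank F U - 1 := by
    intro U
    rw [Set.ncard_sdiff_singleton_of_mem (zero_mem U), ← Nat.card_coe_set_eq]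
    congr 1
    exact Module.natCard_eq_pow_finrank (K := F)
  by_cases hHA : H = φ.range
  · refine ⟨finrank F W, 0, add_zero _, fun _ => rfl, ?_⟩
    have hline : ∀ w ∈ W, ∀ x ∈ H, ∃ c : Fˣ, ρ x w = (c : F) • w := by
      intro w hw x hx
      rw [hHA] at hx
      exact ⟨1, by rw [(memW w).1 hw x hx, Units.val_one, one_smul]⟩
    have hS := count (ρ := ρ) H ((W : Set V) \ {0}) (fun h => h.2 rfl) (by
      rintro w ⟨hw, hw0⟩ w' ⟨hw', hw0'⟩ x hx
      exact mem_of_conj hρ hM hn5 hw0 hw0' (hline w hw) (hline w' hw') hx)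
    rw [Nat.card_coe_set_eq, card0] at hS
    rw [pow_zero, Nat.sub_self, add_zero]
    exact hS
  · -- `H = A <h0>`
    have hlt : ∃ h0 ∈ H, h0 ∉ φ.range := by
      by_contra hcon
      push Not at hcon
      exact hHA (le_antisymm hcon hM.le)
    obtain ⟨h0, hh0, hh0A⟩ := hlt
    have hidx : (φ.range.subgroupOf H).index = 2 := by
      have h3 := (φ.range.subgroupOf H).card_mul_index
      have h4 : Nat.card (φ.range.subgroupOf H) = 60 := by
        rw [Nat.card_congr (Subgroup.subgroupOfEquivOfLe hM.le).toEquiv,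
          ← Nat.card_congr (MonoidHom.ofInjective hM.inj).toEquiv, hn]
        rw [Nat.card_eq_fintype_card]
        decide
      have h5 := hM.card
      rw [if_neg (by omega), hn] at h5
      have h6 : (φ.range.subgroupOf H).index ≠ 0 := Subgroup.index_ne_zero_of_finite
      have h7 : (φ.range.subgroupOf H).index ≠ 1 := by
        rw [Ne, Subgroup.index_eq_one]
        intro h8
        have h9 : (⟨h0, hh0⟩ : H) ∈ φ.range.subgroupOf H := by rw [h8]; trivial
        exact hh0A h9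
      have h8 : Nat.factorial 5 = 120 := rfl
      rw [h4] at h3
      omega
    have hact : ∀ x ∈ H, ∀ w ∈ W, ρ x w = w ∨ ρ x w = ρ h0 w := by
      intro x hx w hw
      by_cases hxA : x ∈ φ.range
      · exact Or.inl ((memW w).1 hw x hxA)
      · right
        have h3 : (⟨h0, hh0⟩⁻¹ * ⟨x, hx⟩ : H) ∈ φ.range.subgroupOf H := by
          rw [Subgroup.mul_mem_iff_of_index_two hidx]
          constructor
          · intro h4
            exact absurd (inv_mem_iff.1 h4) hh0A
          · intro h4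
            exact absurd h4 hxA
        have h4 := (memW w).1 hw (h0⁻¹ * x) h3
        have h5 : ρ x w = ρ h0 (ρ (h0⁻¹ * x) w) := by
          rw [← rmul, mul_inv_cancel_left]
        rw [h5, h4]
    have hW0 : ∀ v ∈ W, ρ h0 v ∈ W := by
      intro v hv
      rw [memW] at hv ⊢
      intro a ha
      have h3 := hM.norm h0⁻¹ (inv_mem hh0) a ha
      rw [inv_inv] at h3
      have h4 : ρ a (ρ h0 v) = ρ h0 (ρ (h0⁻¹ * a * h0) v) := by
        rw [← rmul, ← rmul]
        congr 2
        group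
      rw [h4, hv _ h3]
    have hsq : ∀ v ∈ W, ρ h0 (ρ h0 v) = v := by
      intro v hv
      rw [← rmul]
      exact (memW v).1 hv _ (hM.sq h0 hh0)
    let Wp : Submodule F V := W ⊓ LinearMap.ker (ρ h0 - 1)
    let Wm : Submodule F V := W ⊓ LinearMap.ker (ρ h0 + 1)
    have memp : ∀ v, v ∈ Wp ↔ v ∈ W ∧ ρ h0 v = v := by
      intro v
      rw [Submodule.mem_inf, LinearMap.mem_ker, LinearMap.sub_apply, Module.End.one_apply, sub_eq_zero]
    have memm : ∀ v, v ∈ Wm ↔ v ∈ W ∧ ρ h0 v = -v := by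
      intro v
      rw [Submodule.mem_inf, LinearMap.mem_ker, LinearMap.add_apply, Module.End.one_apply, eq_neg_iff_add_eq_zero]
    have hinf : Wp ⊓ Wm = ⊥ := by
      rw [eq_bot_iff]
      rintro v ⟨h3, h4⟩
      have h5 := ((memp v).1 h3).2
      rw [((memm v).1 h4).2] at h5
      have h6 : (2 : F) • v = 0 := by
        rw [two_smul]
        nth_rewrite 1 [← h5]
        exact neg_add_cancel v
      exact (Submodule.mem_bot F).2 ((smul_eq_zero.1 h6).resolve_left h2)
    have hsup : Wp ⊔ Wm = W := by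
      refine le_antisymm (sup_le inf_le_left inf_le_left) fun v hv => ?_
      have h3 : v = (2 : F)⁻¹ • (v + ρ h0 v) + (2 : F)⁻¹ • (v - ρ h0 v) := by
        rw [← smul_add, add_add_sub_cancel, ← two_smul F v, smul_smul, inv_mul_cancel₀ h2, one_smul]
      rw [h3]
      refine Submodule.add_mem_sup ((memp _).2 ⟨?_, ?_⟩) ((memm _).2 ⟨?_, ?_⟩)
      · exact W.smul_mem _ (add_mem hv (hW0 v hv))
      · rw [map_smul, map_add, hsq v hv, add_comm]
      · exact W.smul_mem _ (sub_mem hv (hW0 v hv))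
      · rw [map_smul, map_sub, hsq v hv, ← smul_neg, neg_sub]
    refine ⟨finrank F Wp, finrank F Wm, ?_, fun h => absurd h hHA, ?_⟩
    · have h3 := Submodule.finrank_sup_add_finrank_inf_eq Wp Wm
      rw [hsup, hinf, finrank_bot, add_zero] at h3
      exact h3.symm
    · have hline : ∀ w ∈ ((Wp : Set V) \ {0}) ∪ ((Wm : Set V) \ {0}), w ≠ 0 ∧
          ∀ x ∈ H, ∃ c : Fˣ, ρ x w = (c : F) • w := by
        rintro w (⟨hw, hw0⟩ | ⟨hw, hw0⟩)
        · refine ⟨hw0, fun x hx => ⟨1, ?_⟩⟩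
          obtain ⟨h3, h4⟩ := (memp w).1 hw
          rw [Units.val_one, one_smul]
          rcases hact x hx w h3 with h5 | h5
          · exact h5
          · rw [h5, h4]
        · refine ⟨hw0, fun x hx => ?_⟩
          obtain ⟨h3, h4⟩ := (memm w).1 hw
          rcases hact x hx w h3 with h5 | h5
          · exact ⟨1, by rw [h5, Units.val_one, one_smul]⟩
          · exact ⟨-1, by rw [h5, h4, Units.val_neg, Units.val_one, neg_smul, one_smul]⟩
      have hS := count (ρ := ρ) H (((Wp : Set V) \ {0}) ∪ ((Wm : Set V) \ {0}))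
        (fun h => (hline 0 h).1 rfl) (by
        intro w hw w' hw' x hx
        exact mem_of_conj hρ hM hn5 (hline w hw).1 (hline w' hw').1 (hline w hw).2 (hline w' hw').2 hx)
      rw [Nat.card_coe_set_eq, Set.ncard_union_eq (by
        rw [Set.disjoint_left]
        rintro w ⟨hw, hw0⟩ ⟨hw', -⟩
        apply hw0
        have h3 : w ∈ Wp ⊓ Wm := ⟨hw, hw'⟩
        rw [hinf] at h3
        exact (Submodule.mem_bot F).1 h3), card0, card0] at hS
      exact hS

end MaxA

end Cfsg.Agent.H952.F4
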