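import Mathlib
import Cfsg.Agent.H952.F4.Defs

/-!
# S5926: eigenspaces, Frobenius groups and the groups `3²:2` (helper212)

`core` : a complete set of idempotents permuted freely by an operator `Y`, `Y ^ k = 1`: the dimension of `ker (Y - μ)`.
`frob`, `nine` : the applications.
-/

set_option autoImplicit false
set_option linter.unusedVariables false
set_option linter.unusedSectionVars false

namespace Cfsg.Agent.H952.F4.EigFr

open Module

variable {K V G : Type*} [Field K] [AddCommGroup V] [Module K V] [FiniteDimensional K V] [Group G]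

section core

variable {P₀ P Y : Module.End K V} {k : ℕ}

theorem core_mid (hk : 0 < k) (hY : Y ^ k = 1) (hP : P * P = P) (h2 : ∀ j, 0 < j → j < k → P * Y ^ j * P = 0)
    {i j : ℕ} (hi : i < k) (hj : j < k) {w : V} (hw : P w = w) :
    P ((Y ^ (k - i)) ((Y ^ j) w)) = if i = j then w else 0 := by
  have h3 : (Y ^ (k - i)) ((Y ^ j) w) = (Y ^ (k - i + j)) w := by
    rw [pow_add, Module.End.mul_apply]
  rw [h3]
  by_cases hij : i = j
  · subst hij
    rw [if_pos rfl, Nat.sub_add_cancel hi.le, hY, Module.End.one_apply, hw]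
  · rw [if_neg hij]
    have key : ∀ n, 0 < n → n < k → P ((Y ^ n) w) = 0 := by
      intro n h1 h4
      have h5 := LinearMap.congr_fun (h2 n h1 h4) w
      rw [Module.End.mul_apply, Module.End.mul_apply, hw] at h5
      exact h5
    rcases Nat.lt_or_ge j i with h | h
    · exact key _ (by omega) (by omega)
    · have h4 : k - i + j = k + (j - i) := by omega
      rw [h4, pow_add, hY, one_mul]
      exact key _ (by omega) (by omega)

theorem core_dim (hk : 0 < k) (hY : Y ^ k = 1)
    (h00 : P₀ * P₀ = P₀) (h0 : P₀ * P = 0) (h0' : P * P₀ = 0) (hP : P * P = P) (hYP : Y * P₀ = P₀ * Y)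
    (h2 : ∀ j, 0 < j → j < k → P * Y ^ j * P = 0)
    (h3 : P₀ + ∑ j ∈ Finset.range k, Y ^ j * P * Y ^ (k - j) = 1) :
    finrank K V = finrank K (LinearMap.range P₀) + k * finrank K (LinearMap.range P) := by
  have hYPn : ∀ n : ℕ, Y ^ n * P₀ = P₀ * Y ^ n := fun n => (Commute.pow_left (show Commute Y P₀ from hYP) n)
  let f : V →ₗ[K] LinearMap.range P₀ × (Fin k → LinearMap.range P) :=
    LinearMap.prod P₀.rangeRestrict (LinearMap.pi fun j => P.rangeRestrict ∘ₗ (Y ^ (k - (j : ℕ))))
  have hf1 : ∀ v, ((f v).1 : V) = P₀ v := fun v => rfl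
  have hf2 : ∀ v (j : Fin k), ((f v).2 j : V) = P ((Y ^ (k - (j : ℕ))) v) := fun v j => rfl
  have hinj : Function.Injective f := by
    rw [← LinearMap.ker_eq_bot, eq_bot_iff]
    intro v hv
    rw [LinearMap.mem_ker] at hv
    have e1 : P₀ v = 0 := by rw [← hf1, hv]; rfl
    have e2 : ∀ j : Fin k, P ((Y ^ (k - (j : ℕ))) v) = 0 := by
      intro j
      rw [← hf2, hv]
      rfl
    have e3 := LinearMap.congr_fun h3 v
    rw [LinearMap.add_apply, e1, zero_add, LinearMap.sum_apply, Module.End.one_apply] at e3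
    rw [Submodule.mem_bot, ← e3]
    apply Finset.sum_eq_zero
    intro j hj
    rw [Module.End.mul_apply, Module.End.mul_apply, e2 ⟨j, Finset.mem_range.1 hj⟩, map_zero]
  have hsurj : Function.Surjective f := by
    rintro ⟨⟨u, hu⟩, w⟩
    have hu' : P₀ u = u := by
      obtain ⟨x, rfl⟩ := hu
      rw [← Module.End.mul_apply, h00]
    have hw : ∀ j, P (w j : V) = w j := by
      intro j
      obtain ⟨x, hx⟩ := (w j).2
      rw [← hx, ← Module.End.mul_apply, hP]
    have hw0 : ∀ j, P₀ (w j : V) = 0 := by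
      intro j
      rw [← hw j, ← Module.End.mul_apply, h0, LinearMap.zero_apply]
    have hu0 : P u = 0 := by rw [← hu', ← Module.End.mul_apply, h0', LinearMap.zero_apply]
    refine ⟨u + ∑ j : Fin k, (Y ^ (j : ℕ)) (w j : V), ?_⟩
    apply Prod.ext
    · apply Subtype.ext
      rw [hf1, map_add, hu', map_sum, Finset.sum_eq_zero, add_zero]
      intro j _
      rw [← Module.End.mul_apply, ← hYPn, Module.End.mul_apply, hw0, map_zero]
    · funext i
      apply Subtype.ext
      rw [hf2, map_add, map_add, map_sum, map_sum, Finset.sum_eq_single i]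
      · rw [core_mid hk hY hP h2 i.2 i.2 (hw i), if_pos rfl]
        have : P ((Y ^ (k - (i : ℕ))) u) = 0 := by
          rw [← hu', ← Module.End.mul_apply (Y ^ _), hYPn, Module.End.mul_apply, ← Module.End.mul_apply P, h0',
            LinearMap.zero_apply]
        rw [this, zero_add]
      · intro j _ hj
        rw [core_mid hk hY hP h2 i.2 j.2 (hw j), if_neg]
        intro h
        exact hj (Fin.ext h.symm)
      · intro h
        exact absurd (Finset.mem_univ i) h
  have h := (LinearEquiv.ofBijective f ⟨hinj, hsurj⟩).finrank_eq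
  rw [h, Module.finrank_prod, Module.finrank_pi_fintype, Finset.sum_const, Finset.card_univ, Fintype.card_fin,
    smul_eq_mul]

theorem core_eig (hk : 0 < k) {μ : K} (hμ : μ ^ k = 1) (hY : Y ^ k = 1)
    (h00 : P₀ * P₀ = P₀) (h0 : P₀ * P = 0) (h0' : P * P₀ = 0) (hP : P * P = P) (hYP : Y * P₀ = P₀ * Y)
    (h2 : ∀ j, 0 < j → j < k → P * Y ^ j * P = 0)
    (h3 : P₀ + ∑ j ∈ Finset.range k, Y ^ j * P * Y ^ (k - j) = 1) :
    finrank K (es Y μ) = finrank K ↥(LinearMap.range P₀ ⊓ es Y μ) + finrank K (LinearMap.range P) := by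
  have hYPn : ∀ n : ℕ, Y ^ n * P₀ = P₀ * Y ^ n := fun n => (Commute.pow_left (show Commute Y P₀ from hYP) n)
  have hmem : ∀ v, v ∈ es Y μ ↔ Y v = μ • v := fun v => Module.End.mem_eigenspace_iff
  have hpow : ∀ v, v ∈ es Y μ → ∀ n : ℕ, (Y ^ n) v = μ ^ n • v := by
    intro v hv n
    induction n with
    | zero => rw [pow_zero, pow_zero, one_smul, Module.End.one_apply]
    | succ n ih => rw [pow_succ, Module.End.mul_apply, (hmem v).1 hv, map_smul, ih, smul_smul, ← pow_succ']
  have hP₀ : ∀ v, v ∈ es Y μ → P₀ v ∈ LinearMap.range P₀ ⊓ es Y μ := by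
    intro v hv
    refine ⟨⟨v, rfl⟩, (hmem _).2 ?_⟩
    rw [← Module.End.mul_apply, hYP, Module.End.mul_apply, (hmem v).1 hv, map_smul]
  let f : es Y μ →ₗ[K] ↥(LinearMap.range P₀ ⊓ es Y μ) × LinearMap.range P :=
    LinearMap.prod ((P₀ ∘ₗ (es Y μ).subtype).codRestrict _ fun v => hP₀ v v.2)
      (P.rangeRestrict ∘ₗ (es Y μ).subtype)
  have hf1 : ∀ v, ((f v).1 : V) = P₀ v := fun v => rfl
  have hf2 : ∀ v, ((f v).2 : V) = P v := fun v => rfl
  have hinj : Function.Injective f := by
    rw [← LinearMap.ker_eq_bot, eq_bot_iff]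
    intro v hv
    rw [LinearMap.mem_ker] at hv
    have e1 : P₀ v = 0 := by rw [← hf1, hv]; rfl
    have e2 : P v = 0 := by rw [← hf2, hv]; rfl
    have e3 := LinearMap.congr_fun h3 (v : V)
    rw [LinearMap.add_apply, e1, zero_add, LinearMap.sum_apply, Module.End.one_apply] at e3
    rw [Submodule.mem_bot]
    apply Subtype.ext
    rw [← e3]
    apply Finset.sum_eq_zero
    intro j hj
    rw [Module.End.mul_apply, Module.End.mul_apply, hpow v v.2, map_smul, e2, smul_zero, map_zero]
  have hsurj : Function.Surjective f := by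
    rintro ⟨⟨e, he, he'⟩, ⟨w, hw⟩⟩
    have he1 : P₀ e = e := by
      obtain ⟨x, rfl⟩ := he
      rw [← Module.End.mul_apply, h00]
    have he2 : P e = 0 := by rw [← he1, ← Module.End.mul_apply, h0', LinearMap.zero_apply]
    have hw1 : P w = w := by
      obtain ⟨x, rfl⟩ := hw
      rw [← Module.End.mul_apply, hP]
    have hw0 : P₀ w = 0 := by rw [← hw1, ← Module.End.mul_apply, h0, LinearMap.zero_apply]
    have hsum : Y (∑ j ∈ Finset.range k, μ ^ (k - j) • (Y ^ j) w) =
        μ • ∑ j ∈ Finset.range k, μ ^ (k - j) • (Y ^ j) w := by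
      obtain ⟨n, rfl⟩ : ∃ n, k = n + 1 := ⟨k - 1, by omega⟩
      rw [map_sum, Finset.smul_sum, Finset.sum_range_succ, Finset.sum_range_succ']
      congr 1
      · apply Finset.sum_congr rfl
        intro j hj
        have hj' := Finset.mem_range.1 hj
        rw [map_smul, smul_smul, ← pow_succ', ← Module.End.mul_apply, ← pow_succ']
        congr 2
        omega
      · rw [map_smul, ← Module.End.mul_apply, ← pow_succ', hY, Nat.add_sub_cancel_left, pow_one, pow_zero,
          Nat.sub_zero, hμ, one_smul]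
    refine ⟨⟨e + ∑ j ∈ Finset.range k, μ ^ (k - j) • (Y ^ j) w, ?_⟩, ?_⟩
    · rw [hmem, map_add, hsum, (hmem e).1 he', smul_add]
    · apply Prod.ext
      · apply Subtype.ext
        rw [hf1]
        change P₀ (e + _) = e
        rw [map_add, he1, map_sum, Finset.sum_eq_zero, add_zero]
        intro j _
        rw [map_smul, ← Module.End.mul_apply, ← hYPn, Module.End.mul_apply, hw0, map_zero, smul_zero]
      · apply Subtype.ext
        rw [hf2]
        change P (e + _) = w
        rw [map_add, he2, zero_add, map_sum, Finset.sum_eq_single 0]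
        · rw [map_smul, pow_zero, Nat.sub_zero, hμ, one_smul, Module.End.one_apply, hw1]
        · intro j hj hj0
          have h5 := LinearMap.congr_fun (h2 j (Nat.pos_of_ne_zero hj0) (Finset.mem_range.1 hj)) w
          rw [Module.End.mul_apply, Module.End.mul_apply, hw1] at h5
          rw [map_smul, h5]
          exact smul_zero _
        · intro h
          exact absurd (Finset.mem_range.2 hk) h
  have h := (LinearEquiv.ofBijective f ⟨hinj, hsurj⟩).finrank_eq
  rw [h, Module.finrank_prod]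

/-- **The core lemma** -/
theorem core (hk : 0 < k) {μ : K} (hμ : μ ^ k = 1) (hY : Y ^ k = 1)
    (h00 : P₀ * P₀ = P₀) (h0 : P₀ * P = 0) (h0' : P * P₀ = 0) (hP : P * P = P) (hYP : Y * P₀ = P₀ * Y)
    (h2 : ∀ j, 0 < j → j < k → P * Y ^ j * P = 0)
    (h3 : P₀ + ∑ j ∈ Finset.range k, Y ^ j * P * Y ^ (k - j) = 1) :
    k * ev Y μ + finrank K (LinearMap.range P₀) =
      k * finrank K ↥(LinearMap.range P₀ ⊓ es Y μ) + finrank K V := by
  have h4 := core_dim hk hY h00 h0 h0' hP hYP h2 h3
  have h5 := core_eig hk hμ hY h00 h0 h0' hP hYP h2 h3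
  have h6 : ev Y μ = finrank K (es Y μ) := rfl
  rw [h6, h5, h4]
  ring

end core

/-! ### Projections on the eigenspaces of an operator of finite order -/

section proj

variable {m : ℕ} [NeZero m] {T Y : Module.End K V} {ψ : AddChar (ZMod m) K}

theorem pow_val_add (hT : T ^ m = 1) (s t : ZMod m) : T ^ (s + t).val = T ^ s.val * T ^ t.val := by
  rw [← pow_add, ZMod.val_add, ← pow_eq_pow_mod _ hT]

/-- the projection on an eigenspace -/
noncomputable def pj (ψ : AddChar (ZMod m) K) (T : Module.End K V) (i : ZMod m) : Module.End K V :=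
  (m : K)⁻¹ • ∑ t : ZMod m, ψ (-(t * i)) • T ^ t.val

theorem sum_psi (hψ : ψ.IsPrimitive) (b : ZMod m) : ∑ t : ZMod m, ψ (t * b) = if b = 0 then (m : K) else 0 := by
  rw [AddChar.sum_mulShift b hψ]
  split_ifs
  · rw [ZMod.card]
  · exact Nat.cast_zero

theorem sum_pj (hmK : (m : K) ≠ 0) (hψ : ψ.IsPrimitive) : ∑ i, pj ψ T i = 1 := by
  have h1 : ∀ t : ZMod m, ∑ i : ZMod m, ψ (-(t * i)) = if t = 0 then (m : K) else 0 := by
    intro t
    have h2 := sum_psi (K := K) hψ (-t)
    simp only [neg_eq_zero] at h2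
    rw [← h2]
    apply Finset.sum_congr rfl
    intro i _
    congr 1
    ring
  unfold pj
  rw [← Finset.smul_sum, Finset.sum_comm]
  simp_rw [← Finset.sum_smul, h1]
  rw [Finset.sum_eq_single 0]
  · rw [if_pos rfl, smul_smul, inv_mul_cancel₀ hmK, one_smul, ZMod.val_zero, pow_zero]
  · intro t _ ht
    rw [if_neg ht, zero_smul]
  · intro h
    exact absurd (Finset.mem_univ _) h

theorem pj_mul (hT : T ^ m = 1) (hmK : (m : K) ≠ 0) (hψ : ψ.IsPrimitive) (i j : ZMod m) :
    pj ψ T i * pj ψ T j = if i = j then pj ψ T j else 0 := by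
  unfold pj
  rw [smul_mul_smul_comm, Finset.sum_mul_sum]
  have h1 : ∀ s : ZMod m, ∑ t : ZMod m, (ψ (-(s * i)) • T ^ s.val) * (ψ (-(t * j)) • T ^ t.val) =
      ∑ u : ZMod m, (ψ (s * (j - i)) * ψ (-(u * j))) • T ^ u.val := by
    intro s
    rw [← Equiv.sum_comp (Equiv.addLeft s) fun u : ZMod m => (ψ (s * (j - i)) * ψ (-(u * j))) • T ^ u.val]
    apply Finset.sum_congr rfl
    intro t _
    rw [smul_mul_smul_comm, Equiv.coe_addLeft, pow_val_add hT, ← AddChar.map_add_eq_mul, ← AddChar.map_add_eq_mul]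
    congr 2
    ring
  simp_rw [h1]
  rw [Finset.sum_comm]
  simp_rw [← Finset.sum_smul, ← Finset.sum_mul, sum_psi (K := K) hψ, sub_eq_zero]
  by_cases hij : i = j
  · subst hij
    simp only [if_true, ← smul_smul, ← Finset.smul_sum]
    rw [smul_smul (m : K)⁻¹ (m : K), inv_mul_cancel₀ hmK, one_smul]
  · rw [if_neg hij]
    simp only [if_neg (Ne.symm hij), zero_mul, zero_smul, Finset.sum_const_zero, smul_zero]

theorem range_pj (hT : T ^ m = 1) (hmK : (m : K) ≠ 0) : LinearMap.range (pj ψ T 0) = es T 1 := by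
  have h0 : pj ψ T 0 = (m : K)⁻¹ • ∑ t : ZMod m, T ^ t.val := by
    unfold pj
    congr 1
    apply Finset.sum_congr rfl
    intro t _
    rw [mul_zero, neg_zero, AddChar.map_zero_eq_one, one_smul]
  rw [h0]
  ext v
  unfold es
  rw [Module.End.mem_eigenspace_iff, one_smul]
  constructor
  · rintro ⟨w, rfl⟩
    rw [← Module.End.mul_apply, mul_smul_comm, Finset.mul_sum]
    congr 2
    rw [← Equiv.sum_comp (Equiv.addLeft (1 : ZMod m)) fun t : ZMod m => T ^ t.val]
    apply Finset.sum_congr rfl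
    intro t _
    rw [Equiv.coe_addLeft, pow_val_add hT]
    congr 1
    rw [ZMod.val_one_eq_one_mod, ← pow_eq_pow_mod _ hT, pow_one]
  · intro hv
    refine ⟨v, ?_⟩
    have h1 : ∀ n : ℕ, (T ^ n) v = v := by
      intro n
      induction n with
      | zero => rfl
      | succ n ih => rw [pow_succ, Module.End.mul_apply, hv, ih]
    rw [LinearMap.smul_apply, LinearMap.sum_apply]
    simp_rw [h1]
    rw [Finset.sum_const, Finset.card_univ, ZMod.card, ← Nat.cast_smul_eq_nsmul K, smul_smul, inv_mul_cancel₀ hmK,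
      one_smul]

theorem mul_pj {a b : ZMod m} (hab : a * b = 1) (h : ∀ t : ZMod m, Y * T ^ t.val = T ^ (a * t).val * Y) (i : ZMod m) :
    Y * pj ψ T i = pj ψ T (b * i) * Y := by
  unfold pj
  rw [mul_smul_comm, smul_mul_assoc, Finset.mul_sum, Finset.sum_mul]
  congr 1
  let e : ZMod m ≃ ZMod m := ⟨fun t => a * t, fun t => b * t, fun t => by
    change b * (a * t) = t
    rw [← mul_assoc, mul_comm b a, hab, one_mul], fun t => by
    change a * (b * t) = t
    rw [← mul_assoc, hab, one_mul]⟩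
  rw [← Equiv.sum_comp e fun t : ZMod m => (ψ (-(t * (b * i))) • T ^ t.val) * Y]
  apply Finset.sum_congr rfl
  intro t _
  have he : e t = a * t := rfl
  rw [he, mul_smul_comm, smul_mul_assoc, h]
  congr 2
  have : a * t * (b * i) = a * b * (t * i) := by ring
  rw [this, hab, one_mul]

end proj

/-- a transversal for the multiplication by `b` on the nonzero residues -/
theorem exists_transversal {m : ℕ} [Fact m.Prime] (b : ZMod m) {k : ℕ} (hb : orderOf b = k) (hk : 0 < k) :
    ∃ R : Finset (ZMod m), (0 : ZMod m) ∉ R ∧ (∀ i, i ≠ 0 → ∃ j < k, b ^ j * i ∈ R) ∧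
      ∀ i ∈ R, ∀ j, 0 < j → j < k → b ^ j * i ∉ R := by
  classical
  have hb0 : b ≠ 0 := by
    rintro rfl
    have h := pow_orderOf_eq_one (0 : ZMod m)
    rw [hb, zero_pow hk.ne'] at h
    exact zero_ne_one h
  refine ⟨Finset.univ.filter fun i => i ≠ 0 ∧ ∀ j : ℕ, i.val ≤ (b ^ j * i).val, by simp, ?_, ?_⟩
  · intro i hi
    obtain ⟨j, hj, hmin⟩ := Finset.exists_min_image (Finset.range k) (fun j => (b ^ j * i).val)
      ⟨0, Finset.mem_range.2 hk⟩
    refine ⟨j, Finset.mem_range.1 hj, ?_⟩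
    rw [Finset.mem_filter]
    refine ⟨Finset.mem_univ _, mul_ne_zero (pow_ne_zero _ hb0) hi, fun n => ?_⟩
    have h1 := hmin ((n + j) % k) (Finset.mem_range.2 (Nat.mod_lt _ hk))
    have h2 : b ^ ((n + j) % k) = b ^ n * b ^ j := by
      rw [← hb, pow_mod_orderOf, pow_add]
    rw [h2, mul_assoc] at h1
    exact h1
  · intro i hi j hj0 hjk hji
    rw [Finset.mem_filter] at hi hji
    have h1 := hi.2.2 j
    have h2 := hji.2.2 (k - j)
    rw [← mul_assoc, ← pow_add, Nat.sub_add_cancel hjk.le, ← hb, pow_orderOf_eq_one, one_mul] at h2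
    have h3 : b ^ j * i = i := ZMod.val_injective m (le_antisymm h2 h1)
    have h4 : b ^ j = 1 := mul_right_cancel₀ hi.2.1 (by rw [h3, one_mul])
    have h5 := orderOf_dvd_of_pow_eq_one h4
    rw [hb] at h5
    exact absurd (Nat.le_of_dvd hj0 h5) (by omega)

/-- the core lemma for eigenspaces of an operator of prime order -/
theorem frob_core {m : ℕ} [Fact m.Prime] (hmK : (m : K) ≠ 0) {ψ : AddChar (ZMod m) K} (hψ : ψ.IsPrimitive)
    {T Y : Module.End K V} (hT : T ^ m = 1) {k : ℕ} (hk : 0 < k) (hY : Y ^ k = 1) {b : ZMod m} (hb : orderOf b = k)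
    (hYT : ∀ i, Y * pj ψ T i = pj ψ T (b * i) * Y) {μ : K} (hμ : μ ^ k = 1) :
    k * ev Y μ + ev T 1 = k * finrank K ↥(es T 1 ⊓ es Y μ) + finrank K V := by
  classical
  obtain ⟨R, hR0, hR1, hR2⟩ := exists_transversal b hb hk
  have hYn : ∀ (n : ℕ) (i : ZMod m), Y ^ n * pj ψ T i = pj ψ T (b ^ n * i) * Y ^ n := by
    intro n
    induction n with
    | zero => intro i; rw [pow_zero, pow_zero, one_mul, one_mul, mul_one]
    | succ n ih =>
      intro i
      rw [pow_succ', mul_assoc, ih, ← mul_assoc, hYT, mul_assoc, ← mul_assoc b, ← pow_succ']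
  have hYP : ∀ n : ℕ, Y ^ n * (∑ i ∈ R, pj ψ T i) = (∑ i ∈ R, pj ψ T (b ^ n * i)) * Y ^ n := by
    intro n
    rw [Finset.mul_sum, Finset.sum_mul]
    exact Finset.sum_congr rfl fun i _ => hYn n i
  have hbk : b ^ k = 1 := by rw [← hb, pow_orderOf_eq_one]
  have hb0 : b ≠ 0 := by
    rintro rfl
    rw [zero_pow hk.ne'] at hbk
    exact zero_ne_one hbk
  have h := core (K := K) (P₀ := pj ψ T 0) (P := ∑ i ∈ R, pj ψ T i) (Y := Y) hk hμ hY ?_ ?_ ?_ ?_ ?_ ?_ ?_
  · rw [range_pj hT hmK] at h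
    exact h
  · rw [pj_mul hT hmK hψ, if_pos rfl]
  · rw [Finset.mul_sum]
    apply Finset.sum_eq_zero
    intro i hi
    rw [pj_mul hT hmK hψ, if_neg]
    rintro rfl
    exact hR0 hi
  · rw [Finset.sum_mul]
    apply Finset.sum_eq_zero
    intro i hi
    rw [pj_mul hT hmK hψ, if_neg]
    rintro rfl
    exact hR0 hi
  · rw [Finset.sum_mul_sum]
    apply Finset.sum_congr rfl
    intro i hi
    rw [Finset.sum_eq_single i]
    · rw [pj_mul hT hmK hψ, if_pos rfl]
    · intro j _ hj
      rw [pj_mul hT hmK hψ, if_neg (Ne.symm hj)]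
    · intro h
      exact absurd hi h
  · rw [hYT, mul_zero]
  · intro j hj0 hjk
    rw [mul_assoc, hYP, ← mul_assoc, Finset.sum_mul_sum]
    have : ∑ i ∈ R, ∑ i' ∈ R, pj ψ T i * pj ψ T (b ^ j * i') = 0 := by
      apply Finset.sum_eq_zero
      intro i hi
      apply Finset.sum_eq_zero
      intro i' hi'
      rw [pj_mul hT hmK hψ, if_neg]
      rintro rfl
      exact hR2 i' hi' j hj0 hjk hi
    rw [this, zero_mul]
  · have h1 : ∀ j ∈ Finset.range k, Y ^ j * (∑ i ∈ R, pj ψ T i) * Y ^ (k - j) = ∑ i ∈ R, pj ψ T (b ^ j * i) := by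
      intro j hj
      rw [hYP, mul_assoc, ← pow_add, Nat.add_sub_cancel' (Finset.mem_range.1 hj).le, hY, mul_one]
    rw [Finset.sum_congr rfl h1, ← Finset.sum_product', ← sum_pj (T := T) hmK hψ,
      ← Finset.add_sum_erase Finset.univ _ (Finset.mem_univ (0 : ZMod m))]
    congr 1
    refine Finset.sum_bij (fun x _ => b ^ x.1 * x.2) ?_ ?_ ?_ ?_
    · rintro ⟨j, i⟩ hx
      rw [Finset.mem_product] at hx
      rw [Finset.mem_erase]
      refine ⟨mul_ne_zero (pow_ne_zero _ hb0) ?_, Finset.mem_univ _⟩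
      rintro h0
      have h2 : i = 0 := h0
      subst h2
      exact hR0 hx.2
    · rintro ⟨j, i⟩ hx ⟨j', i'⟩ hx' heq
      rw [Finset.mem_product] at hx hx'
      have hj := Finset.mem_range.1 hx.1
      have hj' := Finset.mem_range.1 hx'.1
      change b ^ j * i = b ^ j' * i' at heq
      have key : ∀ (j i j' i' : _), j < j' → j' < k → i ∈ R → i' ∈ R → b ^ j * i ≠ b ^ j' * i' := by
        intro j i j' i' h1 h2 h3 h4 h5
        obtain ⟨c, rfl⟩ := Nat.exists_eq_add_of_lt h1
        rw [add_assoc, pow_add, mul_assoc] at h5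
        have h6 := mul_left_cancel₀ (pow_ne_zero _ hb0) h5
        rw [h6] at h3
        exact hR2 i' h4 (c + 1) (by omega) (by omega) h3
      rcases lt_trichotomy j j' with h1 | h1 | h1
      · exact absurd heq (key j i j' i' h1 hj' hx.2 hx'.2)
      · subst h1
        have h2 := mul_left_cancel₀ (pow_ne_zero _ hb0) heq
        rw [h2]
      · exact absurd heq.symm (key j' i' j i h1 hj hx'.2 hx.2)
    · intro i hi
      rw [Finset.mem_erase] at hi
      obtain ⟨j, hj, hji⟩ := hR1 i hi.1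
      rcases Nat.eq_zero_or_pos j with h0 | h0
      · subst h0
        rw [pow_zero, one_mul] at hji
        exact ⟨(0, i), Finset.mem_product.2 ⟨Finset.mem_range.2 hk, hji⟩, by rw [pow_zero, one_mul]⟩
      · refine ⟨(k - j, b ^ j * i), Finset.mem_product.2 ⟨Finset.mem_range.2 (by omega), hji⟩, ?_⟩
        change b ^ (k - j) * (b ^ j * i) = i
        rw [← mul_assoc, ← pow_add, Nat.sub_add_cancel hj.le, hbk, one_mul]
    · rintro ⟨j, i⟩ hx
      rfl

/-- an operator `T` of order dividing `m` with `Y T = T ^ a Y` -/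
theorem mul_pow_val {m a : ℕ} [NeZero m] {T Y : Module.End K V} (hT : T ^ m = 1) (h : Y * T = T ^ a * Y)
    (t : ZMod m) : Y * T ^ t.val = T ^ ((a : ZMod m) * t).val * Y := by
  have h1 : ∀ n : ℕ, Y * T ^ n = T ^ (a * n) * Y := by
    intro n
    induction n with
    | zero => rw [mul_zero, pow_zero, mul_one, one_mul]
    | succ n ih => rw [pow_succ, ← mul_assoc, ih, mul_assoc, h, ← mul_assoc, ← pow_add, Nat.mul_succ]
  have h2 : ((a : ZMod m) * t).val = (a * t.val) % m := by
    rw [← ZMod.val_natCast, Nat.cast_mul, ZMod.natCast_zmod_val]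
  rw [h1, h2, ← pow_eq_pow_mod _ hT]

/-- Frobenius groups: `z` of prime order `m`, `y z y⁻¹ = z ^ a`, `a` of order `k` modulo `m`, `y ^ k = 1`. -/
theorem frob [IsAlgClosed K] (ρ : Representation K G V) {m : ℕ} (hm : m.Prime) (hmK : (m : K) ≠ 0) {z y : G}
    {a k : ℕ} (hz : z ^ m = 1) (hyz : y * z * y⁻¹ = z ^ a) (hk : orderOf (a : ZMod m) = k) (hk0 : 0 < k)
    (hy : y ^ k = 1) {μ : K} (hμ : μ ^ k = 1) :
    k * ev (ρ y) μ + ev (ρ z) 1 =
      k * finrank K ↥(es (ρ z) 1 ⊓ es (ρ y) μ) + finrank K V := by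
  have hmf : Fact m.Prime := ⟨hm⟩
  have : NeZero (m : K) := ⟨hmK⟩
  obtain ⟨ω, hω⟩ := HasEnoughRootsOfUnity.exists_primitiveRoot K m
  have hψ := AddChar.zmodChar_primitive_of_primitive_root m hω
  have hT : ρ z ^ m = 1 := by rw [← map_pow, hz, map_one]
  have hY : ρ y ^ k = 1 := by rw [← map_pow, hy, map_one]
  have h1 : ρ y * ρ z = ρ z ^ a * ρ y := by
    rw [← map_pow, ← map_mul, ← map_mul, ← hyz]
    congr 1
    group
  have ha0 : (a : ZMod m) ≠ 0 := by
    intro h0
    have h := pow_orderOf_eq_one (a : ZMod m)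
    rw [hk, h0, zero_pow hk0.ne'] at h
    exact zero_ne_one h
  have hb : orderOf ((a : ZMod m)⁻¹) = k := by
    rw [← hk, orderOf_eq_orderOf_iff]
    intro n
    rw [inv_pow, inv_eq_one]
  exact frob_core hmK hψ hT hk0 hY hb (mul_pj (mul_inv_cancel₀ ha0) (mul_pow_val hT h1)) hμ

/-! ### Groups of order 9 -/

/-- a complete family of orthogonal idempotents -/
theorem finrank_complete {ι : Type*} [Fintype ι] [DecidableEq ι] (Q : ι → Module.End K V) (h1 : ∑ i, Q i = 1)
    (h2 : ∀ i j, i ≠ j → Q i * Q j = 0) (h3 : ∀ i, Q i * Q i = Q i) :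
    finrank K V = ∑ i, finrank K (LinearMap.range (Q i)) := by
  let f : V →ₗ[K] (∀ i, LinearMap.range (Q i)) := LinearMap.pi fun i => (Q i).rangeRestrict
  have hf : ∀ v i, ((f v i : LinearMap.range (Q i)) : V) = Q i v := fun v i => rfl
  have hinj : Function.Injective f := by
    rw [← LinearMap.ker_eq_bot, eq_bot_iff]
    intro v hv
    rw [LinearMap.mem_ker] at hv
    have e3 := LinearMap.congr_fun h1 v
    rw [LinearMap.sum_apply, Module.End.one_apply] at e3
    rw [Submodule.mem_bot, ← e3]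
    apply Finset.sum_eq_zero
    intro i _
    rw [← hf, hv]
    rfl
  have hsurj : Function.Surjective f := by
    intro w
    refine ⟨∑ i, (w i : V), ?_⟩
    have hw : ∀ i j, Q i (w j : V) = if i = j then (w j : V) else 0 := by
      intro i j
      obtain ⟨x, hx⟩ := (w j).2
      rw [← hx, ← Module.End.mul_apply]
      by_cases hij : i = j
      · subst hij
        rw [if_pos rfl, h3]
      · rw [if_neg hij, h2 i j hij, LinearMap.zero_apply]
    funext i
    apply Subtype.ext
    rw [hf, map_sum, Finset.sum_eq_single i]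
    · rw [hw, if_pos rfl]
    · intro j _ hj
      rw [hw, if_neg (Ne.symm hj)]
    · intro h
      exact absurd (Finset.mem_univ i) h
  rw [(LinearEquiv.ofBijective f ⟨hinj, hsurj⟩).finrank_eq, Module.finrank_pi_fintype]

theorem finrank_sub {e g : Module.End K V} (he : e * e = e) (hg : g * g = g) (h1 : e * g = g) (h2 : g * e = g) :
    finrank K (LinearMap.range e) = finrank K (LinearMap.range g) + finrank K (LinearMap.range (e - g)) := by
  have a1 := finrank_complete (K := K) (V := V) ![e, 1 - e] (by simp [Fin.sum_univ_two])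
    (by
      intro i j hij
      fin_cases i <;> fin_cases j <;> simp_all [mul_sub, sub_mul])
    (by
      intro i
      fin_cases i <;> simp_all [mul_sub, sub_mul])
  have a2 := finrank_complete (K := K) (V := V) ![g, e - g, 1 - e] (by simp [Fin.sum_univ_three])
    (by
      intro i j hij
      fin_cases i <;> fin_cases j <;> simp_all [mul_sub, sub_mul])
    (by
      intro i
      fin_cases i <;> simp_all [mul_sub, sub_mul])
  have b1 : finrank K V = finrank K (LinearMap.range e) + finrank K (LinearMap.range (1 - e)) := by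
    rw [a1, Fin.sum_univ_two]
    rfl
  have b2 : finrank K V = finrank K (LinearMap.range g) + finrank K (LinearMap.range (e - g)) +
      finrank K (LinearMap.range (1 - e)) := by
    rw [a2, Fin.sum_univ_three]
    rfl
  omega

/-- the average over a group of order 3 -/
noncomputable def av (T : Module.End K V) : Module.End K V := (3 : K)⁻¹ • (1 + T + T * T)

theorem pj_three {ψ : AddChar (ZMod 3) K} (T : Module.End K V) : pj ψ T 0 = av T := by
  unfold pj av
  have h : ∀ t : ZMod 3, ψ (-(t * 0)) = 1 := fun t => by rw [mul_zero, neg_zero, AddChar.map_zero_eq_one]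
  simp_rw [h, one_smul]
  have h2 : ∑ t : ZMod 3, T ^ t.val = T ^ 0 + T ^ 1 + T ^ 2 := Fin.sum_univ_three _
  rw [h2, pow_zero, pow_one, pow_two, Nat.cast_ofNat]

theorem av_mul_self {T : Module.End K V} (h3 : (3 : K) ≠ 0) (hT : T * (T * T) = 1) : av T * av T = av T := by
  unfold av
  rw [smul_mul_smul_comm]
  have h1 : (1 + T + T * T) * (1 + T + T * T) = (3 : K) • (1 + T + T * T) := by
    have h2 : (3 : K) • (1 + T + T * T) = (1 + T + T * T) + (1 + T + T * T) + (1 + T + T * T) := by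
      rw [show (3 : K) = 1 + 1 + 1 by norm_num, add_smul, add_smul, one_smul]
    rw [h2]
    simp only [mul_add, add_mul, mul_one, one_mul, mul_assoc, hT]
    abel
  rw [h1, smul_smul, mul_assoc, inv_mul_cancel₀ h3, mul_one]

section comm

variable {T S : Module.End K V}

theorem av_comm (h : S * T = T * S) : av T * av S = av S * av T := by
  have h1 : Commute (1 + T + T * T) (1 + S + S * S) := by
    have h0 : Commute T S := h.symm
    have h2 : Commute T (1 + S + S * S) := ((Commute.one_right T).add_right h0).add_right (h0.mul_right h0)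
    exact ((Commute.one_left _).add_left h2).add_left (h2.mul_left h2)
  unfold av
  rw [smul_mul_smul_comm, smul_mul_smul_comm, h1.eq]

/-- the four subgroups of order 3 -/
theorem av_prod (h : S * T = T * S) (hT : T * (T * T) = 1) (hS : S * (S * S) = 1) :
    av T * av (T * S) = av T * av S ∧ av T * av (T * (S * S)) = av T * av S ∧
      av S * av (T * S) = av T * av S ∧ av S * av (T * (S * S)) = av T * av S ∧
      av (T * S) * av (T * (S * S)) = av T * av S := by
  have h1 : ∀ x, S * (T * x) = T * (S * x) := fun x => by rw [← mul_assoc, h, mul_assoc]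
  have h2 : ∀ x, T * (T * (T * x)) = x := fun x => by
    rw [← mul_assoc T T x, ← mul_assoc T (T * T) x, hT, one_mul]
  have h3 : ∀ x, S * (S * (S * x)) = x := fun x => by
    rw [← mul_assoc S S x, ← mul_assoc S (S * S) x, hS, one_mul]
  unfold av
  simp only [smul_mul_smul_comm, mul_add, add_mul, mul_one, one_mul, mul_assoc, hT, hS, h, h1, h2]
  refine ⟨?_, ?_, ?_, ?_, ?_⟩ <;> congr 1 <;> abel

theorem av_sum (h3 : (3 : K) ≠ 0) (h : S * T = T * S) (hT : T * (T * T) = 1) (hS : S * (S * S) = 1) :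
    av T + av S + av (T * S) + av (T * (S * S)) = 1 + (3 : K) • (av T * av S) := by
  have h1 : ∀ x, S * (T * x) = T * (S * x) := fun x => by rw [← mul_assoc, h, mul_assoc]
  have h2 : ∀ x, T * (T * (T * x)) = x := fun x => by
    rw [← mul_assoc T T x, ← mul_assoc T (T * T) x, hT, one_mul]
  have h4 : ∀ x, S * (S * (S * x)) = x := fun x => by
    rw [← mul_assoc S S x, ← mul_assoc S (S * S) x, hS, one_mul]
  have h5 : (1 : Module.End K V) = (3 : K)⁻¹ • (1 + 1 + 1) := by
    rw [show (1 + 1 + 1 : Module.End K V) = (3 : K) • 1 by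
      rw [show (3 : K) = 1 + 1 + 1 by norm_num, add_smul, add_smul, one_smul], smul_smul, inv_mul_cancel₀ h3,
      one_smul]
  rw [h5]
  unfold av
  rw [smul_mul_smul_comm, smul_smul, ← mul_assoc (3 : K), mul_inv_cancel₀ h3, one_mul, ← smul_add, ← smul_add,
    ← smul_add, ← smul_add]
  congr 1
  simp only [mul_add, add_mul, mul_one, one_mul, mul_assoc, hS, h, h1]
  abel

theorem orth_sub {g a b : Module.End K V} (hab : a * b = g) (hag : a * g = g) (hgb : g * b = g) (hgg : g * g = g) :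
    (a - g) * (b - g) = 0 := by
  rw [mul_sub, sub_mul, sub_mul, hab, hag, hgb, hgg, sub_self]

theorem finrank_five {g a b c d : Module.End K V} (ab : a * b = g) (ba : b * a = g) (ac : a * c = g) (ca : c * a = g)
    (ad : a * d = g) (da : d * a = g) (bc : b * c = g) (cb : c * b = g) (bd : b * d = g) (db : d * b = g)
    (cd : c * d = g) (dc : d * c = g) (aa : a * a = a) (bb : b * b = b) (cc : c * c = c) (dd : d * d = d)
    (ag : a * g = g) (ga : g * a = g) (bg : b * g = g) (gb : g * b = g) (cg : c * g = g) (gc : g * c = g)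
    (dg : d * g = g) (gd : g * d = g) (gg : g * g = g) (hsum : a + b + c + d = 1 + (g + g + g)) :
    finrank K V = finrank K (LinearMap.range g) + finrank K (LinearMap.range (a - g)) +
      finrank K (LinearMap.range (b - g)) + finrank K (LinearMap.range (c - g)) +
      finrank K (LinearMap.range (d - g)) := by
  have z1 : ∀ {x : Module.End K V}, g * x = g → g * (x - g) = 0 := fun h => by rw [mul_sub, h, gg, sub_self]
  have z2 : ∀ {x : Module.End K V}, x * g = g → (x - g) * g = 0 := fun h => by rw [sub_mul, h, gg, sub_self]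
  have z3 : ∀ {x : Module.End K V}, x * x = x → x * g = g → g * x = g → (x - g) * (x - g) = x - g :=
    fun h h1 h2 => by rw [mul_sub, sub_mul, sub_mul, h, h1, h2, gg, sub_self, sub_zero]
  have key := finrank_complete (K := K) (V := V) ![g, a - g, b - g, c - g, d - g] (by
      rw [Fin.sum_univ_five]
      change g + (a - g) + (b - g) + (c - g) + (d - g) = 1
      have : g + (a - g) + (b - g) + (c - g) + (d - g) = (a + b + c + d) - (g + g + g) := by abel
      rw [this, hsum, add_sub_cancel_right])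
    (by
      intro i j hij
      fin_cases i <;> fin_cases j
      · exact absurd rfl hij
      · exact z1 ga
      · exact z1 gb
      · exact z1 gc
      · exact z1 gd
      · exact z2 ag
      · exact absurd rfl hij
      · exact orth_sub ab ag gb gg
      · exact orth_sub ac ag gc gg
      · exact orth_sub ad ag gd gg
      · exact z2 bg
      · exact orth_sub ba bg ga gg
      · exact absurd rfl hij
      · exact orth_sub bc bg gc gg
      · exact orth_sub bd bg gd gg
      · exact z2 cg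
      · exact orth_sub ca cg ga gg
      · exact orth_sub cb cg gb gg
      · exact absurd rfl hij
      · exact orth_sub cd cg gd gg
      · exact z2 dg
      · exact orth_sub da dg ga gg
      · exact orth_sub db dg gb gg
      · exact orth_sub dc dg gc gg
      · exact absurd rfl hij)
    (by
      intro i
      fin_cases i
      · exact gg
      · exact z3 aa ag ga
      · exact z3 bb bg gb
      · exact z3 cc cg gc
      · exact z3 dd dg gd)
  rw [key, Fin.sum_univ_five]
  rfl

/-- **elementary abelian groups of order 9** -/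
theorem finrank_nine (h3 : (3 : K) ≠ 0) (h : S * T = T * S) (hT : T * (T * T) = 1) (hS : S * (S * S) = 1) :
    finrank K V + 3 * finrank K (LinearMap.range (av T * av S)) =
      finrank K (LinearMap.range (av T)) + finrank K (LinearMap.range (av S)) +
        finrank K (LinearMap.range (av (T * S))) + finrank K (LinearMap.range (av (T * (S * S)))) := by
  have e1 : ∀ x, S * (T * x) = T * (S * x) := fun x => by rw [← mul_assoc, h, mul_assoc]
  have e2 : ∀ x, T * (T * (T * x)) = x := fun x => by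
    rw [← mul_assoc T T x, ← mul_assoc T (T * T) x, hT, one_mul]
  have e3 : ∀ x, S * (S * (S * x)) = x := fun x => by
    rw [← mul_assoc S S x, ← mul_assoc S (S * S) x, hS, one_mul]
  have hU : T * S * (T * S * (T * S)) = 1 := by simp only [mul_assoc, e1, e2, hS]
  have hW : T * (S * S) * (T * (S * S) * (T * (S * S))) = 1 := by simp only [mul_assoc, e1, e2, e3, hS]
  obtain ⟨g, hg⟩ : ∃ g, g = av T * av S := ⟨_, rfl⟩
  obtain ⟨a, ha⟩ : ∃ a, a = av T := ⟨_, rfl⟩
  obtain ⟨b, hb⟩ : ∃ b, b = av S := ⟨_, rfl⟩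
  obtain ⟨c, hc⟩ : ∃ c, c = av (T * S) := ⟨_, rfl⟩
  obtain ⟨d, hd⟩ : ∃ d, d = av (T * (S * S)) := ⟨_, rfl⟩
  have haa : a * a = a := by rw [ha]; exact av_mul_self h3 hT
  have hbb : b * b = b := by rw [hb]; exact av_mul_self h3 hS
  have hcc : c * c = c := by rw [hc]; exact av_mul_self h3 hU
  have hdd : d * d = d := by rw [hd]; exact av_mul_self h3 hW
  obtain ⟨p1, p2, p3, p4, p5⟩ := av_prod (K := K) h hT hS
  rw [← hg] at p1 p2 p3 p4 p5
  rw [← ha, ← hc] at p1
  rw [← ha, ← hd] at p2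
  rw [← hb, ← hc] at p3
  rw [← hb, ← hd] at p4
  rw [← hc, ← hd] at p5
  have hab : a * b = g := by rw [ha, hb, hg]
  -- commutations
  have q0 : b * a = g := by rw [← hab, ha, hb]; exact (av_comm h).symm
  have q1 : c * a = g := by
    rw [← p1, ha, hc]
    exact av_comm (show T * (T * S) = T * S * T by simp only [mul_assoc, h])
  have q2 : d * a = g := by
    rw [← p2, ha, hd]
    exact av_comm (show T * (T * (S * S)) = T * (S * S) * T by simp only [mul_assoc, h, e1])
  have q3 : c * b = g := by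
    rw [← p3, hb, hc]
    exact av_comm (show S * (T * S) = T * S * S by simp only [mul_assoc, e1])
  have q4 : d * b = g := by
    rw [← p4, hb, hd]
    exact av_comm (show S * (T * (S * S)) = T * (S * S) * S by simp only [mul_assoc, e1])
  have q5 : d * c = g := by
    rw [← p5, hc, hd]
    exact av_comm (show T * S * (T * (S * S)) = T * (S * S) * (T * S) by simp only [mul_assoc, e1])
  have ag : a * g = g := by rw [← hab, ← mul_assoc, haa]
  have bg : b * g = g := by rw [← q0, ← mul_assoc, hbb]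
  have cg : c * g = g := by rw [← q1, ← mul_assoc, hcc]
  have dg : d * g = g := by rw [← q2, ← mul_assoc, hdd]
  have ga : g * a = g := by rw [← q0, mul_assoc, haa]
  have gb : g * b = g := by rw [← hab, mul_assoc, hbb]
  have gc : g * c = g := by rw [← p1, mul_assoc, hcc]
  have gd : g * d = g := by rw [← p2, mul_assoc, hdd]
  have gg : g * g = g := by
    nth_rewrite 1 [← hab]
    rw [mul_assoc, bg, ag]
  have hsum : a + b + c + d = 1 + (3 : K) • g := by
    rw [ha, hb, hc, hd, hg]
    exact av_sum h3 h hT hS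
  have h3g : (3 : K) • g = g + g + g := by
    rw [show (3 : K) = 1 + 1 + 1 by norm_num, add_smul, add_smul, one_smul]
  have key' := finrank_five (K := K) (V := V) hab q0 p1 q1 p2 q2 p3 q3 p4 q4 p5 q5 haa hbb hcc hdd ag ga bg gb cg gc dg gd gg
    (by rw [hsum, h3g])
  have f1 := finrank_sub haa gg ag ga
  have f2 := finrank_sub hbb gg bg gb
  have f3 := finrank_sub hcc gg cg gc
  have f4 := finrank_sub hdd gg dg gd
  rw [← hg, ← ha, ← hb, ← hc, ← hd]
  omega

end comm

/-- projections of commuting operators commute -/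
theorem pj_comm {m : ℕ} [NeZero m] {ψ : AddChar (ZMod m) K} {T S : Module.End K V} (h : S * T = T * S)
    (i j : ZMod m) : pj ψ S j * pj ψ T i = pj ψ T i * pj ψ S j := by
  have h1 : Commute (∑ t : ZMod m, ψ (-(t * j)) • S ^ t.val) (∑ t : ZMod m, ψ (-(t * i)) • T ^ t.val) := by
    refine Commute.sum_left _ _ _ fun s _ => Commute.sum_right _ _ _ fun t _ => ?_
    exact (((show Commute S T from h).pow_pow _ _).smul_left _).smul_right _
  unfold pj
  rw [smul_mul_smul_comm, smul_mul_smul_comm, h1.eq]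

theorem nine_alg {Z0 Z1 Z2 W0 W1 W2 Y : Module.End K V}
    (h00 : Z0 * Z0 = Z0) (h01 : Z0 * Z1 = 0) (h02 : Z0 * Z2 = 0) (h10 : Z1 * Z0 = 0) (h11 : Z1 * Z1 = Z1)
    (h12 : Z1 * Z2 = 0)
    (k00 : W0 * W0 = W0) (k01 : W0 * W1 = 0) (k10 : W1 * W0 = 0) (k11 : W1 * W1 = W1) (k12 : W1 * W2 = 0)
    (hZ : Z0 + Z1 + Z2 = 1) (hW : W0 + W1 + W2 = 1)
    (c00 : W0 * Z0 = Z0 * W0) (c01 : W0 * Z1 = Z1 * W0) (c10 : W1 * Z0 = Z0 * W1) (c11 : W1 * Z1 = Z1 * W1)
    (c12 : W1 * Z2 = Z2 * W1)
    (hY : Y * Y = 1) (y0 : Y * Z0 = Z0 * Y) (y1 : Y * Z1 = Z2 * Y) (y2 : Y * W0 = W0 * Y) (y3 : Y * W1 = W2 * Y) :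
    finrank K V ≤ 2 * ev Y 1 + finrank K (LinearMap.range (Z0 * W0)) := by
  have yP : Y * (Z1 + Z0 * W1) = (Z2 + Z0 * W2) * Y := by
    rw [mul_add, y1, ← mul_assoc, y0, mul_assoc, y3, ← mul_assoc, add_mul]
  have e1 : (Z1 + Z0 * W1) * (Z2 + Z0 * W2) = 0 := by
    have a1 : Z0 * W1 * Z2 = 0 := by rw [mul_assoc, c12, ← mul_assoc, h02, zero_mul]
    have a2 : Z0 * W1 * (Z0 * W2) = 0 := by
      rw [mul_assoc Z0 W1, ← mul_assoc W1 Z0, c10, mul_assoc Z0 W1, k12, mul_zero, mul_zero]
    rw [mul_add, add_mul, add_mul, h12, a1, ← mul_assoc Z1, h10, zero_mul, a2, add_zero, add_zero]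
  have h := core (K := K) (P₀ := Z0 * W0) (P := Z1 + Z0 * W1) (Y := Y) (k := 2) (μ := 1) two_pos (one_pow _)
    (by rw [pow_two, hY]) ?_ ?_ ?_ ?_ ?_ ?_ ?_
  · have h1 : 2 * ev Y 1 + finrank K (LinearMap.range (Z0 * W0)) =
      2 * finrank K ↥(LinearMap.range (Z0 * W0) ⊓ es Y 1) + finrank K V := h
    omega
  · rw [mul_assoc, ← mul_assoc W0, c00, mul_assoc, k00, ← mul_assoc, h00]
  · have a1 : Z0 * W0 * Z1 = 0 := by rw [mul_assoc, c01, ← mul_assoc, h01, zero_mul]
    have a2 : Z0 * W0 * (Z0 * W1) = 0 := by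
      rw [mul_assoc Z0 W0, ← mul_assoc W0 Z0, c00, mul_assoc Z0 W0, k01, mul_zero, mul_zero]
    rw [mul_add, a1, a2, add_zero]
  · have a2 : Z0 * W1 * (Z0 * W0) = 0 := by
      rw [mul_assoc Z0 W1, ← mul_assoc W1 Z0, c10, mul_assoc Z0 W1, k10, mul_zero, mul_zero]
    rw [add_mul, ← mul_assoc, h10, zero_mul, a2, add_zero]
  · have a1 : Z0 * W1 * Z1 = 0 := by rw [mul_assoc, c11, ← mul_assoc, h01, zero_mul]
    have a2 : Z0 * W1 * (Z0 * W1) = Z0 * W1 := by
      rw [mul_assoc Z0 W1, ← mul_assoc W1 Z0, c10, mul_assoc Z0 W1, k11, ← mul_assoc, h00]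
    rw [mul_add, add_mul, add_mul, h11, a1, ← mul_assoc Z1, h10, zero_mul, a2, zero_add, add_zero]
  · rw [← mul_assoc, y0, mul_assoc, y2, mul_assoc]
  · intro j h1 h2
    have hj : j = 1 := by omega
    subst hj
    rw [pow_one, mul_assoc, yP, ← mul_assoc, e1, zero_mul]
  · rw [Finset.sum_range_succ, Finset.sum_range_one, pow_zero, one_mul, Nat.sub_zero, pow_two, hY, mul_one, pow_one,
      yP, mul_assoc, hY, mul_one]
    have : Z0 * W0 + (Z1 + Z0 * W1 + (Z2 + Z0 * W2)) = Z0 * (W0 + W1 + W2) + Z1 + Z2 := by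
      rw [mul_add, mul_add]
      abel
    rw [this, hW, mul_one, hZ]

/-- elementary abelian groups of order 9 with an inverting element, characteristic not 3 -/
theorem nine [IsAlgClosed K] (h3 : (3 : K) ≠ 0) (ρ : Representation K G V) {z w s : G} (hz : z ^ 3 = 1)
    (hw : w ^ 3 = 1) (hzw : z * w = w * z) (hs : s * s = 1) (hsz : s * z * s⁻¹ = z⁻¹) (hsw : s * w * s⁻¹ = w⁻¹) :
    4 * finrank K V ≤ 6 * ev (ρ s) 1 + (ev (ρ z) 1 + ev (ρ w) 1 + ev (ρ (z * w)) 1 + ev (ρ (z * w⁻¹)) 1) := by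
  have hm : ((3 : ℕ) : K) ≠ 0 := by exact_mod_cast h3
  have : NeZero ((3 : ℕ) : K) := ⟨hm⟩
  obtain ⟨ω, hω⟩ := HasEnoughRootsOfUnity.exists_primitiveRoot K 3
  obtain ⟨ψ, hψ⟩ : ∃ ψ : AddChar (ZMod 3) K, ψ.IsPrimitive :=
    ⟨_, AddChar.zmodChar_primitive_of_primitive_root 3 hω⟩
  have hT : ρ z ^ 3 = 1 := by rw [← map_pow, hz, map_one]
  have hS : ρ w ^ 3 = 1 := by rw [← map_pow, hw, map_one]
  have hTS : ρ w * ρ z = ρ z * ρ w := by rw [← map_mul, ← map_mul, hzw]
  have hww : w⁻¹ = w * w := by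
    rw [inv_eq_iff_mul_eq_one, ← mul_assoc, ← hw]
    rw [pow_succ, pow_two]
  have hzz : z⁻¹ = z ^ 2 := by
    rw [inv_eq_iff_mul_eq_one, ← pow_succ', hz]
  have hww2 : w⁻¹ = w ^ 2 := by rw [hww, pow_two]
  have hT' : ρ z * (ρ z * ρ z) = 1 := by rw [← hT, pow_succ, pow_two, mul_assoc]
  have hS' : ρ w * (ρ w * ρ w) = 1 := by rw [← hS, pow_succ, pow_two, mul_assoc]
  have hev : ∀ {X : Module.End K V}, X ^ 3 = 1 → ev X 1 = finrank K (LinearMap.range (av X)) := by
    intro X hX
    have h1 := range_pj (ψ := ψ) hX hm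
    rw [pj_three] at h1
    rw [h1]
    rfl
  have hzw3 : (z * w) ^ 3 = 1 := by
    rw [(show Commute z w from hzw).mul_pow, hz, hw, one_mul]
  have hzw3' : (z * w⁻¹) ^ 3 = 1 := by
    rw [(show Commute z w from hzw).inv_right.mul_pow, hz, inv_pow, hw, inv_one, one_mul]
  have key := finrank_nine h3 hTS hT' hS'
  rw [← hev hT, ← hev hS, ← map_mul, ← map_mul, ← map_mul, ← hww, ← hev (by rw [← map_pow, hzw3, map_one]),
    ← hev (by rw [← map_pow, hzw3', map_one])] at key
  -- the element `s`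
  have hab : (2 : ZMod 3) * 2 = 1 := by decide
  have y1 : ∀ {x : G}, x ^ 3 = 1 → s * x * s⁻¹ = x ^ 2 → ∀ i, ρ s * pj ψ (ρ x) i = pj ψ (ρ x) (2 * i) * ρ s := by
    intro x hx hsx
    have h1 : ρ s * ρ x = ρ x ^ 2 * ρ s := by
      rw [← map_pow, ← map_mul, ← map_mul, ← hsx]
      congr 1
      group
    exact mul_pj hab (mul_pow_val (a := 2) (by rw [← map_pow, hx, map_one]) h1)
  have yz := y1 hz (by rw [hsz, hzz])
  have yw := y1 hw (by rw [hsw, hww2])
  have hpz := fun i j => pj_mul (T := ρ z) hT hm hψ i j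
  have hpw := fun i j => pj_mul (T := ρ w) hS hm hψ i j
  have hsum : ∀ X : Module.End K V, pj ψ X 0 + pj ψ X 1 + pj ψ X 2 = 1 := by
    intro X
    rw [← sum_pj (T := X) hm hψ]
    exact (Fin.sum_univ_three _).symm
  have h := nine_alg (Z0 := pj ψ (ρ z) 0) (Z1 := pj ψ (ρ z) 1) (Z2 := pj ψ (ρ z) 2) (W0 := pj ψ (ρ w) 0)
    (W1 := pj ψ (ρ w) 1) (W2 := pj ψ (ρ w) 2) (Y := ρ s)
    (by rw [hpz, if_pos rfl]) (by rw [hpz, if_neg (by decide)]) (by rw [hpz, if_neg (by decide)])
    (by rw [hpz, if_neg (by decide)]) (by rw [hpz, if_pos rfl]) (by rw [hpz, if_neg (by decide)])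
    (by rw [hpw, if_pos rfl]) (by rw [hpw, if_neg (by decide)]) (by rw [hpw, if_neg (by decide)])
    (by rw [hpw, if_pos rfl]) (by rw [hpw, if_neg (by decide)]) (hsum _) (hsum _) (pj_comm hTS _ _) (pj_comm hTS _ _)
    (pj_comm hTS _ _) (pj_comm hTS _ _) (pj_comm hTS _ _) (by rw [← map_mul, hs, map_one])
    (by rw [yz, mul_zero]) (by rw [yz, mul_one]) (by rw [yw, mul_zero]) (by rw [yw, mul_one])
  rw [pj_three, pj_three] at h
  omega

end Cfsg.Agent.H952.F4.EigFr

namespace Cfsg.Agent.H952.F4.Eig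

open Module

variable {K V G : Type*} [Field K] [AddCommGroup V] [Module K V] [FiniteDimensional K V] [Group G]

/-- Frobenius groups: `z` of prime order `m`, `y z y⁻¹ = z ^ a`, `a` of order `k` modulo `m`, `y ^ k = 1`. -/
theorem frob [IsAlgClosed K] (ρ : Representation K G V) {m : ℕ} (hm : m.Prime) (hmK : (m : K) ≠ 0) {z y : G}
    {a k : ℕ} (hz : z ^ m = 1) (hyz : y * z * y⁻¹ = z ^ a) (hk : orderOf (a : ZMod m) = k) (hk0 : 0 < k)
    (hy : y ^ k = 1) {μ : K} (hμ : μ ^ k = 1) :
    k * ev (ρ y) μ + ev (ρ z) 1 =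
      k * finrank K ↥(es (ρ z) 1 ⊓ es (ρ y) μ) + finrank K V :=
  EigFr.frob ρ hm hmK hz hyz hk hk0 hy hμ

/-- elementary abelian groups of order 9 with an inverting element, characteristic not 3 -/
theorem nine [IsAlgClosed K] (h3 : (3 : K) ≠ 0) (ρ : Representation K G V) {z w s : G} (hz : z ^ 3 = 1)
    (hw : w ^ 3 = 1) (hzw : z * w = w * z) (hs : s * s = 1) (hsz : s * z * s⁻¹ = z⁻¹) (hsw : s * w * s⁻¹ = w⁻¹) :
    4 * finrank K V ≤ 6 * ev (ρ s) 1 + (ev (ρ z) 1 + ev (ρ w) 1 + ev (ρ (z * w)) 1 + ev (ρ (z * w⁻¹)) 1) :=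
  EigFr.nine h3 ρ hz hw hzw hs hsz hsw

end Cfsg.Agent.H952.F4.Eig
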