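import Cfsg.Agent.H546.F4.Eig
import Cfsg.Agent.H952.F4.EigFrob

/-! Umbrella: all statements of the namespace `Cfsg.Agent.H952.F4.Eig`. -/
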