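import Mathlib
import Cfsg.Agent.H952.F4.Defs2

/-!
# S5926, task F-B1: trace identities for `A₇` (helper328)

`exists_tr`, `exists_tr_seven`; `rel_sgn_zero_aux`, `rel_73_aux`: the relations from the vanishing of the intersections of eigenspaces.
-/

set_option autoImplicit false
set_option linter.unusedSectionVars false

namespace Cfsg.Agent.H952.F4.Kill

open Cfsg Cfsg.Lie Module Finset

section Gen

variable {K V G : Type*} [Field K] [AddCommGroup V] [Module K V] [Group G]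

/-- the geometric sum of an operator with `T ^ k = 1` maps to the eigenspace. -/
theorem geom_mem (T : V →ₗ[K] V) {k : ℕ} (hT : T ^ k = 1) {μ : K} (hμ : μ ^ k = 1) (hk : 0 < k) (v : V) :
    (∑ j ∈ range k, (μ⁻¹) ^ j • (T ^ j) v) ∈ es T μ := by
  have hμ0 : μ ≠ 0 := by
    rintro rfl
    rw [zero_pow hk.ne'] at hμ
    exact zero_ne_one hμ
  have h1 : T (∑ j ∈ range k, (μ⁻¹) ^ j • (T ^ j) v) =
      μ • ∑ j ∈ range k, (μ⁻¹) ^ (j + 1) • (T ^ (j + 1)) v := by
    rw [map_sum, smul_sum]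
    refine sum_congr rfl fun j _ => ?_
    rw [map_smul, pow_succ' T, smul_smul, pow_succ, mul_comm _ (μ⁻¹), ← mul_assoc, mul_inv_cancel₀ hμ0, one_mul]
    rfl
  have h2 : ∑ j ∈ range k, (μ⁻¹) ^ (j + 1) • (T ^ (j + 1)) v = ∑ j ∈ range k, (μ⁻¹) ^ j • (T ^ j) v := by
    have h3 := sum_range_succ (fun j => (μ⁻¹) ^ j • (T ^ j) v) k
    have h4 := sum_range_succ' (fun j => (μ⁻¹) ^ j • (T ^ j) v) k
    rw [h3] at h4
    have h5 : (μ⁻¹) ^ k • (T ^ k) v = (μ⁻¹) ^ 0 • (T ^ 0) v := by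
      rw [hT, inv_pow, hμ, pow_zero, pow_zero, inv_one]
    rw [h5] at h4
    exact (add_right_cancel h4).symm
  rw [es, Module.End.mem_eigenspace_iff, h1, h2]

/-- if a linear character of the metacyclic group `⟨z, c⟩` does not occur in `V`, then the corresponding idempotent
is zero. -/
theorem sum_trace_zero (ρ : Representation K G V) {z c : G} {m k b : ℕ} (hz : z ^ m = 1) (hc : c ^ k = 1)
    (hm : 0 < m) (hk : 0 < k) (hzc : z * c = c * z ^ b) {μ : K} (hμ : μ ^ k = 1) (h0 : es (ρ z) 1 ⊓ es (ρ c) μ = ⊥)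
    (g : G) : ∑ j ∈ range k, ∑ i ∈ range m, (μ⁻¹) ^ j * LinearMap.trace K V (ρ (c ^ j * z ^ i * g)) = 0 := by
  have hmem : ∀ w : V, w ∈ es (ρ z) 1 → ∀ j : ℕ, ρ (c ^ j) w ∈ es (ρ z) 1 := by
    intro w hw j
    have hstep : ∀ w : V, w ∈ es (ρ z) 1 → ρ c w ∈ es (ρ z) 1 := by
      intro w hw
      rw [es, Module.End.mem_eigenspace_iff, one_smul] at hw ⊢
      have hb : ρ (z ^ b) w = w := by
        rw [map_pow]
        clear hzc
        induction b with
        | zero => simp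
        | succ b ih => rw [pow_succ, Module.End.mul_apply, hw, ih]
      rw [← Module.End.mul_apply, ← map_mul, hzc, map_mul, Module.End.mul_apply, hb]
    induction j with
    | zero => simpa using hw
    | succ j ih =>
      rw [pow_succ', map_mul, Module.End.mul_apply]
      exact hstep _ ih
  have hop : ∑ j ∈ range k, ∑ i ∈ range m, (μ⁻¹) ^ j • (ρ (c ^ j * z ^ i * g) : V →ₗ[K] V) = 0 := by
    refine LinearMap.ext fun v => ?_
    have hT : (ρ z) ^ m = 1 := by rw [← map_pow, hz, map_one]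
    have hC : (ρ c) ^ k = 1 := by rw [← map_pow, hc, map_one]
    have hw := geom_mem (K := K) (ρ z) hT (one_pow m) hm (ρ g v)
    have hu := geom_mem (K := K) (ρ c) hC hμ hk (∑ i ∈ range m, ((1 : K)⁻¹) ^ i • ((ρ z) ^ i) (ρ g v))
    have hu' : (∑ j ∈ range k, (μ⁻¹) ^ j • ((ρ c) ^ j) (∑ i ∈ range m, ((1 : K)⁻¹) ^ i • ((ρ z) ^ i) (ρ g v))) ∈
        es (ρ z) 1 := by
      refine Submodule.sum_mem _ fun j _ => Submodule.smul_mem _ _ ?_
      rw [← map_pow]
      exact hmem _ hw j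
    have h3 := Submodule.mem_inf.2 ⟨hu', hu⟩
    rw [h0, Submodule.mem_bot] at h3
    rw [LinearMap.zero_apply, LinearMap.sum_apply]
    refine Eq.trans (sum_congr rfl fun j _ => ?_) h3
    rw [LinearMap.sum_apply, map_sum, smul_sum]
    refine sum_congr rfl fun i _ => ?_
    rw [LinearMap.smul_apply, inv_one, one_pow, one_smul, map_mul, map_mul, map_pow, map_pow]
    rfl
  have h := congrArg (LinearMap.trace K V) hop
  rw [map_zero, map_sum] at h
  rw [← h]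
  refine sum_congr rfl fun j _ => ?_
  rw [map_sum]
  refine sum_congr rfl fun i _ => ?_
  rw [map_smul, smul_eq_mul]

end Gen

/-- the 5-cycle `(0 1 2 3 4)` -/
def zz : ↥(alternatingGroup (Fin 7)) :=
  ⟨⟨![1, 2, 3, 4, 0, 5, 6], ![4, 0, 1, 2, 3, 5, 6], by decide, by decide⟩, by
    rw [Equiv.Perm.mem_alternatingGroup]; decide⟩

/-- the element `(1 2 4 3)(5 6)` -/
def cc : ↥(alternatingGroup (Fin 7)) :=
  ⟨⟨![0, 2, 4, 1, 3, 6, 5], ![0, 3, 1, 4, 2, 6, 5], by decide, by decide⟩, by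
    rw [Equiv.Perm.mem_alternatingGroup]; decide⟩

/-- the element `(3 5)(4 6)` -/
def g1 : ↥(alternatingGroup (Fin 7)) :=
  ⟨⟨![0, 1, 2, 5, 6, 3, 4], ![0, 1, 2, 5, 6, 3, 4], by decide, by decide⟩, by
    rw [Equiv.Perm.mem_alternatingGroup]; decide⟩

/-- the element `(2 3 5 4 6)` -/
def g2 : ↥(alternatingGroup (Fin 7)) :=
  ⟨⟨![0, 1, 3, 5, 6, 4, 2], ![0, 1, 6, 2, 5, 3, 4], by decide, by decide⟩, by
    rw [Equiv.Perm.mem_alternatingGroup]; decide⟩

/-- the element `(0 1 2)` -/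
def r3 : ↥(alternatingGroup (Fin 7)) :=
  ⟨⟨![1, 2, 0, 3, 4, 5, 6], ![2, 0, 1, 3, 4, 5, 6], by decide, by decide⟩, by
    rw [Equiv.Perm.mem_alternatingGroup]; decide⟩

/-- the element `(0 1 2)(3 4)(5 6)` -/
def r6 : ↥(alternatingGroup (Fin 7)) :=
  ⟨⟨![1, 2, 0, 4, 3, 6, 5], ![2, 0, 1, 4, 3, 6, 5], by decide, by decide⟩, by
    rw [Equiv.Perm.mem_alternatingGroup]; decide⟩

/-- an odd element commuting with `y7` -/
def kap : Equiv.Perm (Fin 7) :=
  ⟨![0, 3, 6, 2, 5, 1, 4], ![0, 5, 3, 1, 6, 4, 2], by decide, by decide⟩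

/-- an odd element inverting `z7` -/
def kap7 : Equiv.Perm (Fin 7) :=
  ⟨![0, 6, 5, 4, 3, 2, 1], ![0, 6, 5, 4, 3, 2, 1], by decide, by decide⟩

/-- the 7-cycle -/
def z7 : ↥(alternatingGroup (Fin 7)) :=
  ⟨⟨![1, 2, 3, 4, 5, 6, 0], ![6, 0, 1, 2, 3, 4, 5], by decide, by decide⟩, by
    rw [Equiv.Perm.mem_alternatingGroup]; decide⟩

/-- the element of order 3 normalizing `z7` -/
def y7 : ↥(alternatingGroup (Fin 7)) :=
  ⟨⟨![0, 2, 4, 6, 1, 3, 5], ![0, 4, 1, 5, 2, 6, 3], by decide, by decide⟩, by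
    rw [Equiv.Perm.mem_alternatingGroup]; decide⟩

theorem zz_pow : zz ^ 5 = 1 := by decide +kernel
theorem cc_pow : cc ^ 4 = 1 := by decide +kernel
theorem zz_cc : zz * cc = cc * zz ^ 3 := by decide +kernel
theorem cc_zz : cc * zz * cc⁻¹ = zz ^ 2 := by decide +kernel
theorem z7_pow : z7 ^ 7 = 1 := by decide +kernel
theorem y7_pow : y7 ^ 3 = 1 := by decide +kernel
theorem z7_y7 : z7 * y7 = y7 * z7 ^ 4 := by decide +kernel
theorem y7_z7 : y7 * z7 * y7⁻¹ = z7 ^ 2 := by decide +kernel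
theorem zz_type : (zz : Equiv.Perm (Fin 7)).cycleType = {5} := by decide +kernel
theorem cc_type : (cc : Equiv.Perm (Fin 7)).cycleType = {4, 2} := by decide +kernel
theorem z7_type : (z7 : Equiv.Perm (Fin 7)).cycleType = {7} := by decide +kernel
theorem y7_type : (y7 : Equiv.Perm (Fin 7)).cycleType = {3, 3} := by decide +kernel

theorem ord5 : orderOf (((2 : ℕ)) : ZMod 5) = 4 := by
  rw [orderOf_eq_iff (by norm_num)]
  decide

theorem ord7 : orderOf (((2 : ℕ)) : ZMod 7) = 3 := by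
  rw [orderOf_eq_iff (by norm_num)]
  decide

variable {K V : Type*} [Field K] [AddCommGroup V] [Module K V] (ρ : Representation K ↥(alternatingGroup (Fin 7)) V)

/-- elements of `A₇` with the same cycle type have the same trace -/
theorem trace_eq_of_type (r : ↥(alternatingGroup (Fin 7))) (κ : Equiv.Perm (Fin 7))
    (hκ : Equiv.Perm.sign κ = -1)
    (h : κ * (r : Equiv.Perm (Fin 7)) * κ⁻¹ = r ∨
      (κ * (r : Equiv.Perm (Fin 7)) * κ⁻¹ = ((r⁻¹ : ↥(alternatingGroup (Fin 7))) : Equiv.Perm (Fin 7)) ∧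
        LinearMap.trace K V (ρ r⁻¹) = LinearMap.trace K V (ρ r)))
    (g : ↥(alternatingGroup (Fin 7)))
    (hg : (g : Equiv.Perm (Fin 7)).cycleType = (r : Equiv.Perm (Fin 7)).cycleType) :
    LinearMap.trace K V (ρ g) = LinearMap.trace K V (ρ r) := by
  have hconj : ∀ (a b : ↥(alternatingGroup (Fin 7))), LinearMap.trace K V (ρ (a * b * a⁻¹)) =
      LinearMap.trace K V (ρ b) := by
    intro a b
    rw [map_mul, LinearMap.trace_mul_comm, ← map_mul, ← mul_assoc, inv_mul_cancel, one_mul]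
  obtain ⟨τ, hτ⟩ := isConj_iff.1 (Equiv.Perm.isConj_iff_cycleType_eq.2 hg.symm)
  by_cases hs : Equiv.Perm.sign τ = 1
  · have : g = ⟨τ, Equiv.Perm.mem_alternatingGroup.2 hs⟩ * r * (⟨τ, Equiv.Perm.mem_alternatingGroup.2 hs⟩)⁻¹ :=
      Subtype.ext hτ.symm
    rw [this, hconj]
  · have hs' : Equiv.Perm.sign (τ * κ⁻¹) = 1 := by
      rw [map_mul, map_inv, hκ, (Int.units_eq_one_or _).resolve_left hs]
      decide
    have hm := Equiv.Perm.mem_alternatingGroup.2 hs'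
    have key : (g : Equiv.Perm (Fin 7)) = (τ * κ⁻¹) * (κ * r * κ⁻¹) * (τ * κ⁻¹)⁻¹ := by
      rw [← hτ]
      group
    rcases h with h | ⟨h, hinv⟩
    · have : g = ⟨τ * κ⁻¹, hm⟩ * r * (⟨τ * κ⁻¹, hm⟩)⁻¹ := Subtype.ext (by rw [key, h]; rfl)
      rw [this, hconj]
    · have : g = ⟨τ * κ⁻¹, hm⟩ * r⁻¹ * (⟨τ * κ⁻¹, hm⟩)⁻¹ := Subtype.ext (by rw [key, h]; rfl)
      rw [this, hconj, hinv]

/-- the traces exist as soon as `tr g⁻¹ = tr g` for the 7-cycles -/
theorem exists_tr_seven (h : ∀ g : ↥(alternatingGroup (Fin 7)), (g : Equiv.Perm (Fin 7)).cycleType = {7} →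
      LinearMap.trace K V (ρ g⁻¹) = LinearMap.trace K V (ρ g)) :
    ∃ t1 t2 t3 t33 t4 t6 t5 t7 : K, Tr ρ t1 t2 t3 t33 t4 t6 t5 t7 := by
  refine ⟨LinearMap.trace K V (ρ 1), LinearMap.trace K V (ρ g1), LinearMap.trace K V (ρ r3),
    LinearMap.trace K V (ρ y7), LinearMap.trace K V (ρ cc), LinearMap.trace K V (ρ r6),
    LinearMap.trace K V (ρ zz), LinearMap.trace K V (ρ z7), rfl, ?_, ?_, ?_, ?_, ?_, ?_, ?_⟩
  · exact fun g hg => trace_eq_of_type ρ g1 (Equiv.swap 0 1) (by decide +kernel) (Or.inl (by decide +kernel)) g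
      (by rw [hg]; decide +kernel)
  · exact fun g hg => trace_eq_of_type ρ r3 (Equiv.swap 3 4) (by decide +kernel) (Or.inl (by decide +kernel)) g
      (by rw [hg]; decide +kernel)
  · exact fun g hg => trace_eq_of_type ρ y7 kap (by decide +kernel) (Or.inl (by decide +kernel)) g
      (by rw [hg]; decide +kernel)
  · exact fun g hg => trace_eq_of_type ρ cc (Equiv.swap 5 6) (by decide +kernel) (Or.inl (by decide +kernel)) g
      (by rw [hg]; decide +kernel)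
  · exact fun g hg => trace_eq_of_type ρ r6 (Equiv.swap 3 4) (by decide +kernel) (Or.inl (by decide +kernel)) g
      (by rw [hg]; decide +kernel)
  · exact fun g hg => trace_eq_of_type ρ zz (Equiv.swap 5 6) (by decide +kernel) (Or.inl (by decide +kernel)) g
      (by rw [hg]; decide +kernel)
  · exact fun g hg => trace_eq_of_type ρ z7 kap7 (by decide +kernel) (Or.inr ⟨by decide +kernel, h _ z7_type⟩) g
      (by rw [hg]; decide +kernel)

/-- the traces exist as soon as `tr g⁻¹ = tr g` -/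
theorem exists_tr [IsAlgClosed K] [FiniteDimensional K V]
    (h : ∀ g, LinearMap.trace K V (ρ g⁻¹) = LinearMap.trace K V (ρ g)) :
    ∃ t1 t2 t3 t33 t4 t6 t5 t7 : K, Tr ρ t1 t2 t3 t33 t4 t6 t5 t7 :=
  exists_tr_seven ρ fun g _ => h g

/-- the sign character of `5:4` does not occur -/
theorem rel_sgn_zero_aux {t1 t2 t3 t33 t4 t6 t5 t7 : K} (ht : Tr ρ t1 t2 t3 t33 t4 t6 t5 t7)
    (h0 : es (ρ zz) 1 ⊓ es (ρ cc) (-1) = ⊥) : t2 + 2 * t6 - 3 * t4 = 0 ∧ t6 - t33 - t4 + t5 = 0 := by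
  have hμ : (-1 : K) ^ 4 = 1 := by norm_num
  have e1 := sum_trace_zero ρ zz_pow cc_pow (by norm_num) (by norm_num) zz_cc hμ h0 g1
  have e2 := sum_trace_zero ρ zz_pow cc_pow (by norm_num) (by norm_num) zz_cc hμ h0 g2
  simp only [sum_range_succ, sum_range_zero, zero_add] at e1 e2
  rw [ht.two (cc ^ 0 * zz ^ 0 * g1) (by decide +kernel),
      ht.seven (cc ^ 0 * zz ^ 1 * g1) (by decide +kernel),
      ht.seven (cc ^ 0 * zz ^ 2 * g1) (by decide +kernel),
      ht.seven (cc ^ 0 * zz ^ 3 * g1) (by decide +kernel),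
      ht.seven (cc ^ 0 * zz ^ 4 * g1) (by decide +kernel),
      ht.four (cc ^ 1 * zz ^ 0 * g1) (by decide +kernel),
      ht.seven (cc ^ 1 * zz ^ 1 * g1) (by decide +kernel),
      ht.threeb (cc ^ 1 * zz ^ 2 * g1) (by decide +kernel),
      ht.seven (cc ^ 1 * zz ^ 3 * g1) (by decide +kernel),
      ht.four (cc ^ 1 * zz ^ 4 * g1) (by decide +kernel),
      ht.threeb (cc ^ 2 * zz ^ 0 * g1) (by decide +kernel),
      ht.threeb (cc ^ 2 * zz ^ 1 * g1) (by decide +kernel),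
      ht.six (cc ^ 2 * zz ^ 2 * g1) (by decide +kernel),
      ht.four (cc ^ 2 * zz ^ 3 * g1) (by decide +kernel),
      ht.six (cc ^ 2 * zz ^ 4 * g1) (by decide +kernel),
      ht.four (cc ^ 3 * zz ^ 0 * g1) (by decide +kernel),
      ht.threeb (cc ^ 3 * zz ^ 1 * g1) (by decide +kernel),
      ht.four (cc ^ 3 * zz ^ 2 * g1) (by decide +kernel),
      ht.seven (cc ^ 3 * zz ^ 3 * g1) (by decide +kernel),
      ht.seven (cc ^ 3 * zz ^ 4 * g1) (by decide +kernel)] at e1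
  rw [ht.five (cc ^ 0 * zz ^ 0 * g2) (by decide +kernel),
      ht.seven (cc ^ 0 * zz ^ 1 * g2) (by decide +kernel),
      ht.six (cc ^ 0 * zz ^ 2 * g2) (by decide +kernel),
      ht.seven (cc ^ 0 * zz ^ 3 * g2) (by decide +kernel),
      ht.four (cc ^ 0 * zz ^ 4 * g2) (by decide +kernel),
      ht.four (cc ^ 1 * zz ^ 0 * g2) (by decide +kernel),
      ht.seven (cc ^ 1 * zz ^ 1 * g2) (by decide +kernel),
      ht.four (cc ^ 1 * zz ^ 2 * g2) (by decide +kernel),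
      ht.four (cc ^ 1 * zz ^ 3 * g2) (by decide +kernel),
      ht.seven (cc ^ 1 * zz ^ 4 * g2) (by decide +kernel),
      ht.five (cc ^ 2 * zz ^ 0 * g2) (by decide +kernel),
      ht.seven (cc ^ 2 * zz ^ 1 * g2) (by decide +kernel),
      ht.seven (cc ^ 2 * zz ^ 2 * g2) (by decide +kernel),
      ht.four (cc ^ 2 * zz ^ 3 * g2) (by decide +kernel),
      ht.six (cc ^ 2 * zz ^ 4 * g2) (by decide +kernel),
      ht.threeb (cc ^ 3 * zz ^ 0 * g2) (by decide +kernel),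
      ht.five (cc ^ 3 * zz ^ 1 * g2) (by decide +kernel),
      ht.seven (cc ^ 3 * zz ^ 2 * g2) (by decide +kernel),
      ht.seven (cc ^ 3 * zz ^ 3 * g2) (by decide +kernel),
      ht.six (cc ^ 3 * zz ^ 4 * g2) (by decide +kernel)] at e2
  constructor
  · linear_combination e1
  · linear_combination e2

/-- a group `7:3` without fixed points -/
theorem rel_73_aux {t1 t2 t3 t33 t4 t6 t5 t7 : K} (ht : Tr ρ t1 t2 t3 t33 t4 t6 t5 t7) (h3 : (3 : K) ≠ 0)
    (h0 : es (ρ z7) 1 ⊓ es (ρ y7) 1 = ⊥) : t2 + 2 * t5 + 4 * t7 = 0 := by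
  have e1 := sum_trace_zero ρ z7_pow y7_pow (by norm_num) (by norm_num) z7_y7 (one_pow 3) h0 g1
  simp only [sum_range_succ, sum_range_zero, zero_add] at e1
  rw [ht.two (y7 ^ 0 * z7 ^ 0 * g1) (by decide +kernel),
      ht.seven (y7 ^ 0 * z7 ^ 1 * g1) (by decide +kernel),
      ht.five (y7 ^ 0 * z7 ^ 2 * g1) (by decide +kernel),
      ht.seven (y7 ^ 0 * z7 ^ 3 * g1) (by decide +kernel),
      ht.seven (y7 ^ 0 * z7 ^ 4 * g1) (by decide +kernel),
      ht.five (y7 ^ 0 * z7 ^ 5 * g1) (by decide +kernel),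
      ht.seven (y7 ^ 0 * z7 ^ 6 * g1) (by decide +kernel),
      ht.five (y7 ^ 1 * z7 ^ 0 * g1) (by decide +kernel),
      ht.seven (y7 ^ 1 * z7 ^ 1 * g1) (by decide +kernel),
      ht.seven (y7 ^ 1 * z7 ^ 2 * g1) (by decide +kernel),
      ht.two (y7 ^ 1 * z7 ^ 3 * g1) (by decide +kernel),
      ht.seven (y7 ^ 1 * z7 ^ 4 * g1) (by decide +kernel),
      ht.seven (y7 ^ 1 * z7 ^ 5 * g1) (by decide +kernel),
      ht.five (y7 ^ 1 * z7 ^ 6 * g1) (by decide +kernel),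
      ht.five (y7 ^ 2 * z7 ^ 0 * g1) (by decide +kernel),
      ht.two (y7 ^ 2 * z7 ^ 1 * g1) (by decide +kernel),
      ht.five (y7 ^ 2 * z7 ^ 2 * g1) (by decide +kernel),
      ht.seven (y7 ^ 2 * z7 ^ 3 * g1) (by decide +kernel),
      ht.seven (y7 ^ 2 * z7 ^ 4 * g1) (by decide +kernel),
      ht.seven (y7 ^ 2 * z7 ^ 5 * g1) (by decide +kernel),
      ht.seven (y7 ^ 2 * z7 ^ 6 * g1) (by decide +kernel)] at e1
  have h4 : (3 : K) * (t2 + 2 * t5 + 4 * t7) = 0 := by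
    linear_combination e1
  exact (mul_eq_zero.1 h4).resolve_left h3

end Cfsg.Agent.H952.F4.Kill
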