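import Mathlib
import Cfsg.Agent.H952.F4.EigFrob
import Cfsg.Agent.H952.F4.KillBase

/-!
# S5926, task F-B1: trace identities for `A₇`, final form (helper328)

`rel_sgn_zero`, `rel_73` (`exists_tr` is in `KillBase`).
-/

set_option autoImplicit false
set_option linter.unusedSectionVars false

namespace Cfsg.Agent.H952.F4.Kill

open Cfsg Cfsg.Lie Module Finset

variable {K V : Type*} [Field K] [IsAlgClosed K] [AddCommGroup V] [Module K V] [FiniteDimensional K V]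
  (ρ : Representation K ↥(alternatingGroup (Fin 7)) V)

/-- B1: the sign character of `5:4` does not occur -/
theorem rel_sgn_zero {t1 t2 t3 t33 t4 t6 t5 t7 : K} (ht : Tr ρ t1 t2 t3 t33 t4 t6 t5 t7) (h2 : (2 : K) ≠ 0)
    (h5 : (5 : K) ≠ 0)
    (hz : ∀ g : ↥(alternatingGroup (Fin 7)), (g : Equiv.Perm (Fin 7)).cycleType = {5} → ev (ρ g) 1 = 12)
    (hc : ∀ g : ↥(alternatingGroup (Fin 7)), (g : Equiv.Perm (Fin 7)).cycleType = {4, 2} → ev (ρ g) (-1) = 10)
    (hd : finrank K V = 52) : t2 + 2 * t6 - 3 * t4 = 0 ∧ t6 - t33 - t4 + t5 = 0 := by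
  have _ := h2
  have hμ : (-1 : K) ^ 4 = 1 := by norm_num
  have hf := Eig.frob ρ (m := 5) (by norm_num) (by exact_mod_cast h5) zz_pow cc_zz (k := 4) ord5
    (by norm_num) cc_pow hμ
  rw [hz zz zz_type, hc cc cc_type, hd] at hf
  exact rel_sgn_zero_aux ρ ht (Submodule.finrank_eq_zero.1 (by omega))

/-- B3: a group `7:3` without fixed points -/
theorem rel_73 {t1 t2 t3 t33 t4 t6 t5 t7 : K} (ht : Tr ρ t1 t2 t3 t33 t4 t6 t5 t7) (h3 : (3 : K) ≠ 0)
    (h7 : (7 : K) ≠ 0)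
    (hz : ∀ g : ↥(alternatingGroup (Fin 7)), (g : Equiv.Perm (Fin 7)).cycleType = {7} → ev (ρ g) 1 = 2)
    (hc : ∀ g : ↥(alternatingGroup (Fin 7)), (g : Equiv.Perm (Fin 7)).cycleType = {3, 3} → ev (ρ g) 1 = 8)
    (hd : finrank K V = 26) : t2 + 2 * t5 + 4 * t7 = 0 := by
  have hf := Eig.frob ρ (m := 7) (by norm_num) (by exact_mod_cast h7) z7_pow y7_z7 (k := 3) ord7
    (by norm_num) y7_pow (one_pow 3)
  rw [hz z7 z7_type, hc y7 y7_type, hd] at hf
  exact rel_73_aux ρ ht h3 (Submodule.finrank_eq_zero.1 (by omega))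

end Cfsg.Agent.H952.F4.Kill
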