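import Cfsg.Agent.H4.F4KillB

/-! Umbrella: `Cfsg.Agent.H952.F4.Kill.rel_one`. -/
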