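import Cfsg.Agent.H952.F4.Defs2

/-!
# S5926, F-A5: generating pairs of small alternating groups with given cycle types (helper870)

`x, y` were found by computer; the words `W k` in `x, x⁻¹, y, y⁻¹` give the 3-cycles `(0 1)(0 k)`.
-/

set_option autoImplicit false

namespace Cfsg.Agent.H952.F4.Gen

open Equiv Equiv.Perm

/-- The 3-cycles `(0 1)(0 k)` generate the alternating group. -/
theorem mem_of_star {n : ℕ} (H : Subgroup (Perm (Fin (n + 2)))) (hH : H ≤ alternatingGroup (Fin (n + 2)))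
    (h : ∀ k : Fin (n + 2), k ≠ 0 → swap 0 1 * swap 0 k ∈ H) {σ : Perm (Fin (n + 2))}
    (hσ : σ ∈ alternatingGroup (Fin (n + 2))) : σ ∈ H := by
  have h' : ∀ k : Fin (n + 2), k ≠ 0 → swap 0 k * swap 0 1 ∈ H := by
    intro k hk
    have := H.inv_mem (h k hk)
    rwa [mul_inv_rev, swap_inv, swap_inv] at this
  -- the property is preserved by the star transpositions
  have star : ∀ k : Fin (n + 2), k ≠ 0 → ∀ τ : Perm (Fin (n + 2)), (τ ∈ H ∨ swap 0 1 * τ ∈ H) →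
      (swap 0 k * τ ∈ H ∨ swap 0 1 * (swap 0 k * τ) ∈ H) := by
    rintro k hk τ (hτ | hτ)
    · right
      rw [← mul_assoc]
      exact H.mul_mem (h k hk) hτ
    · left
      have h1 := H.mul_mem (h' k hk) hτ
      rwa [mul_assoc, ← mul_assoc (swap 0 1) (swap 0 1), swap_mul_self, one_mul] at h1
  have gen : ∀ τ : Perm (Fin (n + 2)), τ ∈ H ∨ swap 0 1 * τ ∈ H := by
    intro τ
    induction τ using Equiv.Perm.swap_induction_on with
    | one => exact Or.inl H.one_mem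
    | swap_mul f x y hxy ih =>
      by_cases hx : x = 0
      · subst hx
        exact star y hxy.symm f ih
      · by_cases hy : y = 0
        · subst hy
          rw [swap_comm]
          exact star x hx f ih
        · have e : (swap x y : Perm (Fin (n + 2))) = swap 0 x * swap 0 y * swap 0 x := by
            have h1 := swap_mul_swap_mul_swap (x := y) (y := (0 : Fin (n + 2))) (z := x) (by exact hy)
              (by exact fun h => hxy h.symm)
            rw [swap_comm y 0] at h1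
            exact h1.symm
          rw [e, mul_assoc, mul_assoc]
          exact star x hx _ (star y hy _ (star x hx f ih))
  rcases gen σ with h1 | h1
  · exact h1
  · exfalso
    have h2 := hH h1
    rw [mem_alternatingGroup] at h2 hσ
    rw [Equiv.Perm.sign_mul, hσ, mul_one, sign_swap (by simp)] at h2
    exact absurd h2 (by decide)

/-- evaluation of words -/
def ev {n : ℕ} (x y : Perm (Fin n)) (l : List (Fin 4)) : Perm (Fin n) :=
  (l.map fun i => (![x, x⁻¹, y, y⁻¹] : Fin 4 → Perm (Fin n)) i).prod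

theorem ev_mem {n : ℕ} {x y : Perm (Fin n)} {H : Subgroup (Perm (Fin n))} (hx : x ∈ H) (hy : y ∈ H)
    (l : List (Fin 4)) : ev x y l ∈ H := by
  refine H.list_prod_mem ?_
  intro z hz
  obtain ⟨i, -, rfl⟩ := List.mem_map.1 hz
  fin_cases i
  · exact hx
  · exact H.inv_mem hx
  · exact hy
  · exact H.inv_mem hy

theorem genT_of {n : ℕ} {a b c : Multiset ℕ} (x y : Perm (Fin (n + 2))) (hx : sign x = 1) (hy : sign y = 1)
    (W : Fin (n + 2) → List (Fin 4)) (hW : ∀ k, k ≠ 0 → ev x y (W k) = swap 0 1 * swap 0 k)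
    (ha : x.cycleType = a) (hb : y.cycleType = b) (hc : (x * y).cycleType = c) : GenT (n + 2) a b c := by
  refine ⟨⟨x, mem_alternatingGroup.2 hx⟩, ⟨y, mem_alternatingGroup.2 hy⟩, ?_, ha, hb, hc⟩
  rw [eq_top_iff]
  intro σ _
  have h1 : (σ : Perm (Fin (n + 2))) ∈ Subgroup.closure {x, y} := by
    refine mem_of_star _ ?_ ?_ σ.2
    · rw [Subgroup.closure_le]
      rintro z (rfl | rfl)
      · exact mem_alternatingGroup.2 hx
      · exact mem_alternatingGroup.2 hy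
    · intro k hk
      rw [← hW k hk]
      exact ev_mem (Subgroup.subset_closure (by simp)) (Subgroup.subset_closure (by simp)) _
  have h2 : (Subgroup.closure {(⟨x, mem_alternatingGroup.2 hx⟩ : ↥(alternatingGroup (Fin (n + 2)))),
      ⟨y, mem_alternatingGroup.2 hy⟩}).map (alternatingGroup (Fin (n + 2))).subtype = Subgroup.closure {x, y} := by
    rw [MonoidHom.map_closure, Set.image_pair]
    rfl
  rw [← h2] at h1
  obtain ⟨τ, hτ, h3⟩ := h1
  rwa [← Subtype.ext h3]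

theorem gen5 : GenT 5 {2, 2} {3} {5} :=
  genT_of (n := 3) (c[0, 4] * c[1, 2]) (c[2, 3, 4]) (by decide +kernel) (by decide +kernel)
    ![[], [], [3, 0, 3, 0, 2], [0, 3, 0], [2, 0, 3, 0, 3]]
    (by decide +kernel) (by decide +kernel) (by decide +kernel) (by decide +kernel)

theorem gen6a : GenT 6 {2, 2} {5} {5} :=
  genT_of (n := 4) (c[0, 3] * c[4, 5]) (c[0, 3, 1, 2, 5]) (by decide +kernel) (by decide +kernel)
    ![[],
    [],
    [2, 0, 3, 0, 2, 2, 0],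
    [2, 2, 0, 2, 0, 3, 0, 2],
    [3, 0, 2, 2, 0, 2, 0],
    [2, 0, 3, 3, 0, 2, 0, 2]]
    (by decide +kernel) (by decide +kernel) (by decide +kernel) (by decide +kernel)

theorem gen6b : GenT 6 {3} {3, 3} {5} :=
  genT_of (n := 4) (c[3, 5, 4]) (c[0, 5, 3] * c[1, 4, 2]) (by decide +kernel) (by decide +kernel)
    ![[], [], [3, 1, 2, 0, 2, 1, 3, 1], [1, 3, 1, 2, 0], [0, 3, 1, 2, 1], [3, 1, 2]]
    (by decide +kernel) (by decide +kernel) (by decide +kernel) (by decide +kernel)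

theorem gen7 : GenT 7 {2, 2} {5} {7} :=
  genT_of (n := 5) (c[0, 3] * c[1, 5]) (c[2, 5, 6, 4, 3]) (by decide +kernel) (by decide +kernel)
    ![[],
    [],
    [3, 0, 2, 0, 2, 0, 2, 0, 3],
    [2, 2, 0, 3, 0, 3, 0, 3],
    [2, 0, 3, 0, 3, 0],
    [3, 0, 3, 0, 3, 0, 2, 2],
    [0, 3, 0, 3, 0, 2]]
    (by decide +kernel) (by decide +kernel) (by decide +kernel) (by decide +kernel)

theorem gen8 : GenT 8 {2, 2} {7} {7} :=
  genT_of (n := 6) (c[0, 6] * c[3, 4]) (c[0, 3, 4, 1, 2, 5, 7]) (by decide +kernel) (by decide +kernel)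
    ![[],
    [],
    [2, 2, 0, 3, 3, 0, 2, 0, 3, 0, 2, 0, 3, 0],
    [3, 0, 2, 0, 3, 0, 2, 2, 0, 3, 3, 0, 2, 0],
    [2, 2, 0, 3, 3, 0, 2, 2, 0, 3, 0, 3],
    [0, 2, 0, 2, 0, 2, 2, 0, 2, 2, 2, 0, 3],
    [3, 0, 2, 0, 2, 0, 3, 0, 3, 0, 2, 0],
    [0, 2, 0, 3, 0, 2, 0, 3, 3, 0, 2, 0]]
    (by decide +kernel) (by decide +kernel) (by decide +kernel) (by decide +kernel)

theorem gen9 : GenT 9 {2, 2, 2, 2} {7} {7} :=
  genT_of (n := 7) (c[0, 5] * c[1, 7] * c[2, 8] * c[4, 6]) (c[0, 3, 6, 4, 1, 2, 8]) (by decide +kernel) (by decide +kernel)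
    ![[],
    [],
    [2, 0, 2, 0, 3, 0, 3, 3, 0, 2],
    [2, 0, 2, 2, 0, 3, 0, 2, 0, 2, 0, 3, 3, 0, 2, 2, 2],
    [3, 3, 3, 0, 2, 2, 0, 3, 0, 2, 0, 2, 0, 3, 3, 0],
    [0, 2, 0, 2, 0, 2, 0, 3, 0, 3, 3, 0, 2, 0, 3, 0],
    [2, 0, 2, 2, 2, 0, 3, 0, 2, 0, 2, 0, 3, 3, 0, 2, 2, 0],
    [2, 2, 2, 0, 3, 0, 3, 3, 0, 2, 2, 0, 3, 3],
    [0, 3, 0, 2, 0, 2, 0, 3, 0, 3, 3, 0, 2, 0, 2, 0]]
    (by decide +kernel) (by decide +kernel) (by decide +kernel) (by decide +kernel)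

theorem gen10 : GenT 10 {2, 2, 2, 2} {7} {5, 5} :=
  genT_of (n := 8) (c[0, 5] * c[2, 7] * c[3, 8] * c[4, 9]) (c[1, 6, 5, 7, 9, 8, 2]) (by decide +kernel) (by decide +kernel)
    ![[],
    [],
    [0, 2, 2, 2, 0, 2, 2, 0, 2, 2, 2, 0, 3, 0, 2, 2, 0, 3, 0],
    [0, 3, 0, 2, 2, 2, 0, 3, 0, 2, 0, 3, 0, 2, 0, 3, 0, 2, 0, 3, 3, 0],
    [3, 3, 0, 3, 0, 2, 0, 3, 3, 3, 0, 3, 3, 0, 3, 3, 0, 3, 0, 2, 2],
    [3, 0, 2, 2, 0, 2, 2, 0, 2, 2, 2, 0, 3, 0, 2, 2, 2],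
    [2, 0, 2, 0, 3, 3, 0, 2, 0, 3, 3, 3, 0, 3, 3, 0, 3, 3, 3, 0, 3],
    [0, 2, 0, 3, 0, 3, 0, 2, 0, 2, 2, 0, 2, 2, 0, 3, 0, 3, 0, 2, 2],
    [2, 2, 0, 2, 0, 3, 3, 3, 0, 3, 3, 0, 3, 3, 0, 2, 2, 2],
    [3, 3, 0, 3, 0, 2, 0, 2, 2, 2, 0, 3, 0, 2, 2, 0, 2, 0, 3, 0, 2]]
    (by decide +kernel) (by decide +kernel) (by decide +kernel) (by decide +kernel)

end Cfsg.Agent.H952.F4.Gen
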