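import Mathlib
import Cfsg.Agent.H952.F4.Defs2

/-!
# S5926, task A1 (helper486): Scott's lemma for groups generated by two elements

* `scott` : `ev x 1 + ev y 1 + ev (x * y) 1 ≤ dim V + dim V^G + dim (V*)^G`;
* `scott_form` : the same with an invariant nondegenerate form.
-/

set_option autoImplicit false

namespace Cfsg.Agent.H952.F4.Scott

open Module

variable {K V G : Type*} [Field K] [AddCommGroup V] [Module K V] [FiniteDimensional K V] [Group G]

theorem rank_add_ev (T : Module.End K V) : finrank K (LinearMap.range (T - 1)) + ev T 1 = finrank K V := by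
  have h := LinearMap.finrank_range_add_finrank_ker (T - 1)
  rw [ev, Module.End.eigenspace_def, one_smul]
  exact h

theorem fix_all {G : Type*} [Group G] {x y : G} (hgen : Subgroup.closure {x, y} = ⊤) {P : G → Prop} (hx : P x)
    (hy : P y) (h1 : P 1) (hmul : ∀ a b, P a → P b → P (a * b)) (hinv : ∀ a, P a → P a⁻¹) (g : G) : P g := by
  have hg : g ∈ Subgroup.closure {x, y} := by rw [hgen]; exact Subgroup.mem_top g
  induction hg using Subgroup.closure_induction with
  | mem z hz =>
    rcases hz with rfl | rfl
    · exact hx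
    · exact hy
  | one => exact h1
  | mul a b _ _ ha hb => exact hmul a b ha hb
  | inv a _ ha => exact hinv a ha

theorem scott (ρ : Representation K G V) {x y : G} (hgen : Subgroup.closure {x, y} = ⊤) :
    ev (ρ x) 1 + ev (ρ y) 1 + ev (ρ (x * y)) 1 ≤
      finrank K V + finrank K ρ.invariants + finrank K ρ.dual.invariants := by
  have hxi : ∀ v, ρ x⁻¹ (ρ x v) = v := fun v => by
    rw [← Module.End.mul_apply, ← map_mul, inv_mul_cancel, map_one, Module.End.one_apply]
  have hxi' : ∀ v, ρ x (ρ x⁻¹ v) = v := fun v => by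
    rw [← Module.End.mul_apply, ← map_mul, mul_inv_cancel, map_one, Module.End.one_apply]
  have hmem : ∀ {g : G} {v : V}, v ∈ Module.End.eigenspace (ρ g) 1 ↔ ρ g v = v := fun {g v} => by
    rw [Module.End.mem_eigenspace_iff, one_smul]
  set A := LinearMap.range (ρ x - 1) with hA
  set B := LinearMap.range (ρ y - 1) with hB
  -- the map `y - 1` on the fixed space of `x * y`
  have hinv : ∀ v, ρ x v = v → ρ y v = v → v ∈ ρ.invariants := by
    intro v h1 h2
    rw [Representation.mem_invariants]
    intro g
    refine fix_all (P := fun g => ρ g v = v) hgen h1 h2 ?_ ?_ ?_ g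
    · rw [map_one, Module.End.one_apply]
    · intro a b ha hb
      rw [map_mul, Module.End.mul_apply, hb, ha]
    · intro a ha
      calc ρ a⁻¹ v = ρ a⁻¹ (ρ a v) := by rw [ha]
        _ = v := by rw [← Module.End.mul_apply, ← map_mul, inv_mul_cancel, map_one, Module.End.one_apply]
  have h3 : ev (ρ (x * y)) 1 ≤ finrank K ↥(A ⊓ B) + finrank K ρ.invariants := by
    let φ : ↥(Module.End.eigenspace (ρ (x * y)) 1) →ₗ[K] V := (ρ y - 1) ∘ₗ (Module.End.eigenspace (ρ (x * y)) 1).subtype
    have hr : LinearMap.range φ ≤ A ⊓ B := by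
      rintro _ ⟨⟨v, hv⟩, rfl⟩
      refine ⟨?_, ⟨v, rfl⟩⟩
      have hv' : ρ x (ρ y v) = v := by
        rw [hmem, map_mul, Module.End.mul_apply] at hv
        exact hv
      refine ⟨- ρ y v, ?_⟩
      change ρ x (- ρ y v) - (- ρ y v) = ρ y v - v
      rw [map_neg, hv']
      abel
    have hk : (LinearMap.ker φ).map (Module.End.eigenspace (ρ (x * y)) 1).subtype ≤ ρ.invariants := by
      rintro _ ⟨⟨v, hv⟩, hvk, rfl⟩
      have h2 : ρ y v = v := sub_eq_zero.1 (LinearMap.mem_ker.1 hvk)
      have hv' : ρ x (ρ y v) = v := by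
        rw [hmem, map_mul, Module.End.mul_apply] at hv
        exact hv
      rw [h2] at hv'
      exact hinv v hv' h2
    have h := LinearMap.finrank_range_add_finrank_ker φ
    have h4 := Submodule.finrank_mono hr
    have h5 := Submodule.finrank_mono hk
    rw [Submodule.finrank_map_subtype_eq] at h5
    rw [ev]
    omega
  -- the annihilator of the augmentation module
  have h6 : finrank K V ≤ finrank K ↥(A ⊔ B) + finrank K ρ.dual.invariants := by
    have hle : (A ⊔ B).dualAnnihilator ≤ ρ.dual.invariants := by
      intro f hf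
      rw [Representation.mem_invariants]
      rw [Submodule.mem_dualAnnihilator] at hf
      have hfx : ∀ v, f (ρ x v) = f v := fun v => by
        have := hf (ρ x v - v) (Submodule.mem_sup_left ⟨v, rfl⟩)
        rwa [map_sub, sub_eq_zero] at this
      have hfy : ∀ v, f (ρ y v) = f v := fun v => by
        have := hf (ρ y v - v) (Submodule.mem_sup_right ⟨v, rfl⟩)
        rwa [map_sub, sub_eq_zero] at this
      have hall : ∀ g v, f (ρ g v) = f v := by
        intro g
        refine fix_all (P := fun g => ∀ v, f (ρ g v) = f v) hgen hfx hfy ?_ ?_ ?_ g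
        · intro v
          rw [map_one, Module.End.one_apply]
        · intro a b ha hb v
          rw [map_mul, Module.End.mul_apply, ha, hb]
        · intro a ha v
          rw [← ha (ρ a⁻¹ v), ← Module.End.mul_apply, ← map_mul, mul_inv_cancel, map_one, Module.End.one_apply]
      intro g
      refine LinearMap.ext fun v => ?_
      change f (ρ g⁻¹ v) = f v
      exact hall _ _
    have h7 := Submodule.finrank_mono hle
    have h8 := Subspace.finrank_add_finrank_dualAnnihilator_eq (A ⊔ B)
    omega
  have h9 := Submodule.finrank_sup_add_finrank_inf_eq A B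
  have h10 := rank_add_ev (ρ x)
  have h11 := rank_add_ev (ρ y)
  rw [← hA] at h10
  rw [← hB] at h11
  omega

theorem scott_form (ρ : Representation K G V) {x y : G} (hgen : Subgroup.closure {x, y} = ⊤)
    (B : V →ₗ[K] V →ₗ[K] K) (hB : ∀ v, (∀ w, B v w = 0) → v = 0) (hinv : ∀ g v w, B (ρ g v) (ρ g w) = B v w) :
    ev (ρ x) 1 + ev (ρ y) 1 + ev (ρ (x * y)) 1 ≤ finrank K V + 2 * finrank K ρ.invariants := by
  have h := scott ρ hgen
  have hinj : Function.Injective B := by
    rw [← LinearMap.ker_eq_bot, eq_bot_iff]
    intro v hv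
    refine (Submodule.mem_bot K).2 (hB v fun w => ?_)
    rw [LinearMap.mem_ker.1 hv]
    rfl
  have hd : finrank K (Module.Dual K V) = finrank K V := Subspace.dual_finrank_eq
  have hsurj : Function.Surjective B :=
    (LinearMap.injective_iff_surjective_of_finrank_eq_finrank (f := (B : V →ₗ[K] Module.Dual K V)) hd.symm).1 hinj
  have hle : ρ.dual.invariants ≤ ρ.invariants.map (B : V →ₗ[K] Module.Dual K V) := by
    intro f hf
    obtain ⟨v, rfl⟩ := hsurj f
    refine ⟨v, ?_, rfl⟩
    have hf' := (Representation.mem_invariants (ρ := ρ.dual) _).1 hf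
    change v ∈ ρ.invariants
    rw [Representation.mem_invariants]
    intro g
    refine sub_eq_zero.1 (hB _ fun w => ?_)
    have h1 : B v (ρ g⁻¹ w) = B v w := LinearMap.congr_fun (hf' g) w
    have h2 : B (ρ g v) w = B v (ρ g⁻¹ w) := by
      rw [← hinv g v (ρ g⁻¹ w), ← Module.End.mul_apply, ← map_mul, mul_inv_cancel, map_one, Module.End.one_apply]
    rw [map_sub, LinearMap.sub_apply, h2, h1, sub_self]
  have h1 : finrank K ρ.dual.invariants ≤ finrank K ρ.invariants :=
    (Submodule.finrank_mono hle).trans (Submodule.finrank_map_le (B : V →ₗ[K] Module.Dual K V) ρ.invariants)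
  omega

end Cfsg.Agent.H952.F4.Scott
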