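import Mathlib
import Cfsg.Agent.H952.F4.Defs2
import Cfsg.Agent.LFourA.AltPsiAut
import Cfsg.Agent.S2119
import Cfsg.Agent.Lib.GenFitting

/-!
# S5926, task G1: maximal subgroups with alternating generalized Fitting subgroup (helper790)

`exists_maxAlt` : if `H` is a maximal subgroup with `F*(H) ≅ A_n` then there is an embedding `φ` of `A_n` with
`MaxAlt H n φ`.
-/

set_option autoImplicit false
set_option linter.unusedSectionVars false

namespace Cfsg.Agent.H952.F4.MaxA

open Cfsg Subgroup Equiv Equiv.Perm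

universe u

/-! ### squares of automorphisms of `A_n` are inner -/

section six

/-- a 5-cycle in `S_6` -/
def z5' : Perm (Fin 6) := swap 0 1 * swap 1 2 * swap 2 3 * swap 3 4

/-- the 4-cycle mapping `z5'` to its square -/
def r4 : Perm (Fin 6) := swap 1 2 * swap 2 4 * swap 4 3

theorem z5'_sign : sign z5' = 1 := by decide
theorem r4_sign : sign r4 = -1 := by decide
theorem r4_conj : r4 * z5' * r4⁻¹ = z5' ^ 2 := by decide +kernel
theorem z5'_pow : z5' ^ 5 = 1 := by decide +kernel
theorem z5'_ne : z5' ≠ 1 := by decide +kernel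

theorem cen_sign : ∀ σ : Perm (Fin 6), σ * z5' * σ⁻¹ = z5' → sign σ = 1 := by decide +kernel
theorem inv_sign : ∀ σ : Perm (Fin 6), σ * z5' * σ⁻¹ = z5' ^ 4 → sign σ = 1 := by decide +kernel

/-- an automorphism given by an even permutation is inner -/
theorem inner_of_even {n : ℕ} {α : MulAut (alternatingGroup (Fin n))} {σ : Perm (Fin n)} (hs : sign σ = 1)
    (h : ∀ x : alternatingGroup (Fin n), (α x : Perm (Fin n)) = σ * x * σ⁻¹) :
    ∃ a, α = MulAut.conj a := by
  refine ⟨⟨σ, mem_alternatingGroup.2 hs⟩, ?_⟩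
  apply MulEquiv.ext
  intro x
  apply Subtype.ext
  rw [h, MulAut.conj_apply]
  rfl

/-- squares of automorphisms given by permutations are inner -/
theorem sq_of_perm {n : ℕ} {α : MulAut (alternatingGroup (Fin n))} (h : ∃ σ : Perm (Fin n),
    ∀ x : alternatingGroup (Fin n), (α x : Perm (Fin n)) = σ * x * σ⁻¹) : ∃ a, α * α = MulAut.conj a := by
  obtain ⟨σ, hσ⟩ := h
  refine inner_of_even (σ := σ * σ) ?_ fun x => ?_
  · rw [map_mul]
    rcases Int.units_eq_one_or (sign σ) with h | h <;> rw [h] <;> decide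
  · rw [MulAut.mul_apply, hσ, hσ]
    group

open Cfsg.Agent.LFourA.AltPsiAut in
theorem sq_mem_NE (α : MulAut (alternatingGroup (Fin 6))) : α * α ∈ NE := by
  by_cases h : α ∈ NE
  · exact mul_mem h h
  · have h4 := inv_mul_mem (α := α⁻¹) (β := α) (fun h1 => h (by have := NE.inv_mem h1; rwa [inv_inv] at this)) h
    rwa [inv_inv] at h4

/-- `A_6` -/
theorem sq_six (α : MulAut (alternatingGroup (Fin 6))) : ∃ a, α * α = MulAut.conj a := by
  set z : alternatingGroup (Fin 6) := ⟨z5', mem_alternatingGroup.2 z5'_sign⟩ with hz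
  have hz5 : z ^ 5 = 1 := Subtype.ext z5'_pow
  have hz1 : z ≠ 1 := fun h => z5'_ne (congrArg Subtype.val h)
  have ho : ∀ y : alternatingGroup (Fin 6), y ^ 5 = 1 → y ≠ 1 → (y : Perm (Fin 6)).cycleType = {5} := by
    intro y hy hy1
    have h5 : orderOf (y : Perm (Fin 6)) = 5 := by
      rw [Subgroup.orderOf_coe]
      exact (orderOf_eq_prime_iff (hp := ⟨Nat.prime_five⟩)).2 ⟨hy, hy1⟩
    obtain ⟨k, hk⟩ := Perm.cycleType_prime_order (h5 ▸ Nat.prime_five)
    have h6 := Perm.sum_cycleType (y : Perm (Fin 6))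
    rw [hk, h5] at h6
    have h7 := Finset.card_le_univ (y : Perm (Fin 6)).support
    rw [← h6] at h7
    simp at h7
    have : k = 0 := by omega
    rw [hk, this, h5]
    rfl
  -- `τ (α z) τ⁻¹ ∈ {z, z²}` with `τ` even
  obtain ⟨τ, a, hτ, ha, h⟩ : ∃ (τ : Perm (Fin 6)) (a : ℕ), sign τ = 1 ∧ (a = 1 ∨ a = 2) ∧
      τ * (α z : Perm (Fin 6)) * τ⁻¹ = z5' ^ a := by
    have h1 : IsConj (α z : Perm (Fin 6)) z5' := by
      rw [Perm.isConj_iff_cycleType_eq, ho (α z) (by rw [← map_pow, hz5, map_one])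
        (fun h => hz1 (α.injective (h.trans (map_one α).symm)))]
      exact (ho z hz5 hz1).symm
    obtain ⟨c, hc⟩ := isConj_iff.1 h1
    rcases Int.units_eq_one_or (sign c) with h2 | h2
    · exact ⟨c, 1, h2, Or.inl rfl, by rw [hc, pow_one]⟩
    · refine ⟨r4 * c, 2, by rw [map_mul, r4_sign, h2]; decide, Or.inr rfl, ?_⟩
      rw [← r4_conj, ← hc]
      group
  set t : alternatingGroup (Fin 6) := ⟨τ, mem_alternatingGroup.2 hτ⟩ with ht
  set β : MulAut (alternatingGroup (Fin 6)) := MulAut.conj t * α with hβ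
  have hβz : β z = z ^ a := by
    apply Subtype.ext
    rw [hβ, MulAut.mul_apply, MulAut.conj_apply]
    exact h
  obtain ⟨σ, hσ⟩ := Cfsg.Agent.LFourA.AltPsiAut.exists_perm (sq_mem_NE β)
  have hσz : σ * z5' * σ⁻¹ = z5' ^ (a * a) := by
    have h1 := hσ z
    rw [MulAut.mul_apply, hβz, map_pow, hβz, ← pow_mul] at h1
    exact h1.symm
  have hs : sign σ = 1 := by
    rcases ha with rfl | rfl
    · exact cen_sign σ (by rw [hσz, mul_one, pow_one])
    · exact inv_sign σ hσz
  obtain ⟨b, hb⟩ := inner_of_even hs hσ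
  -- `β² = α' inner`
  have hα : α = MulAut.conj t⁻¹ * β := by
    rw [hβ, ← mul_assoc, ← map_mul, inv_mul_cancel, map_one, one_mul]
  have hcj : β * MulAut.conj t⁻¹ = MulAut.conj (β t⁻¹) * β := by
    apply MulEquiv.ext
    intro x
    simp [MulAut.mul_apply]
  refine ⟨t⁻¹ * β t⁻¹ * b, ?_⟩
  calc α * α = MulAut.conj t⁻¹ * (β * MulAut.conj t⁻¹) * β := by rw [hα]; simp only [mul_assoc]
    _ = MulAut.conj t⁻¹ * MulAut.conj (β t⁻¹) * (β * β) := by rw [hcj]; simp only [mul_assoc]
    _ = _ := by rw [hb, map_mul, map_mul]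

/-- **squares of automorphisms of `A_n` are inner** -/
theorem sq_inner {n : ℕ} (hn : 5 ≤ n) (α : MulAut (alternatingGroup (Fin n))) : ∃ a, α * α = MulAut.conj a := by
  by_cases h6 : n = 6
  · subst h6
    exact sq_six α
  · obtain ⟨s, hs⟩ := (S2119.result n (by omega) h6).2 α
    refine sq_of_perm ⟨s, fun x => ?_⟩
    rw [← hs, MulAut.conjNormal_apply]

theorem finite_mulAut {n : ℕ} : Finite (MulAut (alternatingGroup (Fin n))) :=
  Finite.of_injective (fun σ => (σ : alternatingGroup (Fin n) → alternatingGroup (Fin n))) DFunLike.coe_injective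

open Cfsg.Agent.LFourA.AltPsiAut in
theorem card_aut_six : Nat.card (MulAut (alternatingGroup (Fin 6))) ≤ 1440 := by
  classical
  have := finite_mulAut (n := 6)
  have h1 : Nat.card NE ≤ 720 := by
    choose σ hσ using fun a : NE => exists_perm a.2
    have h2 : Function.Injective σ := by
      intro a b hab
      apply Subtype.ext
      refine MulEquiv.ext fun x => Subtype.ext ?_
      rw [hσ, hσ, hab]
    have h3 := Nat.card_le_card_of_injective σ h2
    rw [Nat.card_perm, Nat.card_fin] at h3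
    exact h3
  by_cases h : ∃ β : MulAut (alternatingGroup (Fin 6)), β ∉ NE
  · obtain ⟨β, hβ⟩ := h
    have hmem : ∀ a : MulAut (alternatingGroup (Fin 6)), a ∉ NE → β⁻¹ * a ∈ NE := fun a ha => inv_mul_mem hβ ha
    let f : MulAut (alternatingGroup (Fin 6)) → NE × Bool := fun a =>
      if ha : a ∈ NE then (⟨a, ha⟩, true) else (⟨β⁻¹ * a, hmem a ha⟩, false)
    have hf : Function.Injective f := by
      intro a b hab
      by_cases ha : a ∈ NE <;> by_cases hb : b ∈ NE <;> simp [f, ha, hb] at hab <;> exact hab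
    have h2 := Nat.card_le_card_of_injective f hf
    rw [Nat.card_prod, Nat.card_eq_fintype_card (α := Bool), Fintype.card_bool] at h2
    omega
  · push Not at h
    have h2 : Nat.card (MulAut (alternatingGroup (Fin 6))) ≤ Nat.card NE :=
      Nat.card_le_card_of_injective (fun a => (⟨a, h a⟩ : NE)) fun a b hab => congrArg Subtype.val hab
    omega

theorem card_aut {n : ℕ} (hn : 5 ≤ n) :
    Nat.card (MulAut ↥(alternatingGroup (Fin n))) ≤ if n = 6 then 1440 else n.factorial := by
  split_ifs with h6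
  · subst h6
    exact card_aut_six
  · rw [← Nat.card_congr (Equiv.ofBijective _ (S2119.result n (by omega) h6)), Nat.card_perm,
      Nat.card_eq_fintype_card, Fintype.card_fin]

end six

/-! ### the theorem -/

section main

variable {G : Type u} [Group G] [Finite G]

theorem exists_maxAlt [IsSimpleGroup G] {H : Subgroup G} (hH : IsCoatom H)
    {n : ℕ} (hn : 5 ≤ n) (hA : Nonempty (↥(generalizedFittingSubgroup ↥H) ≃* ↥(alternatingGroup (Fin n)))) :
    ∃ φ : ↥(alternatingGroup (Fin n)) →* G, MaxAlt H n φ := by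
  obtain ⟨e⟩ := hA
  have hN : (generalizedFittingSubgroup ↥H).Normal := Lib.GenFitting.genFitting_normal
  set A : Subgroup ↥H := generalizedFittingSubgroup ↥H with hAdef
  have hC : centralizer (A : Set ↥H) ≤ A := Lib.GenFitting.centralizer_genFitting_le
  have hZ : Subgroup.center (alternatingGroup (Fin n)) = ⊥ :=
    alternatingGroup.center_eq_bot (by rw [Nat.card_eq_fintype_card, Fintype.card_fin]; omega)
  have hsim : IsSimpleGroup (alternatingGroup (Fin n)) := alternatingGroup.isSimpleGroup (by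
    rw [Nat.card_eq_fintype_card, Fintype.card_fin]; exact hn)
  -- `C_H(A) = 1`
  have hC1 : ∀ h : ↥H, (∀ a ∈ A, h * a = a * h) → h = 1 := by
    intro h hh
    have h1 : h ∈ A := hC (mem_centralizer_iff.2 fun a ha => (hh a ha).symm)
    have h2 : e ⟨h, h1⟩ ∈ Subgroup.center (alternatingGroup (Fin n)) := by
      rw [mem_center_iff]
      intro g
      have h3 := hh _ (e.symm g).2
      have h4 : (⟨h, h1⟩ : ↥A) * e.symm g = e.symm g * ⟨h, h1⟩ := Subtype.ext h3
      have h5 := congrArg e h4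
      rw [map_mul, map_mul, e.apply_symm_apply] at h5
      exact h5.symm
    rw [hZ, mem_bot, e.map_eq_one_iff] at h2
    exact congrArg Subtype.val h2
  -- the homomorphism to the automorphism group
  let ψ : ↥H →* MulAut (alternatingGroup (Fin n)) :=
    (MulAut.congr e).toMonoidHom.comp (MulAut.conjNormal (H := A))
  have hψ : ∀ (h : ↥H) (x : alternatingGroup (Fin n)), ((e.symm (ψ h x) : ↥A) : ↥H) = h * (e.symm x : ↥A) * h⁻¹ := by
    intro h x
    show ((e.symm (e (MulAut.conjNormal h (e.symm x))) : ↥A) : ↥H) = _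
    rw [e.symm_apply_apply, MulAut.conjNormal_apply]
  have hψinj : Function.Injective ψ := by
    rw [injective_iff_map_eq_one]
    intro h hh
    refine hC1 h fun a ha => ?_
    have h1 := hψ h (e ⟨a, ha⟩)
    rw [hh, MulAut.one_apply, e.symm_apply_apply] at h1
    have h2 : a = h * a * h⁻¹ := h1
    exact (eq_mul_inv_iff_mul_eq.1 h2).symm
  have hψA : ∀ x : alternatingGroup (Fin n), ψ ((e.symm x : ↥A) : ↥H) = MulAut.conj x := by
    intro x
    apply MulEquiv.ext
    intro y
    apply e.symm.injective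
    apply Subtype.ext
    rw [hψ, MulAut.conj_apply, map_mul, map_mul, map_inv]
    rfl
  let φ : ↥(alternatingGroup (Fin n)) →* G := H.subtype.comp (A.subtype.comp e.symm.toMonoidHom)
  have hφ : ∀ x, φ x = (((e.symm x : ↥A) : ↥H) : G) := fun x => rfl
  have hr : ∀ h : ↥H, (h : G) ∈ φ.range ↔ h ∈ A := by
    intro h
    constructor
    · rintro ⟨x, hx⟩
      rw [hφ] at hx
      have : ((e.symm x : ↥A) : ↥H) = h := Subtype.ext hx
      rw [← this]
      exact (e.symm x).2
    · intro hh
      exact ⟨e ⟨h, hh⟩, by rw [hφ, e.symm_apply_apply]⟩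
  have hle : φ.range ≤ H := by
    rintro _ ⟨x, rfl⟩
    exact ((e.symm x : ↥A) : ↥H).2
  have hinj : Function.Injective φ := by
    intro x y hxy
    exact e.symm.injective (Subtype.ext (Subtype.ext hxy))
  refine ⟨φ, hH, hinj, hle, ?_, ?_, ?_, ?_, ?_⟩
  · intro h hh a ha
    have h1 := hN.conj_mem ⟨a, hle ha⟩ ((hr ⟨a, hle ha⟩).1 ha) ⟨h, hh⟩
    exact (hr _).2 h1
  · intro h hh
    obtain ⟨a, ha⟩ := sq_inner hn (ψ ⟨h, hh⟩)
    rw [← map_mul, ← hψA] at ha
    have h1 := hψinj ha
    refine ⟨a, ?_⟩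
    rw [hφ, ← h1]
    rfl
  · intro B hB hBn hB1
    have hBN : (B.subgroupOf H).Normal := ⟨fun b hb h => hBn h h.2 b hb⟩
    set C : Subgroup (alternatingGroup (Fin n)) := (B.subgroupOf H).comap (A.subtype.comp e.symm.toMonoidHom) with hCdef
    have hCN : C.Normal := hBN.comap _
    rcases hCN.eq_bot_or_eq_top with h | h
    · exfalso
      apply hB1
      rw [eq_bot_iff]
      intro b hb
      have h1 := hC1 ⟨b, hB hb⟩ fun a ha => by
        set b' : ↥H := ⟨b, hB hb⟩ with hb'
        have hbB : b' ∈ B.subgroupOf H := hb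
        have h2 : b' * a * b'⁻¹ * a⁻¹ ∈ A := A.mul_mem (hN.conj_mem a ha b') (A.inv_mem ha)
        have h3 : b' * a * b'⁻¹ * a⁻¹ ∈ B.subgroupOf H := by
          have := (B.subgroupOf H).mul_mem hbB (hBN.conj_mem _ ((B.subgroupOf H).inv_mem hbB) a)
          rwa [show b' * (a * b'⁻¹ * a⁻¹) = b' * a * b'⁻¹ * a⁻¹ by group] at this
        have h4 : e ⟨_, h2⟩ ∈ C := by
          rw [hCdef, mem_comap]
          show ((e.symm (e ⟨_, h2⟩) : ↥A) : ↥H) ∈ B.subgroupOf H
          rw [e.symm_apply_apply]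
          exact h3
        rw [h, mem_bot, e.map_eq_one_iff] at h4
        have h5 : b' * a * b'⁻¹ * a⁻¹ = 1 := congrArg Subtype.val h4
        rw [mul_inv_eq_one, mul_inv_eq_iff_eq_mul] at h5
        exact h5
      rw [mem_bot]
      exact congrArg Subtype.val h1
    · rintro _ ⟨x, rfl⟩
      have h1 : x ∈ C := h ▸ mem_top x
      exact h1
  · have := finite_mulAut (n := n)
    exact (Nat.card_le_card_of_injective ψ hψinj).trans (card_aut hn)
  · rintro rfl
    by_cases hHr : H = φ.range
    · exact Or.inl hHr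
    · right
      -- an element inducing an odd permutation
      have h1 : ∃ h ∈ H, h ∉ φ.range := by
        by_contra hc
        push Not at hc
        exact hHr (le_antisymm hc hle)
      obtain ⟨h, hh, hhr⟩ := h1
      obtain ⟨σ, hσ⟩ := (S2119.result 5 (by omega) (by omega)).2 (ψ ⟨h, hh⟩)
      have hσ' : ∀ x : alternatingGroup (Fin 5), (ψ ⟨h, hh⟩ x : Perm (Fin 5)) = σ * x * σ⁻¹ := by
        intro x
        rw [← hσ, MulAut.conjNormal_apply]
      have hodd : sign σ = -1 := by
        rcases Int.units_eq_one_or (sign σ) with h2 | h2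
        · exfalso
          obtain ⟨a, ha⟩ := inner_of_even h2 hσ'
          rw [← hψA] at ha
          apply hhr
          exact ⟨a, congrArg Subtype.val (hψinj ha).symm⟩
        · exact h2
      rintro _ ⟨b, rfl⟩ hb1 hb5
      have hb1' : b ≠ 1 := fun h => hb1 (by rw [h, map_one])
      have hb5' : b ^ 5 = 1 := hinj (by rw [map_pow, hb5, map_one])
      have ho : ∀ y : alternatingGroup (Fin 5), y ^ 5 = 1 → y ≠ 1 → (y : Perm (Fin 5)).cycleType = {5} := by
        intro y hy hy1
        have h5 : orderOf (y : Perm (Fin 5)) = 5 := by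
          rw [Subgroup.orderOf_coe]
          exact (orderOf_eq_prime_iff (hp := ⟨Nat.prime_five⟩)).2 ⟨hy, hy1⟩
        obtain ⟨k, hk⟩ := Perm.cycleType_prime_order (h5 ▸ Nat.prime_five)
        have h6 := Perm.sum_cycleType (y : Perm (Fin 5))
        rw [hk, h5] at h6
        have h7 := Finset.card_le_univ (y : Perm (Fin 5)).support
        rw [← h6] at h7
        simp at h7
        have : k = 0 := by omega
        rw [hk, this, h5]
        rfl
      have hb2 : b ^ 2 ≠ 1 := by
        intro h2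
        apply hb1'
        have : b ^ 5 = b ^ 2 * b ^ 2 * b := by group
        rw [this, h2, one_mul, one_mul] at hb5'
        exact hb5'
      have hcj : IsConj (b : Perm (Fin 5)) ((b ^ 2 : alternatingGroup (Fin 5)) : Perm (Fin 5)) := by
        rw [Perm.isConj_iff_cycleType_eq, ho b hb5' hb1',
          ho (b ^ 2) (by rw [← pow_mul, mul_comm, pow_mul, hb5', one_pow]) hb2]
      obtain ⟨τ, hτ⟩ := isConj_iff.1 hcj
      rcases Int.units_eq_one_or (sign τ) with h2 | h2
      · refine ⟨φ ⟨τ, mem_alternatingGroup.2 h2⟩, hle ⟨_, rfl⟩, ?_⟩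
        rw [← map_inv, ← map_mul, ← map_mul, ← map_pow]
        congr 1
        exact Subtype.ext hτ
      · have h3 : sign (τ * σ⁻¹) = 1 := by rw [map_mul, map_inv, h2, hodd]; decide
        refine ⟨φ ⟨τ * σ⁻¹, mem_alternatingGroup.2 h3⟩ * h, H.mul_mem (hle ⟨_, rfl⟩) hh, ?_⟩
        have h4 : h * φ b * h⁻¹ = φ (ψ ⟨h, hh⟩ b) := (congrArg Subtype.val (hψ ⟨h, hh⟩ b)).symm
        rw [mul_inv_rev, show ∀ p q r s : G, p * q * r * (q⁻¹ * s) = p * (q * r * q⁻¹) * s from fun p q r s => by group,
          h4, ← map_inv, ← map_mul, ← map_mul, ← map_pow]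
        congr 1
        apply Subtype.ext
        rw [← hτ]
        show (τ * σ⁻¹) * (ψ ⟨h, hh⟩ b : Perm (Fin 5)) * (τ * σ⁻¹)⁻¹ = _
        rw [hσ']
        group

end main

end Cfsg.Agent.H952.F4.MaxA
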