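import Cfsg.Agent.H952.F4.Defs2

/-!
# S5926, M1 and M3: the six axes (helper183)

`A₅` acting on a module in which the sign character of the dihedral group `⟨z5, v0⟩` has multiplicity one.
-/

set_option autoImplicit false
set_option linter.unusedVariables false

namespace Cfsg.Agent.H952.F4.Spec

open Module

universe u

section

variable {F V : Type*} [Field F] [AddCommGroup V] [Module F V]
  {ρ : Representation F ↥(alternatingGroup (Fin 5)) V}

theorem mem_es {T : V →ₗ[F] V} {μ : F} {v : V} : v ∈ es T μ ↔ T v = μ • v := Module.End.mem_eigenspace_iff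

theorem mul_act (g h : ↥(alternatingGroup (Fin 5))) (x : V) : ρ (g * h) x = ρ g (ρ h x) := by
  rw [map_mul]; rfl

theorem act_inj {g : ↥(alternatingGroup (Fin 5))} {x y : V} (h : ρ g x = ρ g y) : x = y := by
  have h1 := congrArg (ρ g⁻¹) h
  rwa [← mul_act, ← mul_act, inv_mul_cancel, map_one] at h1

/-- The relations between the axes. -/
structure Ax (ρ : Representation F ↥(alternatingGroup (Fin 5)) V) (a b c d e f : V) : Prop where
  za : ρ z5 a = a
  zb : ρ z5 b = -d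
  zc : ρ z5 c = -b
  zd : ρ z5 d = -f
  ze : ρ z5 e = c
  zf : ρ z5 f = -e
  pa : ρ v0 a = -a
  pb : ρ v0 b = -b
  pc : ρ v0 c = -d
  pd : ρ v0 d = -c
  pe : ρ v0 e = f
  pf : ρ v0 f = e
  qa : ρ v1 a = b
  qb : ρ v1 b = a
  qc : ρ v1 c = -c
  qd : ρ v1 d = -d
  qe : ρ v1 e = -f
  qf : ρ v1 f = -e
  ca : ρ c3 a = c
  cb : ρ c3 b = d
  cc : ρ c3 c = e
  cd : ρ c3 d = f
  ce : ρ c3 e = a
  cf : ρ c3 f = b

theorem ax {x : V} (hz : ρ z5 x = x) (hv : ρ v0 x = -x) :
    Ax ρ x (ρ v1 x) (ρ c3 x) (ρ c3 (ρ v1 x)) (ρ c3 (ρ c3 x)) (ρ c3 (ρ c3 (ρ v1 x))) := by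
  have hz2 : ρ (z5 * z5) x = x := by rw [mul_act, hz, hz]
  have hz3 : ρ (z5 * (z5 * z5)) x = x := by rw [mul_act, hz2, hz]
  have hz4 : ρ (z5 * (z5 * (z5 * z5))) x = x := by rw [mul_act, hz3, hz]
  have e1 : z5 * c3 = v1 * (z5 * (z5 * z5) * v0) := by decide +kernel
  have e2 : z5 * v1 = c3 * v1 * (z5 * z5 * v0) := by decide +kernel
  have e3 : z5 * c3 * v1 = c3 * (c3 * v1) * (z5 * v0) := by decide +kernel
  have e4 : z5 * c3 * c3 * v1 = c3 * c3 * (z5 * (z5 * z5) * v0) := by decide +kernel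
  have e5 : z5 * c3 * c3 = c3 * (z5 * (z5 * (z5 * z5))) := by decide +kernel
  have f1 : v0 * v1 = v1 * v0 := by decide +kernel
  have f2 : v0 * c3 = c3 * (v1 * v0) := by decide +kernel
  have f3 : v0 * c3 * v1 = c3 * v0 := by decide +kernel
  have f4 : v0 * c3 * c3 = c3 * (c3 * v1) := by decide +kernel
  have f5 : v0 * c3 * c3 * v1 = c3 * c3 := by decide +kernel
  have g1 : v1 * v1 = 1 := by decide +kernel
  have g2 : v1 * c3 = c3 * v0 := by decide +kernel
  have g3 : v1 * c3 * v1 = c3 * (v1 * v0) := by decide +kernel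
  have g4 : v1 * c3 * c3 = c3 * (c3 * (v1 * v0)) := by decide +kernel
  have g5 : v1 * c3 * c3 * v1 = c3 * (c3 * v0) := by decide +kernel
  have k1 : c3 * c3 * c3 = 1 := by decide +kernel
  refine ⟨hz, ?_, ?_, ?_, ?_, ?_, hv, ?_, ?_, ?_, ?_, ?_, rfl, ?_, ?_, ?_, ?_, ?_, rfl, rfl, rfl, rfl, ?_, ?_⟩
  · rw [← mul_act, e2, mul_act, mul_act, mul_act, hv, map_neg, hz2, map_neg, map_neg]
  · rw [← mul_act, e1, mul_act, mul_act, hv, map_neg, hz3, map_neg]
  · rw [← mul_act, ← mul_act, e3, mul_act, mul_act, mul_act, mul_act, hv, map_neg, hz, map_neg, map_neg, map_neg]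
  · rw [← mul_act, ← mul_act, e5, mul_act, hz4]
  · rw [← mul_act, ← mul_act, ← mul_act, e4, mul_act, mul_act, mul_act, hv, map_neg, hz3, map_neg, map_neg]
  · rw [← mul_act, f1, mul_act, hv, map_neg]
  · rw [← mul_act, f2, mul_act, mul_act, hv, map_neg, map_neg]
  · rw [← mul_act, ← mul_act, f3, mul_act, hv, map_neg]
  · rw [← mul_act, ← mul_act, f4, mul_act, mul_act]
  · rw [← mul_act, ← mul_act, ← mul_act, f5, mul_act]
  · rw [← mul_act, g1, map_one]; rfl
  · rw [← mul_act, g2, mul_act, hv, map_neg]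
  · rw [← mul_act, ← mul_act, g3, mul_act, mul_act, hv, map_neg, map_neg]
  · rw [← mul_act, ← mul_act, g4, mul_act, mul_act, mul_act, hv, map_neg, map_neg, map_neg]
  · rw [← mul_act, ← mul_act, ← mul_act, g5, mul_act, mul_act, hv, map_neg, map_neg]
  · rw [← mul_act, ← mul_act, k1, map_one]; rfl
  · rw [← mul_act, ← mul_act, k1, map_one]; rfl

/-- M1 -/
theorem axes {F V : Type*} [Field F] [AddCommGroup V] [Module F V] [FiniteDimensional F V] (h2 : (2 : F) ≠ 0)
    (h5 : (5 : F) ≠ 0) (ρ : Representation F ↥(alternatingGroup (Fin 5)) V)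
    (h1 : finrank F ↥(es (ρ z5) 1 ⊓ es (ρ v0) (-1)) = 1) :
    ∃ (t : F) (X : Fin 3 → V), t * t = t + 1 ∧ (∀ i, X i ≠ 0) ∧
      (ρ v0 (X 0) = X 0 ∧ ρ v0 (X 1) = -X 1 ∧ ρ v0 (X 2) = -X 2) ∧
      (ρ v1 (X 0) = -X 0 ∧ ρ v1 (X 1) = X 1 ∧ ρ v1 (X 2) = -X 2) ∧
      (ρ c3 (X 0) = X 1 ∧ ρ c3 (X 1) = X 2 ∧ ρ c3 (X 2) = X 0) ∧
      (2 : F) • ρ z5 (X 0) = (t - 1) • X 0 - t • X 1 + X 2 ∧
      (2 : F) • ρ z5 (X 1) = t • X 0 + X 1 + (t - 1) • X 2 ∧
      (2 : F) • ρ z5 (X 2) = -X 0 + (t - 1) • X 1 + t • X 2 := by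
  obtain ⟨⟨x, hxm⟩, hx0, hxs⟩ := finrank_eq_one_iff'.1 h1
  have hx0' : x ≠ 0 := fun h => hx0 (Subtype.ext h)
  have hz : ρ z5 x = x := by
    have h := mem_es.1 hxm.1
    rwa [one_smul] at h
  have hv : ρ v0 x = -x := by
    have h := mem_es.1 hxm.2
    rwa [neg_smul, one_smul] at h
  have A := ax hz hv
  generalize ρ v1 x = b at A
  generalize ρ c3 x = c at A
  generalize ρ c3 b = d at A
  generalize ρ c3 c = e at A
  generalize ρ c3 d = f at A
  -- the sum of the five other axes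
  obtain ⟨lam, hlam⟩ : ∃ lam : F, c - b + d - f + e = lam • x := by
    have hS : c - b + d - f + e ∈ es (ρ z5) 1 ⊓ es (ρ v0) (-1) := by
      refine ⟨mem_es.2 ?_, mem_es.2 ?_⟩
      · rw [map_add, map_sub, map_add, map_sub, A.zc, A.zb, A.zd, A.zf, A.ze, one_smul]
        abel
      · rw [map_add, map_sub, map_add, map_sub, A.pc, A.pb, A.pd, A.pf, A.pe, neg_smul, one_smul]
        abel
    obtain ⟨l, hl⟩ := hxs ⟨_, hS⟩
    exact ⟨l, (congrArg Subtype.val hl).symm⟩
  have hlam' : -c - x - d + e - f = lam • b := by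
    have h := congrArg (ρ v1) hlam
    rw [map_add, map_sub, map_add, map_sub, A.qc, A.qb, A.qd, A.qf, A.qe, map_smul, A.qa] at h
    rw [← h]
    abel
  set t : F := (lam + 1) / 2 with ht
  have hlt : lam = 2 * t - 1 := by rw [ht]; field_simp; ring
  have R1 : e - f = t • (x + b) := by
    have h : (2 : F) • (e - f) = (2 : F) • (t • (x + b)) := by
      rw [smul_smul, show (2 : F) * t = lam + 1 by rw [hlt]; ring, add_smul, one_smul, smul_add, ← hlam, ← hlam']
      rw [two_smul]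
      abel
    exact smul_right_injective V h2 h
  have R2 : c + d = (t - 1) • (x - b) := by
    have h : (2 : F) • (c + d) = (2 : F) • ((t - 1) • (x - b)) := by
      rw [smul_smul, show (2 : F) * (t - 1) = lam - 1 by rw [hlt]; ring, sub_smul, one_smul, smul_sub, ← hlam, ← hlam']
      rw [two_smul]
      abel
    exact smul_right_injective V h2 h
  have R3 : x - b = t • (c + d) := by
    have h := congrArg (ρ c3) R1
    rwa [map_sub, map_smul, map_add, A.ce, A.cf, A.ca, A.cb] at h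
  have R4 : c - d = t • (e + f) := by
    have h := congrArg (ρ c3) R3
    rwa [map_sub, map_smul, map_add, A.ca, A.cb, A.cc, A.cd] at h
  have hadd : x + b ≠ 0 := by
    intro h
    rw [h, smul_zero, sub_eq_zero] at R1
    have h3 := congrArg (ρ c3) R1
    rw [A.ce, A.cf] at h3
    rw [← h3, ← two_smul F] at h
    exact hx0' ((smul_eq_zero.1 h).resolve_left h2)
  have hsub : x - b ≠ 0 := by
    intro h
    rw [h, smul_zero] at R2
    have h3 : ρ c3 (x + b) = ρ c3 0 := by rw [map_add, A.ca, A.cb, R2, map_zero]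
    exact hadd (act_inj h3)
  have htt : t * t = t + 1 := by
    have h : (t * (t - 1) - 1) • (x - b) = 0 := by
      rw [sub_smul, one_smul, mul_smul, ← R2, ← R3, sub_self]
    have h3 := (smul_eq_zero.1 h).resolve_right hsub
    linear_combination h3
  have h22 : (2 : F) * (1 / 2) = 1 := by field_simp
  -- the vectors
  refine ⟨t, ![(1 / 2 : F) • (e + f), (1 / 2 : F) • (x + b), (1 / 2 : F) • (c + d)], htt, ?_, ?_, ?_, ?_, ?_, ?_, ?_⟩
  · have hh : (1 / 2 : F) ≠ 0 := by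
      intro h
      rw [h, mul_zero] at h22
      exact zero_ne_one h22
    have hc : ρ c3 (x + b) = c + d := by rw [map_add, A.ca, A.cb]
    have he : ρ c3 (c + d) = e + f := by rw [map_add, A.cc, A.cd]
    have hcd : c + d ≠ 0 := by
      intro h
      rw [h] at hc
      exact hadd (act_inj (hc.trans (map_zero (ρ c3)).symm))
    have hef : e + f ≠ 0 := by
      intro h
      rw [h] at he
      exact hcd (act_inj (he.trans (map_zero (ρ c3)).symm))
    intro i
    fin_cases i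
    · exact smul_ne_zero hh hef
    · exact smul_ne_zero hh hadd
    · exact smul_ne_zero hh hcd
  · simp only [Matrix.cons_val_zero, Matrix.cons_val_one, Matrix.cons_val]
    rw [map_smul, map_smul, map_smul, map_add, map_add, map_add, A.pe, A.pf, A.pa, A.pb, A.pc, A.pd]
    refine ⟨by rw [add_comm], by rw [← smul_neg, neg_add], by rw [← smul_neg, neg_add, add_comm]⟩
  · simp only [Matrix.cons_val_zero, Matrix.cons_val_one, Matrix.cons_val]
    rw [map_smul, map_smul, map_smul, map_add, map_add, map_add, A.qe, A.qf, A.qa, A.qb, A.qc, A.qd]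
    refine ⟨by rw [← smul_neg, neg_add, add_comm], by rw [add_comm], by rw [← smul_neg, neg_add]⟩
  · simp only [Matrix.cons_val_zero, Matrix.cons_val_one, Matrix.cons_val]
    rw [map_smul, map_smul, map_smul, map_add, map_add, map_add, A.ce, A.cf, A.ca, A.cb, A.cc, A.cd]
    exact ⟨rfl, rfl, rfl⟩
  all_goals
    have H0 : e + f = (2 : F) • ((1 / 2 : F) • (e + f)) := by rw [smul_smul, h22, one_smul]
    have H1 : x + b = (2 : F) • ((1 / 2 : F) • (x + b)) := by rw [smul_smul, h22, one_smul]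
    have H2 : c + d = (2 : F) • ((1 / 2 : F) • (c + d)) := by rw [smul_smul, h22, one_smul]
    simp only [Matrix.cons_val_zero, Matrix.cons_val_one, Matrix.cons_val]
    generalize (1 / 2 : F) • (e + f) = X0 at H0 ⊢
    generalize (1 / 2 : F) • (x + b) = X1 at H1 ⊢
    generalize (1 / 2 : F) • (c + d) = X2 at H2 ⊢
    rw [H1] at R1
    rw [H2] at R3
    rw [H0] at R4
    apply smul_right_injective V h2
    show (2 : F) • _ = (2 : F) • _
    rw [← map_smul]
  · rw [← H0, map_add, A.ze, A.zf]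
    linear_combination (norm := module) R4 + H2 - R1 - H0
  · rw [← H1, map_add, A.za, A.zb]
    linear_combination (norm := module) R3 + H1 + R4 - H2
  · rw [← H2, map_add, A.zc, A.zd]
    linear_combination (norm := module) R3 - H1 + R1 - H0

/-- the trace of a linear map with image in a line -/
theorem trace_of_line {F V : Type*} [Field F] [AddCommGroup V] [Module F V] [FiniteDimensional F V] {x : V}
    (hx : x ≠ 0) (T : V →ₗ[F] V) (hT : ∀ v, ∃ c : F, T v = c • x) {μ : F} (hμ : T x = μ • x) :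
    LinearMap.trace F V T = μ := by
  have hmem : ∀ v, T v ∈ Submodule.span F {x} := fun v => by
    obtain ⟨c, hc⟩ := hT v
    rw [hc]
    exact Submodule.smul_mem _ _ (Submodule.mem_span_singleton_self x)
  let φ : V →ₗ[F] F := (LinearEquiv.toSpanNonzeroSingleton F V x hx).symm.toLinearMap ∘ₗ
    T.codRestrict (Submodule.span F {x}) hmem
  have hφ : ∀ v, φ v • x = T v := by
    intro v
    have h := (LinearEquiv.toSpanNonzeroSingleton F V x hx).apply_symm_apply
      (T.codRestrict (Submodule.span F {x}) hmem v)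
    exact congrArg Subtype.val h
  have hTφ : T = φ.smulRight x := by
    ext v
    exact (hφ v).symm
  rw [hTφ, LinearMap.trace_smulRight]
  have h := hφ x
  rw [hμ] at h
  exact smul_left_injective F hx h

/-- ten times the projection on the sign component of the dihedral group -/
def pr (ρ : Representation F ↥(alternatingGroup (Fin 5)) V) (v : V) : V :=
  ∑ k : Fin 5, (ρ (z5 ^ (k : ℕ)) v - ρ (z5 ^ (k : ℕ) * v0) v)

theorem pow_z5 : ∀ k : Fin 5, z5 * z5 ^ (k : ℕ) = z5 ^ ((k + 1 : Fin 5) : ℕ) := by decide +kernel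

theorem v0_pow : ∀ k : Fin 5, v0 * z5 ^ (k : ℕ) = z5 ^ ((-k : Fin 5) : ℕ) * v0 := by decide +kernel

theorem v0_sq : v0 * v0 = 1 := by decide +kernel

theorem z5_pr (v : V) : ρ z5 (pr ρ v) = pr ρ v := by
  rw [pr, map_sum]
  refine Fintype.sum_equiv (Equiv.addRight 1) _ _ fun k => ?_
  rw [map_sub, ← mul_act, ← mul_act, ← mul_assoc, pow_z5]
  rfl

theorem v0_pr (v : V) : ρ v0 (pr ρ v) = -pr ρ v := by
  rw [pr, map_sum, ← Finset.sum_neg_distrib]
  refine Fintype.sum_equiv (Equiv.neg (Fin 5)) _ _ fun k => ?_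
  rw [map_sub, ← mul_act, ← mul_act, ← mul_assoc, v0_pow, mul_assoc, v0_sq, mul_one, neg_sub]
  rfl

theorem trace_conj (ρ : Representation F ↥(alternatingGroup (Fin 5)) V) {g g' : ↥(alternatingGroup (Fin 5))}
    (h : ∃ k, k * g * k⁻¹ = g') : LinearMap.trace F V (ρ g') = LinearMap.trace F V (ρ g) := by
  obtain ⟨k, rfl⟩ := h
  rw [map_mul ρ, map_mul ρ, LinearMap.trace_mul_comm, ← mul_assoc, ← map_mul ρ, inv_mul_cancel, map_one ρ, one_mul]

/-- M3: the difference of the traces of the two classes of elements of order 5 -/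
theorem trace_diff {F V : Type u} [Field F] [AddCommGroup V] [Module F V] [FiniteDimensional F V] (h2 : (2 : F) ≠ 0)
    (h5 : (5 : F) ≠ 0) (ρ : Representation F ↥(alternatingGroup (Fin 5)) V)
    (h1 : finrank F ↥(es (ρ z5) 1 ⊓ es (ρ v0) (-1)) = 1) {t : F} {X : Fin 3 → V} (ht : t * t = t + 1)
    (hX : ∀ i, X i ≠ 0)
    (h0 : ρ v0 (X 0) = X 0 ∧ ρ v0 (X 1) = -X 1 ∧ ρ v0 (X 2) = -X 2)
    (h1' : ρ v1 (X 0) = -X 0 ∧ ρ v1 (X 1) = X 1 ∧ ρ v1 (X 2) = -X 2)
    (hc : ρ c3 (X 0) = X 1 ∧ ρ c3 (X 1) = X 2 ∧ ρ c3 (X 2) = X 0)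
    (hz0 : (2 : F) • ρ z5 (X 0) = (t - 1) • X 0 - t • X 1 + X 2)
    (hz1 : (2 : F) • ρ z5 (X 1) = t • X 0 + X 1 + (t - 1) • X 2)
    (hz2 : (2 : F) • ρ z5 (X 2) = -X 0 + (t - 1) • X 1 + t • X 2) :
    LinearMap.trace F V (ρ z5) - LinearMap.trace F V (ρ (z5 * z5)) = 2 * t - 1 := by
  obtain ⟨h00, h01, h02⟩ := h0
  obtain ⟨h10, h11, h12⟩ := h1'
  obtain ⟨hc0, hc1, hc2⟩ := hc
  set x := X 1 + t • X 2 with hxdef
  have hzx : ρ z5 x = x := by
    apply smul_right_injective V h2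
    show (2 : F) • _ = (2 : F) • _
    rw [hxdef, map_add, map_smul, smul_add, smul_comm, hz1, hz2]
    have ht' : t * t - t - 1 = 0 := by linear_combination ht
    have e1 : (t * t - t - 1) • X 1 = 0 := by rw [ht', zero_smul]
    have e2 : (t * t - t - 1) • X 2 = 0 := by rw [ht', zero_smul]
    linear_combination (norm := module) e1 + e2
  have hvx : ρ v0 x = -x := by
    rw [hxdef, map_add, map_smul, h01, h02]
    module
  have hb : ρ v1 x = X 1 - t • X 2 := by
    rw [hxdef, map_add, map_smul, h11, h12]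
    module
  have hx0 : x ≠ 0 := by
    intro h
    have h3 : X 1 - t • X 2 = 0 := by rw [← hb, h, map_zero]
    have h4 : (2 : F) • X 1 = 0 := by
      linear_combination (norm := module) h + h3
    exact hX 1 ((smul_eq_zero.1 h4).resolve_left h2)
  have A := ax hzx hvx
  -- the sum of the axes
  have hS : ρ c3 x - ρ v1 x + ρ c3 (ρ v1 x) - ρ c3 (ρ c3 (ρ v1 x)) + ρ c3 (ρ c3 x) = (2 * t - 1) • x := by
    rw [hb, hxdef]
    simp only [map_add, map_sub, map_smul, hc0, hc1, hc2]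
    have ht' : t * t - t - 1 = 0 := by linear_combination ht
    have e2 : (t * t - t - 1) • X 2 = 0 := by rw [ht', zero_smul]
    linear_combination (norm := module) (-2 : F) • e2
  generalize ρ v1 x = b at A hS
  generalize ρ c3 x = c at A hS
  generalize ρ c3 b = d at A hS
  generalize ρ c3 c = e at A hS
  generalize ρ c3 d = f at A hS
  have hline : ∀ v, ∃ l : F, pr ρ v = l • x := by
    intro v
    obtain ⟨⟨w, hwm⟩, hw0, hws⟩ := finrank_eq_one_iff'.1 h1
    obtain ⟨l, hl⟩ := hws ⟨pr ρ v, mem_es.2 (by rw [z5_pr, one_smul]), mem_es.2 (by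
      rw [v0_pr, neg_smul, one_smul])⟩
    obtain ⟨m, hm⟩ := hws ⟨x, mem_es.2 (by rw [hzx, one_smul]), mem_es.2 (by rw [hvx, neg_smul, one_smul])⟩
    have hl' : l • w = pr ρ v := congrArg Subtype.val hl
    have hm' : m • w = x := congrArg Subtype.val hm
    have hm0 : m ≠ 0 := by
      rintro rfl
      rw [zero_smul] at hm'
      exact hx0 hm'.symm
    refine ⟨l / m, ?_⟩
    rw [← hl', ← hm', smul_smul, div_mul_cancel₀ _ hm0]
  let T : V →ₗ[F] V := ∑ k : Fin 5, (ρ (z5 ^ (k : ℕ) * v1) - ρ (z5 ^ (k : ℕ) * v0 * v1))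
  have hT : ∀ v, T v = pr ρ (ρ v1 v) := by
    intro v
    rw [pr]
    show (∑ k : Fin 5, (ρ (z5 ^ (k : ℕ) * v1) - ρ (z5 ^ (k : ℕ) * v0 * v1))) v = _
    rw [LinearMap.sum_apply]
    refine Finset.sum_congr rfl fun k _ => ?_
    rw [LinearMap.sub_apply, mul_act, mul_act]
  have hTx : T x = (-2 * (2 * t - 1)) • x := by
    rw [hT, A.qa, pr, Fin.sum_univ_five]
    have p1 : ρ (z5 ^ 1) b = -d := by rw [pow_one, A.zb]
    have p2 : ρ (z5 ^ 2) b = f := by rw [pow_succ, mul_act, A.zb, map_neg, pow_one, A.zd, neg_neg]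
    have p3 : ρ (z5 ^ 3) b = -e := by
      rw [pow_succ, pow_succ, mul_act, mul_act, A.zb, map_neg, A.zd, neg_neg, pow_one, A.zf]
    have p4 : ρ (z5 ^ 4) b = -c := by
      rw [pow_succ, pow_succ, pow_succ, mul_act, mul_act, mul_act, A.zb, map_neg, A.zd, neg_neg, A.zf, pow_one,
        map_neg, A.ze]
    have p0 : ρ (z5 ^ 0) b = b := by rw [pow_zero, map_one]; rfl
    show (ρ (z5 ^ 0) b - ρ (z5 ^ 0 * v0) b) + (ρ (z5 ^ 1) b - ρ (z5 ^ 1 * v0) b) +
      (ρ (z5 ^ 2) b - ρ (z5 ^ 2 * v0) b) + (ρ (z5 ^ 3) b - ρ (z5 ^ 3 * v0) b) +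
      (ρ (z5 ^ 4) b - ρ (z5 ^ 4 * v0) b) = _
    simp only [mul_act, A.pb, map_neg, p0, p1, p2, p3, p4]
    linear_combination (norm := module) (-2 : F) • hS
  have hμ := trace_of_line hx0 T (fun v => by rw [hT]; exact hline _) hTx
  have hsum : LinearMap.trace F V T = 2 * LinearMap.trace F V (ρ (z5 * z5)) - 2 * LinearMap.trace F V (ρ z5) := by
    show LinearMap.trace F V (∑ k : Fin 5, (ρ (z5 ^ (k : ℕ) * v1) - ρ (z5 ^ (k : ℕ) * v0 * v1))) = _
    rw [map_sum, Fin.sum_univ_five]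
    simp only [map_sub]
    have t0 : LinearMap.trace F V (ρ (z5 ^ 0 * v0 * v1)) = LinearMap.trace F V (ρ (z5 ^ 0 * v1)) :=
      trace_conj ρ (by decide +kernel)
    have t1 : LinearMap.trace F V (ρ (z5 ^ 1 * v1)) = LinearMap.trace F V (ρ (z5 * z5)) :=
      trace_conj ρ (by decide +kernel)
    have t4 : LinearMap.trace F V (ρ (z5 ^ 4 * v1)) = LinearMap.trace F V (ρ (z5 * z5)) :=
      trace_conj ρ (by decide +kernel)
    have s2 : LinearMap.trace F V (ρ (z5 ^ 2 * v0 * v1)) = LinearMap.trace F V (ρ z5) :=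
      trace_conj ρ (by decide +kernel)
    have s3 : LinearMap.trace F V (ρ (z5 ^ 3 * v0 * v1)) = LinearMap.trace F V (ρ z5) :=
      trace_conj ρ (by decide +kernel)
    have t2 : LinearMap.trace F V (ρ (z5 ^ 2 * v1)) = LinearMap.trace F V (ρ c3) :=
      trace_conj ρ (by decide +kernel)
    have t3 : LinearMap.trace F V (ρ (z5 ^ 3 * v1)) = LinearMap.trace F V (ρ c3) :=
      trace_conj ρ (by decide +kernel)
    have s1 : LinearMap.trace F V (ρ (z5 ^ 1 * v0 * v1)) = LinearMap.trace F V (ρ c3) :=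
      trace_conj ρ (by decide +kernel)
    have s4 : LinearMap.trace F V (ρ (z5 ^ 4 * v0 * v1)) = LinearMap.trace F V (ρ c3) :=
      trace_conj ρ (by decide +kernel)
    show (LinearMap.trace F V (ρ (z5 ^ 0 * v1)) - LinearMap.trace F V (ρ (z5 ^ 0 * v0 * v1))) +
      (LinearMap.trace F V (ρ (z5 ^ 1 * v1)) - LinearMap.trace F V (ρ (z5 ^ 1 * v0 * v1))) +
      (LinearMap.trace F V (ρ (z5 ^ 2 * v1)) - LinearMap.trace F V (ρ (z5 ^ 2 * v0 * v1))) +
      (LinearMap.trace F V (ρ (z5 ^ 3 * v1)) - LinearMap.trace F V (ρ (z5 ^ 3 * v0 * v1))) +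
      (LinearMap.trace F V (ρ (z5 ^ 4 * v1)) - LinearMap.trace F V (ρ (z5 ^ 4 * v0 * v1))) = _
    rw [t0, t1, t2, t3, t4, s1, s2, s3, s4]
    ring
  rw [hsum] at hμ
  have h3 : (2 : F) * (LinearMap.trace F V (ρ z5) - LinearMap.trace F V (ρ (z5 * z5))) = 2 * (2 * t - 1) := by
    linear_combination -hμ
  exact mul_left_cancel₀ h2 h3

end

end Cfsg.Agent.H952.F4.Spec
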