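import Mathlib
import Cfsg.Agent.H952.F4.Defs

/-!
# S5926, task F-F1: fixed spaces of elements of order prime to the characteristic (helper803)
-/

set_option autoImplicit false

namespace Cfsg.Agent.H952.F4.FixEv

open Module

variable {F V : Type*} [Field F] [AddCommGroup V] [Module F V]

theorem mem_es1 (T : Module.End F V) (v : V) : v ∈ T.eigenspace 1 ↔ T v = v := by
  rw [Module.End.mem_eigenspace_iff, one_smul]

/-- the average of the powers of `T` -/
noncomputable def av (T : Module.End F V) (n : ℕ) (v : V) : V := (n : F)⁻¹ • ∑ i ∈ Finset.range n, (T ^ i) v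

theorem av_fixed {T : Module.End F V} {n : ℕ} (hT : T ^ n = 1) (v : V) : T (av T n v) = av T n v := by
  unfold av
  rw [map_smul, map_sum]
  congr 1
  have h1 : ∑ i ∈ Finset.range n, T ((T ^ i) v) = ∑ i ∈ Finset.range n, (T ^ (i + 1)) v :=
    Finset.sum_congr rfl fun i _ => by rw [pow_succ', Module.End.mul_apply]
  rw [h1]
  have h2 := Finset.sum_range_succ (fun i => (T ^ i) v) n
  have h3 := Finset.sum_range_succ' (fun i => (T ^ i) v) n
  rw [h2] at h3
  rw [hT, pow_zero] at h3
  exact (add_right_cancel h3).symm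

theorem av_eq {W : Type*} [AddCommGroup W] [Module F W] {T : Module.End F V} {n : ℕ} (hn : (n : F) ≠ 0)
    (f : V →ₗ[F] W) {S : Module.End F W} (hf : ∀ v, f (T v) = S (f v)) {v : V} (hv : S (f v) = f v) :
    f (av T n v) = f v := by
  have h1 : ∀ i : ℕ, f ((T ^ i) v) = f v := by
    intro i
    induction i with
    | zero => rw [pow_zero, Module.End.one_apply]
    | succ i ih => rw [pow_succ', Module.End.mul_apply, hf, ih, hv]
  unfold av
  rw [map_smul, map_sum, Finset.sum_congr rfl fun i _ => h1 i, Finset.sum_const, Finset.card_range,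
    ← Nat.cast_smul_eq_nsmul F, smul_smul, inv_mul_cancel₀ hn, one_smul]

variable [FiniteDimensional F V]

omit [FiniteDimensional F V] in
theorem finrank_es_restrict {T : Module.End F V} {W : Submodule F V} (hW : W ≤ W.comap T) :
    ev (T.restrict hW) 1 = finrank F ↥(T.eigenspace 1 ⊓ W) := by
  unfold ev
  rw [← Submodule.finrank_map_subtype_eq W]
  have : Submodule.map W.subtype (Module.End.eigenspace (T.restrict hW) 1) = T.eigenspace 1 ⊓ W := by
    ext v
    rw [Submodule.mem_map, Submodule.mem_inf, mem_es1]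
    constructor
    · rintro ⟨w, hw, rfl⟩
      exact ⟨congrArg Subtype.val ((mem_es1 _ _).1 hw), w.2⟩
    · rintro ⟨h1, h2⟩
      exact ⟨⟨v, h2⟩, (mem_es1 _ _).2 (Subtype.ext h1), rfl⟩
  rw [this]

/-- exactness of the fixed spaces -/
theorem ev_map {W : Type*} [AddCommGroup W] [Module F W] [FiniteDimensional F W] {T : Module.End F V} {n : ℕ}
    (hn : (n : F) ≠ 0) (hT : T ^ n = 1) (f : V →ₗ[F] W) (hfs : Function.Surjective f) {S : Module.End F W}
    (hf : ∀ v, f (T v) = S (f v)) :
    ev T 1 = ev S 1 + finrank F ↥(T.eigenspace 1 ⊓ LinearMap.ker f) := by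
  have hmap : ∀ v ∈ T.eigenspace 1, f v ∈ S.eigenspace 1 := by
    intro v hv
    rw [mem_es1] at hv ⊢
    rw [← hf, hv]
  let φ : ↥(T.eigenspace 1) →ₗ[F] ↥(S.eigenspace 1) := f.restrict hmap
  have h1 : LinearMap.range φ = ⊤ := by
    rw [LinearMap.range_eq_top]
    rintro ⟨w, hw⟩
    obtain ⟨v, rfl⟩ := hfs w
    rw [mem_es1] at hw
    exact ⟨⟨av T n v, (mem_es1 T _).2 (av_fixed hT v)⟩, Subtype.ext (av_eq hn f hf hw)⟩
  have h2 := LinearMap.finrank_range_add_finrank_ker φ
  rw [h1, finrank_top] at h2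
  have h3 : finrank F ↥(LinearMap.ker φ) = finrank F ↥(T.eigenspace 1 ⊓ LinearMap.ker f) := by
    rw [← Submodule.finrank_map_subtype_eq (T.eigenspace 1)]
    have : Submodule.map (T.eigenspace 1).subtype (LinearMap.ker φ) = T.eigenspace 1 ⊓ LinearMap.ker f := by
      ext v
      rw [Submodule.mem_map, Submodule.mem_inf]
      constructor
      · rintro ⟨w, hw, rfl⟩
        exact ⟨w.2, congrArg Subtype.val (LinearMap.mem_ker.1 hw)⟩
      · rintro ⟨h1, h2⟩
        exact ⟨⟨v, h1⟩, Subtype.ext h2, rfl⟩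
    rw [this]
  unfold ev
  rw [← h2, h3]

/-- the kernel of an invariant linear form -/
theorem ev_ker {T : Module.End F V} {n : ℕ} (hn : (n : F) ≠ 0) (hT : T ^ n = 1) (f : V →ₗ[F] F) (hf0 : f ≠ 0)
    (hf : ∀ v, f (T v) = f v) (hW : LinearMap.ker f ≤ (LinearMap.ker f).comap T) :
    ev T 1 = ev (T.restrict hW) 1 + 1 := by
  have hs : Function.Surjective f := LinearMap.surjective hf0
  have h := ev_map hn hT f hs (S := (1 : Module.End F F)) (fun v => by rw [hf, Module.End.one_apply])
  rw [h, finrank_es_restrict hW, add_comm]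
  congr 1
  have : (1 : Module.End F F).eigenspace 1 = ⊤ := by
    rw [eq_top_iff]
    intro x _
    rw [mem_es1, Module.End.one_apply]
  unfold ev
  rw [this, finrank_top, finrank_self]

/-- the quotient by a fixed line -/
theorem ev_quot {T : Module.End F V} {n : ℕ} (hn : (n : F) ≠ 0) (hT : T ^ n = 1) {u : V} (hu : u ≠ 0) (hTu : T u = u)
    (hW : Submodule.span F {u} ≤ (Submodule.span F {u}).comap T) :
    ev T 1 = ev (Submodule.mapQ (Submodule.span F {u}) (Submodule.span F {u}) T hW) 1 + 1 := by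
  have h := ev_map hn hT (Submodule.span F {u}).mkQ (Submodule.mkQ_surjective _)
    (S := Submodule.mapQ (Submodule.span F {u}) (Submodule.span F {u}) T hW) (fun v => rfl)
  rw [h, Submodule.ker_mkQ]
  congr 1
  have : T.eigenspace 1 ⊓ Submodule.span F {u} = Submodule.span F {u} := by
    rw [inf_eq_right, Submodule.span_singleton_le_iff_mem, mem_es1]
    exact hTu
  rw [this, finrank_span_singleton hu]

end Cfsg.Agent.H952.F4.FixEv
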