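import Mathlib
import Cfsg.Agent.H952.F4.Defs2
import Cfsg.Agent.ChevalleyStructure.CorootGcd

/-!
# S5926, task F-F1: the invariants of the adjoint module of `F₄` and of its dual (helper803)
-/

set_option autoImplicit false

namespace Cfsg.Agent.H952.F4.FixL

open Cfsg Cfsg.Lie Module
open Cfsg.Agent.ChevalleyStructure Cfsg.Agent.ChevalleyStructure.Elts
open scoped Matrix

universe u

variable {K : Type u} [Field K]

theorem LK_apply (g : ↥(chevF4.group K)) (v : chevF4.Idx → K) :
    LK K g v = (((g : GL chevF4.Idx K) : Matrix chevF4.Idx chevF4.Idx K)) *ᵥ v := rfl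

/-- the root element `x_r(t)` as an element of the group -/
noncomputable def xg (r : Fin chevF4.nroots) (t : K) : ↥(chevF4.group K) :=
  ⟨xG hF4 r.val t, Subgroup.subset_closure ⟨r, t, by rw [coe_xG, x_of_lt r.isLt]⟩⟩

theorem coe_xg (r : Fin chevF4.nroots) (t : K) :
    (((xg r t : ↥(chevF4.group K)) : GL chevF4.Idx K) : Matrix chevF4.Idx chevF4.Idx K) = chevF4.xMat K r t := by
  show ((xG hF4 r.val t : GL chevF4.Idx K) : Matrix chevF4.Idx chevF4.Idx K) = _
  rw [coe_xG, x_of_lt r.isLt]

/-- the index of the negative -/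
def ng (r : Fin chevF4.nroots) : Fin chevF4.nroots := ⟨chevF4.nroots - 1 - r.val, by
  have : 0 < chevF4.nroots := by decide
  omega⟩

theorem ng_val (r : Fin chevF4.nroots) : (ng r).val = chevF4.negIdx.getD r.val 0 :=
  (CorootGcd.neg_eq hF4 r.isLt).symm

theorem ng_ng (r : Fin chevF4.nroots) : ng (ng r) = r := by
  apply Fin.ext
  show chevF4.nroots - 1 - (chevF4.nroots - 1 - r.val) = r.val
  have := r.isLt
  omega

theorem ng_ne (r : Fin chevF4.nroots) : ng r ≠ r := by
  revert r
  decide

/-- the coefficient `c_i(r)` of the coroot -/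
def co (r : Fin chevF4.nroots) (i : Fin chevF4.rank) : ℤ := (chevF4.coroot.getD r.val #[]).getD i.val 0

/-- the Cartan integer `A_{i,r}` -/
def ca (i : Fin chevF4.rank) (r : Fin chevF4.nroots) : ℤ := (chevF4.cartanSR.getD i.val #[]).getD r.val 0

theorem xMat_ll (r : Fin chevF4.nroots) (t : K) (i' i : Fin chevF4.rank) :
    chevF4.xMat K r t (Sum.inl i') (Sum.inl i) = if i' = i then 1 else 0 := rfl

theorem xMat_rl (r : Fin chevF4.nroots) (t : K) (s : Fin chevF4.nroots) (i : Fin chevF4.rank) :
    chevF4.xMat K r t (Sum.inr s) (Sum.inl i) = if s = r then -((ca i r : ℤ) : K) * t else 0 := rfl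

theorem xMat_lr (r : Fin chevF4.nroots) (t : K) (i : Fin chevF4.rank) (s : Fin chevF4.nroots) :
    chevF4.xMat K r t (Sum.inl i) (Sum.inr s) = if s = ng r then ((co r i : ℤ) : K) * t else 0 := by
  show (if s = r then (0 : K) else if s.val = chevF4.negIdx.getD r.val 0 then ((co r i : ℤ) : K) * t else 0) = _
  rw [← ng_val]
  by_cases h1 : s = r
  · rw [if_pos h1, if_neg fun h => ng_ne r (h.symm.trans h1)]
  · rw [if_neg h1]
    by_cases h2 : s = ng r
    · rw [if_pos h2, if_pos (by rw [h2])]
    · rw [if_neg h2, if_neg fun h => h2 (Fin.ext h)]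

theorem exists_co (r : Fin chevF4.nroots) : ∃ i : Fin chevF4.rank, ((co r i : ℤ) : K) ≠ 0 :=
  CorootGcd.exists_coroot_ne_zero hF4 r.isLt

/-- the simple roots -/
def sim (j : Fin 4) : Fin chevF4.nroots :=
  ⟨![33, 27, 25, 24] j, by revert j; show ∀ j, ![33, 27, 25, 24] j < 48; decide⟩

theorem ca_sim : ∀ (i j : Fin 4), ca (show Fin chevF4.rank from i) (sim j) =
    ![![2, -1, 0, 0], ![-1, 2, -2, 0], ![0, -1, 2, -1], ![0, 0, -1, 2]] i j := by
  decide

theorem co_sim : ∀ (i j : Fin 4), co (sim j) (show Fin chevF4.rank from i) = if i = j then 1 else 0 := by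
  decide

/-- no vector of the adjoint module is fixed by all root elements -/
theorem eq_zero_of_fixed (v : chevF4.Idx → K) (hv : ∀ r : Fin chevF4.nroots, chevF4.xMat K r 1 *ᵥ v = v) : v = 0 := by
  have h1 : ∀ s : Fin chevF4.nroots, v (Sum.inr s) = 0 := by
    intro s
    obtain ⟨i, hi⟩ := exists_co (K := K) (ng s)
    have h := congrFun (hv (ng s)) (Sum.inl i)
    simp only [Matrix.mulVec, dotProduct, Fintype.sum_sum_type, xMat_ll, xMat_lr, ite_mul, one_mul, zero_mul,
      Finset.sum_ite_eq, Finset.sum_ite_eq', Finset.mem_univ, if_true, ng_ng, mul_one] at h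
    have h2 : ((co (ng s) i : ℤ) : K) * v (Sum.inr s) = 0 := by
      linear_combination h
    exact (mul_eq_zero.1 h2).resolve_left hi
  have h2 : ∀ r : Fin chevF4.nroots, ∑ i : Fin chevF4.rank, ((ca i r : ℤ) : K) * v (Sum.inl i) = 0 := by
    intro r
    have h := congrFun (hv r) (Sum.inr r)
    simp only [Matrix.mulVec, dotProduct, Fintype.sum_sum_type, xMat_rl, if_true, h1, mul_zero,
      Finset.sum_const_zero, add_zero, mul_one, neg_mul, Finset.sum_neg_distrib, neg_eq_zero] at h
    exact h
  have h3 : ∀ i : Fin 4, v (Sum.inl (show Fin chevF4.rank from i)) = 0 := by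
    have e : ∀ j : Fin 4, ∑ i : Fin 4, ((ca (show Fin chevF4.rank from i) (sim j) : ℤ) : K) *
        v (Sum.inl (show Fin chevF4.rank from i)) = 0 := fun j => h2 (sim j)
    simp only [ca_sim] at e
    have e0 := e 0
    have e1 := e 1
    have e2 := e 2
    have e3 := e 3
    simp [Fin.sum_univ_four] at e0 e1 e2 e3
    intro i
    fin_cases i
    · show v (Sum.inl (show Fin chevF4.rank from (0 : Fin 4))) = 0
      linear_combination 2 * e0 + 3 * e1 + 2 * e2 + e3
    · show v (Sum.inl (show Fin chevF4.rank from (1 : Fin 4))) = 0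
      linear_combination 3 * e0 + 6 * e1 + 4 * e2 + 2 * e3
    · show v (Sum.inl (show Fin chevF4.rank from (2 : Fin 4))) = 0
      linear_combination 4 * e0 + 8 * e1 + 6 * e2 + 3 * e3
    · show v (Sum.inl (show Fin chevF4.rank from (3 : Fin 4))) = 0
      linear_combination 2 * e0 + 4 * e1 + 3 * e2 + 2 * e3
  funext x
  rcases x with i | s
  · exact h3 i
  · exact h1 s

/-- the invariants of the adjoint module -/
theorem inv_L (K : Type u) [Field K] : (LK K).invariants = ⊥ := by
  rw [eq_bot_iff]
  intro v hv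
  rw [Submodule.mem_bot]
  refine eq_zero_of_fixed v fun r => ?_
  have h := (Representation.mem_invariants _ v).1 hv (xg r 1)
  rw [LK_apply, coe_xg] at h
  exact h

theorem exists_ca (r : Fin chevF4.nroots) : ∃ i : Fin chevF4.rank, ((ca i r : ℤ) : K) ≠ 0 := by
  have key : ∀ r : Fin chevF4.nroots, ∃ i : Fin chevF4.rank, ca i r = 1 ∨ ca i r = -1 := by
    decide
  obtain ⟨i, h | h⟩ := key r
  · exact ⟨i, by rw [h, Int.cast_one]; exact one_ne_zero⟩
  · exact ⟨i, by rw [h, Int.cast_neg, Int.cast_one]; exact neg_ne_zero.2 one_ne_zero⟩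

/-- no linear form on the adjoint module is fixed by all root elements -/
theorem eq_zero_of_dual_fixed (f : (chevF4.Idx → K) →ₗ[K] K)
    (hf : ∀ (r : Fin chevF4.nroots) (v : chevF4.Idx → K), f (chevF4.xMat K r 1 *ᵥ v) = f v) : f = 0 := by
  set w : chevF4.Idx → K := fun j => f (Pi.single j 1) with hw
  have hfw : ∀ v : chevF4.Idx → K, f v = ∑ j, v j * w j := by
    intro v
    conv_lhs => rw [pi_eq_sum_univ' v]
    rw [map_sum]
    refine Finset.sum_congr rfl fun j _ => ?_
    rw [map_smul, smul_eq_mul]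
  have hcol : ∀ (r : Fin chevF4.nroots) (j : chevF4.Idx), ∑ i, chevF4.xMat K r 1 i j * w i = w j := by
    intro r j
    have h := hf r (Pi.single j 1)
    rw [hfw (_ *ᵥ _)] at h
    refine Eq.trans (Finset.sum_congr rfl fun i _ => ?_) h
    rw [Matrix.mulVec_single_one]
    rfl
  have h1 : ∀ s : Fin chevF4.nroots, w (Sum.inr s) = 0 := by
    intro s
    obtain ⟨i, hi⟩ := exists_ca (K := K) s
    have h := hcol s (Sum.inl i)
    simp only [Fintype.sum_sum_type, xMat_ll, xMat_rl, ite_mul, one_mul, zero_mul,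
      Finset.sum_ite_eq', Finset.mem_univ, if_true, mul_one] at h
    have h2 : ((ca i s : ℤ) : K) * w (Sum.inr s) = 0 := by
      linear_combination -h
    exact (mul_eq_zero.1 h2).resolve_left hi
  have h2 : ∀ r : Fin chevF4.nroots, ∑ i : Fin chevF4.rank, ((co r i : ℤ) : K) * w (Sum.inl i) = 0 := by
    intro r
    have h := hcol r (Sum.inr (ng r))
    simp only [Fintype.sum_sum_type, xMat_lr, if_true, h1, mul_zero,
      Finset.sum_const_zero, add_zero, mul_one] at h
    exact h
  have h3 : ∀ i : Fin 4, w (Sum.inl (show Fin chevF4.rank from i)) = 0 := by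
    have e : ∀ j : Fin 4, ∑ i : Fin 4, ((co (sim j) (show Fin chevF4.rank from i) : ℤ) : K) *
        w (Sum.inl (show Fin chevF4.rank from i)) = 0 := fun j => h2 (sim j)
    simp only [co_sim] at e
    intro j
    have := e j
    simpa using this
  ext j
  show f (Pi.single j 1) = 0
  rcases j with i | s
  · exact h3 i
  · exact h1 s

/-- the invariants of the dual of the adjoint module -/
theorem inv_L_dual (K : Type u) [Field K] : (LK K).dual.invariants = ⊥ := by
  rw [eq_bot_iff]
  intro f hf
  rw [Submodule.mem_bot]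
  refine eq_zero_of_dual_fixed f fun r v => ?_
  have h := (Representation.mem_invariants _ f).1 hf (xg r 1)⁻¹
  have h' := LinearMap.congr_fun h v
  rw [Representation.dual_apply, inv_inv] at h'
  rw [← coe_xg, ← LK_apply]
  exact h'

end Cfsg.Agent.H952.F4.FixL

namespace Cfsg.Agent.H952.F4.Fix

universe u

/-- the invariants of the adjoint module -/
theorem L_invariants (K : Type u) [Field K] : (LK K).invariants = ⊥ := FixL.inv_L K

/-- the invariants of the dual of the adjoint module -/
theorem L_dual_invariants (K : Type u) [Field K] : (LK K).dual.invariants = ⊥ := FixL.inv_L_dual K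

end Cfsg.Agent.H952.F4.Fix
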