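import Mathlib
import Cfsg.Agent.H952.F4.Defs2
import Cfsg.Agent.H952.F4.FixEv
import Cfsg.Agent.H952.F4.FixL
import Cfsg.Agent.H952.F4.Jord

/-!
# S5926, task F-F1: the modules `V₂₆` (`p ≥ 5`) and `V₂₅` (`p = 3`) of `F₄` (helper803)
-/

set_option autoImplicit false

namespace Cfsg.Agent.H952.F4.FixV

open Cfsg Cfsg.Lie Module
open Cfsg.Agent.ChevalleyStructure Cfsg.Agent.ChevalleyStructure.Elts
open Cfsg.Agent.ChevalleyStructure.E6Min.Tables Cfsg.Agent.ChevalleyStructure.E6Min.Basic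
open scoped Matrix

universe u

/-! ### fixed vectors -/

/-- for every code of a non-zero weight: a long root of `F₄` and a row -/
def tb : List (ℕ × ℕ) :=
  [(0, 0), (2, 15), (0, 25), (4, 15), (0, 0), (0, 24), (30, 25), (25, 24), (0, 0), (15, 7), (1, 7), (0, 7), (15, 6),
   (1, 6), (0, 6), (41, 16), (6, 15), (5, 15), (4, 7), (2, 6), (0, 16), (21, 7), (16, 6), (0, 15), (22, 7), (17, 6),
   (1, 15)]

/-- is this the code of a zero weight? -/
def zw (c : ℕ) : Bool := c == 0 || c == 4 || c == 8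

/-- the check of `tb` -/
def chk (c : ℕ) : Bool :=
  match dat.getD (tb.getD c (0, 0)).1 [] with
  | [(a, e)] => (e == 1 || e == -1) && decide ((tb.getD c (0, 0)).1 < 48) && decide ((tb.getD c (0, 0)).2 < 27) &&
      ! zw (tb.getD c (0, 0)).2 && (sgN a (tb.getD c (0, 0)).2 == 1 || sgN a (tb.getD c (0, 0)).2 == -1) &&
      srN a (tb.getD c (0, 0)).2 == c
  | _ => false

theorem chk_all : ∀ c : Fin 27, zw c.val = true ∨ chk c.val = true := by decide +kernel

theorem not_diag : ∀ j : I27, zw (code j) = false → ¬ (j.1 = 0 ∧ j.2.1 = j.2.2) := by decide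

variable {F : Type u} [Field F]

theorem yM_single {r a : ℕ} {e : ℤ} (h : dat.getD r [] = [(a, e)]) (t : F) : yM r t = zM a ((e : F) * t) := by
  unfold yM
  rw [h]
  simp

theorem yM_pair {r a b : ℕ} {e f : ℤ} (h : dat.getD r [] = [(a, e), (b, f)]) (t : F) :
    yM r t = zM a ((e : F) * t) * zM b ((f : F) * t) := by
  unfold yM
  rw [h]
  simp

/-- a vector whose coordinates of non-zero weight are fixed by all root elements is a multiple of the unit -/
theorem eq_smul_u0 (x : I27 → F) (h : ∀ r < 48, ∀ j : I27, zw (code j) = false → (yM r (1 : F) *ᵥ x) j = x j) :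
    x = x (0, 0, 0) • u0 F := by
  have h1 : ∀ j : I27, zw (code j) = false → x j = 0 := by
    intro m hm
    rcases chk_all ⟨code m, code_lt m⟩ with h2 | h2
    · exact absurd h2 (by simp only [hm]; decide)
    · unfold chk at h2
      simp only at h2
      split at h2
      · rename_i a e he
        simp only [Bool.and_eq_true, Bool.or_eq_true, beq_iff_eq, decide_eq_true_eq, Bool.not_eq_true'] at h2
        obtain ⟨⟨⟨⟨⟨h3, h4⟩, h5⟩, h6⟩, h7⟩, h8⟩ := h2
        have h9 := h _ h4 (dec (tb.getD (code m) (0, 0)).2) (by rw [code_dec h5]; exact h6)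
        rw [yM_single he, zM_mulVec] at h9
        have h10 : sr a (dec (tb.getD (code m) (0, 0)).2) = m := by
          unfold sr
          rw [code_dec h5, h8, dec_code]
        have h11 : sg a (dec (tb.getD (code m) (0, 0)).2) = 1 ∨ sg a (dec (tb.getD (code m) (0, 0)).2) = -1 := by
          unfold sg
          rw [code_dec h5]
          exact h7
        rw [h10] at h9
        have h12 : ((e : F) * 1) * (((sg a (dec (tb.getD (code m) (0, 0)).2) : ℤ) : F) * x m) = 0 := by
          linear_combination h9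
        rcases h3 with h3 | h3 <;> rcases h11 with h11 | h11 <;> rw [h3, h11] at h12 <;> simpa using h12
      · exact absurd h2 (by decide)
  have h2 : x (0, 0, 0) = x (0, 1, 1) := by
    have h3 := h 3 (by decide) (1, 2, 0) (by decide)
    rw [yM_pair (r := 3) (a := 54) (b := 64) (e := 1) (f := 1) rfl, ← Matrix.mulVec_mulVec, zM_mulVec, zM_mulVec,
      zM_mulVec, (by decide +kernel : sg 54 (1, 2, 0) = 1), (by decide +kernel : sr 54 (1, 2, 0) = (0, 0, 0)),
      (by decide +kernel : sg 64 (1, 2, 0) = -1), (by decide +kernel : sr 64 (1, 2, 0) = (0, 1, 1)),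
      (by decide +kernel : sr 64 (0, 0, 0) = (2, 0, 2)), h1 (2, 0, 2) (by decide)] at h3
    push_cast at h3
    linear_combination h3
  have h3 : x (0, 0, 0) = x (0, 2, 2) := by
    have h3 := h 7 (by decide) (0, 2, 0) (by decide)
    rw [yM_pair (r := 7) (a := 14) (b := 33) (e := -1) (f := 1) rfl, ← Matrix.mulVec_mulVec, zM_mulVec, zM_mulVec,
      zM_mulVec, (by decide +kernel : sg 14 (0, 2, 0) = -1), (by decide +kernel : sr 14 (0, 2, 0) = (0, 0, 0)),
      (by decide +kernel : sg 33 (0, 2, 0) = -1), (by decide +kernel : sr 33 (0, 2, 0) = (0, 2, 2)),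
      (by decide +kernel : sr 33 (0, 0, 0) = (0, 0, 2)), h1 (0, 0, 2) (by decide)] at h3
    push_cast at h3
    linear_combination h3
  funext j
  by_cases hj : zw (code j) = true
  · have : j = (0, 0, 0) ∨ j = (0, 1, 1) ∨ j = (0, 2, 2) := by
      revert hj
      revert j
      decide
    rcases this with rfl | rfl | rfl
    · simp [u0]
    · simp [u0, h2]
    · simp [u0, h3]
  · rw [Bool.not_eq_true] at hj
    rw [h1 j hj]
    have := not_diag j hj
    simp [u0, this]

/-! ### the linear form and the bilinear form -/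

open Cfsg.Agent.H952.F4.Jord

theorem neg_eq_smul (x : I27 → F) : -x = (-1 : F) • x := (neg_one_smul F x).symm

theorem tr1_sub (x y : I27 → F) : tr1 (x - y) = tr1 x - tr1 y := by
  rw [sub_eq_add_neg, tr1_add, neg_eq_smul, tr1_smul]
  ring

theorem tf_sub_left (x x' y : I27 → F) : tf (x - x') y = tf x y - tf x' y := by
  rw [sub_eq_add_neg, tf_add_left, neg_eq_smul, tf_smul_left]
  ring

theorem tf_sub_right (x y y' : I27 → F) : tf x (y - y') = tf x y - tf x y' := by
  rw [tf_comm, tf_sub_left, tf_comm y, tf_comm y']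

/-- the trace as a linear map -/
def trL (F : Type u) [Field F] : (I27 → F) →ₗ[F] F where
  toFun := tr1
  map_add' := tr1_add
  map_smul' c x := by rw [tr1_smul, RingHom.id_apply, smul_eq_mul]

theorem trL_apply (x : I27 → F) : trL F x = tr1 x := rfl

theorem tr1_eq (x : I27 → F) : tr1 x = x (0, 0, 0) + x (0, 1, 1) + x (0, 2, 2) := by
  simp [tr1, mat3, Matrix.trace, Fin.sum_univ_three]

theorem exists_tr1_one : ∃ y : I27 → F, tr1 y = 1 := by
  refine ⟨Pi.single (0, 0, 0) 1, ?_⟩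
  rw [tr1_eq]
  simp

theorem trL_ne_zero : trL F ≠ 0 := by
  obtain ⟨y, hy⟩ := exists_tr1_one (F := F)
  intro h
  have := LinearMap.congr_fun h y
  rw [trL_apply, hy] at this
  exact one_ne_zero this

theorem u0_ne_zero : u0 F ≠ 0 := by
  intro h
  have := congrFun h (0, 0, 0)
  simp [u0] at this

/-- the trace form as a bilinear map -/
def tfL (F : Type u) [Field F] : (I27 → F) →ₗ[F] (I27 → F) →ₗ[F] F :=
  LinearMap.mk₂ F tf tf_add_left (fun c x y => by rw [tf_smul_left, smul_eq_mul])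
    (fun x y y' => by rw [tf_comm, tf_add_left, tf_comm y, tf_comm y'])
    (fun c x y => by rw [tf_comm, tf_smul_left, tf_comm y, smul_eq_mul])

theorem tfL_apply (x y : I27 → F) : tfL F x y = tf x y := rfl

/-- the vectors of trace zero -/
abbrev W0 (F : Type u) [Field F] : Submodule F (I27 → F) := LinearMap.ker (trL F)

theorem mem_W0 (x : I27 → F) : x ∈ W0 F ↔ tr1 x = 0 := LinearMap.mem_ker

theorem finrank_W0 : finrank F ↥(W0 F) = 26 := by
  have h := LinearMap.finrank_range_add_finrank_ker (trL F)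
  rw [LinearMap.range_eq_top.2 (LinearMap.surjective trL_ne_zero), finrank_top, finrank_self,
    Module.finrank_fintype_fun_eq_card] at h
  have h27 : Fintype.card I27 = 27 := by decide
  rw [h27] at h
  change 1 + finrank F ↥(W0 F) = 27 at h
  omega

theorem natCast_ne_zero {p : ℕ} [Fact p.Prime] [CharP F p] {n : ℕ} (h : n.Coprime p) : (n : F) ≠ 0 := by
  intro h0
  rw [CharP.cast_eq_zero_iff F p] at h0
  exact (Fact.out : p.Prime).one_lt.ne' (Nat.eq_one_of_dvd_coprimes h h0 dvd_rfl)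

section rep

variable {ρ : ↥(chevF4.group F) →* GL I27 F}

theorem JK_apply (ρ : ↥(chevF4.group F) →* GL I27 F) (g : ↥(chevF4.group F)) (x : I27 → F) :
    JK ρ g x = ((ρ g : GL I27 F) : Matrix I27 I27 F) *ᵥ x := rfl

theorem JK_xg (hρ : IsJ ρ) (r : Fin chevF4.nroots) (t : F) (x : I27 → F) :
    JK ρ (FixL.xg r t) x = yM r.val t *ᵥ x := by
  rw [JK_apply, hρ r t _ (FixL.coe_xg r t)]

theorem JK_pow (g : ↥(chevF4.group F)) : (JK ρ g) ^ orderOf g = 1 := by
  rw [← map_pow, pow_orderOf_eq_one, map_one]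

variable (htr : ∀ g x, tr1 (JK ρ g x) = tr1 x)
include htr

theorem W0_le (g : ↥(chevF4.group F)) : W0 F ≤ (W0 F).comap (JK ρ g) := by
  intro x hx
  rw [Submodule.mem_comap, mem_W0, htr]
  exact (mem_W0 x).1 hx

/-- `V₂₆` -/
theorem exists_V26 (p : ℕ) [Fact p.Prime] [CharP F p] (h3 : (3 : F) ≠ 0) (hρ : IsJ ρ)
    (hu : ∀ g, JK ρ g (u0 F) = u0 F) (htf : ∀ g x y, tf (JK ρ g x) (JK ρ g y) = tf x y) :
    ∃ (V : Type u) (_ : AddCommGroup V) (_ : Module F V) (σ : Representation F ↥(chevF4.group F) V),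
      Mod p 26 1 (JK ρ) σ ∧ ∀ X : Set ↥(chevF4.group F), (∀ v : V, (∀ g ∈ X, σ g v = v) → v = 0) →
        ∀ x : I27 → F, (∀ g ∈ X, JK ρ g x = x) → ∃ c : F, x = c • u0 F := by
  refine ⟨↥(W0 F), inferInstance, inferInstance, (JK ρ).subrepresentation (W0 F) (W0_le htr), ?_, ?_⟩
  · refine ⟨inferInstance, finrank_W0, ⟨(tfL F).compl₁₂ (W0 F).subtype (W0 F).subtype, ?_, ?_⟩, ?_, ?_⟩
    · rintro ⟨v, hv⟩ h
      refine Subtype.ext ?_
      refine tf_nondeg fun y => ?_
      rw [mem_W0] at hv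
      have h1 : tr1 (y - (tr1 y / 3) • u0 F) = 0 := by
        rw [tr1_sub, tr1_smul, tr1_u0]
        field_simp
        ring
      have h2 : tf v (y - (tr1 y / 3) • u0 F) = 0 := h ⟨_, (mem_W0 _).2 h1⟩
      rw [tf_sub_right, tf_smul_right, tf_comm v (u0 F), tf_u0, hv, mul_zero, sub_zero] at h2
      exact h2
    · rintro g ⟨v, hv⟩ ⟨w, hw⟩
      exact htf g v w
    · rw [eq_bot_iff]
      rintro ⟨v, hv⟩ hinv
      rw [Submodule.mem_bot]
      refine Subtype.ext ?_
      show v = 0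
      have h1 := eq_smul_u0 v fun r hr j _ => by
        have h2 := (Representation.mem_invariants _ _).1 hinv (FixL.xg ⟨r, hr⟩ 1)
        have h3 : JK ρ (FixL.xg ⟨r, hr⟩ 1) v = v := congrArg Subtype.val h2
        rw [JK_xg hρ] at h3
        rw [h3]
      rw [mem_W0, h1, tr1_smul, tr1_u0] at hv
      rw [h1, (mul_eq_zero.1 hv).resolve_right h3, zero_smul]
    · intro g hg
      exact FixEv.ev_ker (natCast_ne_zero hg) (JK_pow g) (trL F) trL_ne_zero (fun v => htr g v) (W0_le htr g)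
  · intro X hX x hx
    have h1 : tr1 (x - (tr1 x / 3) • u0 F) = 0 := by
      rw [tr1_sub, tr1_smul, tr1_u0]
      field_simp
      ring
    have h2 := hX ⟨_, (mem_W0 _).2 h1⟩ fun g hg => by
      refine Subtype.ext ?_
      show JK ρ g (x - (tr1 x / 3) • u0 F) = _
      rw [map_sub, map_smul, hx g hg, hu]
    exact ⟨tr1 x / 3, sub_eq_zero.1 (congrArg Subtype.val h2)⟩

/-- `V₂₅`, characteristic 3 -/
theorem exists_V25 [CharP F 3] (hρ : IsJ ρ)
    (hu : ∀ g, JK ρ g (u0 F) = u0 F) (htf : ∀ g x y, tf (JK ρ g x) (JK ρ g y) = tf x y) :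
    ∃ (V : Type u) (_ : AddCommGroup V) (_ : Module F V) (σ : Representation F ↥(chevF4.group F) V),
      Mod 3 25 2 (JK ρ) σ ∧ ∀ X : Set ↥(chevF4.group F), (∀ v : V, (∀ g ∈ X, σ g v = v) → v = 0) →
        ∀ x : I27 → F, tr1 x = 0 → (∀ g ∈ X, JK ρ g x = x) → ∃ c : F, x = c • u0 F := by
  have h30 : (3 : F) = 0 := by
    have := CharP.cast_eq_zero F 3
    exact_mod_cast this
  have : Fact (Nat.Prime 3) := ⟨Nat.prime_three⟩
  have huW : u0 F ∈ W0 F := by rw [mem_W0, tr1_u0, h30]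
  let uW : ↥(W0 F) := ⟨u0 F, huW⟩
  have huW0 : uW ≠ 0 := fun h => u0_ne_zero (congrArg Subtype.val h)
  let U : Submodule F ↥(W0 F) := Submodule.span F {uW}
  let τ : Representation F ↥(chevF4.group F) ↥(W0 F) := (JK ρ).subrepresentation (W0 F) (W0_le htr)
  have hτ : ∀ g (w : ↥(W0 F)), ((τ g w : ↥(W0 F)) : I27 → F) = JK ρ g w := fun g w => rfl
  have hτu : ∀ g, τ g uW = uW := fun g => Subtype.ext (hu g)
  have hU : ∀ g, U ≤ U.comap (τ g) := by
    intro g
    rw [Submodule.span_singleton_le_iff_mem, Submodule.mem_comap, hτu]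
    exact Submodule.mem_span_singleton_self _
  have memU : ∀ w : ↥(W0 F), w ∈ U ↔ ∃ c : F, (w : I27 → F) = c • u0 F := by
    intro w
    rw [Submodule.mem_span_singleton]
    constructor
    · rintro ⟨c, rfl⟩
      exact ⟨c, rfl⟩
    · rintro ⟨c, hc⟩
      exact ⟨c, Subtype.ext hc.symm⟩
  let B0 : ↥(W0 F) →ₗ[F] ↥(W0 F) →ₗ[F] F := (tfL F).compl₁₂ (W0 F).subtype (W0 F).subtype
  have hB0 : ∀ v w : ↥(W0 F), B0 v w = tf (v : I27 → F) w := fun v w => rfl
  have hB0u : U ≤ LinearMap.ker B0 := by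
    rw [Submodule.span_singleton_le_iff_mem, LinearMap.mem_ker]
    refine LinearMap.ext fun w => ?_
    rw [hB0]
    show tf (u0 F) (w : I27 → F) = 0
    rw [tf_u0]
    exact (mem_W0 _).1 w.2
  let C : (↥(W0 F) ⧸ U) →ₗ[F] ↥(W0 F) →ₗ[F] F := U.liftQ B0 hB0u
  have hCu : U ≤ LinearMap.ker C.flip := by
    rw [Submodule.span_singleton_le_iff_mem, LinearMap.mem_ker]
    refine LinearMap.ext fun q => ?_
    obtain ⟨w, rfl⟩ := Submodule.mkQ_surjective _ q
    show tf (w : I27 → F) (u0 F) = 0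
    rw [tf_comm, tf_u0]
    exact (mem_W0 _).1 w.2
  let D : (↥(W0 F) ⧸ U) →ₗ[F] (↥(W0 F) ⧸ U) →ₗ[F] F := U.liftQ C.flip hCu
  have hD : ∀ v w : ↥(W0 F), D (U.mkQ v) (U.mkQ w) = tf (w : I27 → F) v := fun v w => rfl
  refine ⟨↥(W0 F) ⧸ U, inferInstance, inferInstance, τ.quotient U hU, ?_, ?_⟩
  · refine ⟨inferInstance, ?_, ⟨D, ?_, ?_⟩, ?_, ?_⟩
    · have h := Submodule.finrank_quotient_add_finrank U
      rw [finrank_span_singleton huW0, finrank_W0] at h
      omega
    · intro q h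
      obtain ⟨v, rfl⟩ := Submodule.mkQ_surjective _ q
      obtain ⟨y0, hy0⟩ := exists_tr1_one (F := F)
      have h1 : ∀ w : I27 → F, tr1 w = 0 → tf (v : I27 → F) w = 0 := by
        intro w hw
        rw [tf_comm]
        exact h (U.mkQ ⟨w, (mem_W0 w).2 hw⟩)
      have h2 : (v : I27 → F) = tf (v : I27 → F) y0 • u0 F := by
        rw [← sub_eq_zero]
        refine tf_nondeg fun y => ?_
        have h3 := h1 (y - tr1 y • y0) (by rw [tr1_sub, tr1_smul, hy0, mul_one, sub_self])
        rw [tf_sub_right, tf_smul_right] at h3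
        rw [tf_sub_left, tf_smul_left, tf_u0]
        linear_combination h3
      show Submodule.Quotient.mk v = 0
      rw [Submodule.Quotient.mk_eq_zero]
      exact (memU v).2 ⟨_, h2⟩
    · intro g v w
      obtain ⟨v, rfl⟩ := Submodule.mkQ_surjective _ v
      obtain ⟨w, rfl⟩ := Submodule.mkQ_surjective _ w
      exact htf g w v
    · rw [eq_bot_iff]
      intro q hinv
      rw [Submodule.mem_bot]
      obtain ⟨v, rfl⟩ := Submodule.mkQ_surjective _ q
      show Submodule.Quotient.mk v = 0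
      rw [Submodule.Quotient.mk_eq_zero, memU]
      refine ⟨_, eq_smul_u0 (v : I27 → F) fun r hr j hj => ?_⟩
      have h2 := (Representation.mem_invariants _ _).1 hinv (FixL.xg ⟨r, hr⟩ 1)
      have h3 : (Submodule.Quotient.mk (τ (FixL.xg ⟨r, hr⟩ 1) v) : ↥(W0 F) ⧸ U) = Submodule.Quotient.mk v := h2
      rw [Submodule.Quotient.eq, memU] at h3
      obtain ⟨c, hc⟩ := h3
      have h4 := congrFun hc j
      have h5 := not_diag j hj
      have h6 : JK ρ (FixL.xg ⟨r, hr⟩ 1) (v : I27 → F) j - (v : I27 → F) j = c * u0 F j := h4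
      rw [JK_xg hρ] at h6
      have h7 : u0 F j = 0 := by simp [u0, h5]
      rw [h7, mul_zero, sub_eq_zero] at h6
      exact h6
    · intro g hg
      rw [FixEv.ev_ker (natCast_ne_zero hg) (JK_pow g) (trL F) trL_ne_zero (fun v => htr g v) (W0_le htr g)]
      have h1 : τ g ^ orderOf g = 1 := by rw [← map_pow, pow_orderOf_eq_one, map_one]
      have h2 := FixEv.ev_quot (natCast_ne_zero hg) h1 huW0 (hτu g) (hU g)
      show ev (τ g) 1 + 1 = ev ((τ.quotient U hU) g) 1 + 2
      rw [h2]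
      rfl
  · intro X hX x hx0 hx
    have h1 := hX (U.mkQ ⟨x, (mem_W0 x).2 hx0⟩) fun g hg => by
      show U.mkQ (τ g ⟨x, (mem_W0 x).2 hx0⟩) = _
      congr 1
      exact Subtype.ext (hx g hg)
    have h2 : (Submodule.Quotient.mk ⟨x, (mem_W0 x).2 hx0⟩ : ↥(W0 F) ⧸ U) = 0 := h1
    rw [Submodule.Quotient.mk_eq_zero, memU] at h2
    exact h2

end rep

end Cfsg.Agent.H952.F4.FixV
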