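import Mathlib
import Cfsg.Agent.H952.F4.FixV
import Cfsg.Agent.H952.F4.Inv

/-!
# S5926, task F-F1 (helper803): `L_invariants`, `L_dual_invariants` (in `FixL`), `exists_V26`, `exists_V25`
-/

set_option autoImplicit false

namespace Cfsg.Agent.H952.F4.Fix

open Cfsg Cfsg.Lie Module
open Cfsg.Agent.ChevalleyStructure.E6Min.Tables Cfsg.Agent.ChevalleyStructure.E6Min.Basic

universe u

/-- F1: `p ≥ 5`: the trace zero vectors -/
theorem exists_V26 (p : ℕ) [Fact p.Prime] {F : Type u} [Field F] [Finite F] [CharP F p] (hp2 : p ≠ 2) (hp3 : p ≠ 3)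
    {ρ : ↥(chevF4.group F) →* GL I27 F} (hρ : IsJ ρ) :
    ∃ (V : Type u) (_ : AddCommGroup V) (_ : Module F V) (σ : Representation F ↥(chevF4.group F) V),
      Mod p 26 1 (JK ρ) σ ∧ ∀ X : Set ↥(chevF4.group F), (∀ v : V, (∀ g ∈ X, σ g v = v) → v = 0) →
        ∀ x : I27 → F, (∀ g ∈ X, JK ρ g x = x) → ∃ c : F, x = c • u0 F := by
  have h2 : (2 : F) ≠ 0 := by
    intro h
    have h' : ((2 : ℕ) : F) = 0 := by exact_mod_cast h
    rw [CharP.cast_eq_zero_iff F p, Nat.prime_dvd_prime_iff_eq Fact.out Nat.prime_two] at h'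
    exact hp2 h'
  have h3 : (3 : F) ≠ 0 := by
    intro h
    have h' : ((3 : ℕ) : F) = 0 := by exact_mod_cast h
    rw [CharP.cast_eq_zero_iff F p, Nat.prime_dvd_prime_iff_eq Fact.out Nat.prime_three] at h'
    exact hp3 h'
  exact FixV.exists_V26 (fun g x => Inv.tr1_inv hρ h2 g x) p h3 hρ (fun g => Inv.u0_inv hρ g)
    (fun g x y => Inv.tf_inv hρ h2 g x y)

/-- F2: `p = 3`: the trace zero vectors modulo the unit -/
theorem exists_V25 {F : Type u} [Field F] [Finite F] [CharP F 3] {ρ : ↥(chevF4.group F) →* GL I27 F} (hρ : IsJ ρ) :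
    ∃ (V : Type u) (_ : AddCommGroup V) (_ : Module F V) (σ : Representation F ↥(chevF4.group F) V),
      Mod 3 25 2 (JK ρ) σ ∧ ∀ X : Set ↥(chevF4.group F), (∀ v : V, (∀ g ∈ X, σ g v = v) → v = 0) →
        ∀ x : I27 → F, tr1 x = 0 → (∀ g ∈ X, JK ρ g x = x) → ∃ c : F, x = c • u0 F := by
  have h2 : (2 : F) ≠ 0 := by
    intro h
    have h' : ((2 : ℕ) : F) = 0 := by exact_mod_cast h
    rw [CharP.cast_eq_zero_iff F 3] at h'
    omega
  exact FixV.exists_V25 (fun g x => Inv.tr1_inv hρ h2 g x) hρ (fun g => Inv.u0_inv hρ g)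
    (fun g x y => Inv.tf_inv hρ h2 g x y)

end Cfsg.Agent.H952.F4.Fix
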