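import Cfsg.Agent.H450.F4.CoreA
import Cfsg.Agent.H952.F4.Tab
import Cfsg.Agent.H952.F4.Inv
import Cfsg.Agent.H952.F4.Jord
import Cfsg.Agent.H952.F4.Chg
import Cfsg.Agent.H952.F4.JMod
import Cfsg.Agent.GpExc.Field
import Cfsg.Agent.H944.TorAnyChev
import Cfsg.Agent.H944.RootVals

/-!
# S5926, task F-K1: the 7-elements of `A₇ < F₄` in characteristic 5
-/

set_option autoImplicit false

namespace Cfsg.Agent.H952.F4.NoSeven

open Cfsg Cfsg.Lie Module
open Cfsg.Agent.H450.F4
open Cfsg.Agent.ChevalleyStructure.E6Min.Tables Cfsg.Agent.ChevalleyStructure.E6Min.Basic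
open Cfsg.Agent.GpExc.Field (emb emb_injective)
open Cfsg.Agent.BpExc.TorAll Cfsg.Agent.BpExc.TorChev

universe u

theorem finrank_L (K : Type u) [Field K] : finrank K (chevF4.Idx → K) = 52 := by
  rw [Module.finrank_fintype_fun_eq_card]
  decide

theorem finrank_J (K : Type u) [Field K] : finrank K (I27 → K) = 27 := by
  rw [Module.finrank_fintype_fun_eq_card]
  decide

theorem u0_ne (K : Type u) [Field K] : u0 K ≠ 0 := by
  intro h
  have := congrFun h (0, 0, 0)
  simp [u0] at this

/-- the trace as a linear map -/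
def trL (K : Type u) [Field K] : (I27 → K) →ₗ[K] K where
  toFun := tr1
  map_add' x y := by
    change (mat3 (x + y) 0).trace = (mat3 x 0).trace + (mat3 y 0).trace
    rw [← Matrix.trace_add]
    rfl
  map_smul' c x := by
    change (mat3 (c • x) 0).trace = c • (mat3 x 0).trace
    rw [← Matrix.trace_smul]
    rfl

/-- K2 -/
theorem seven_five {F : Type u} [Field F] [Finite F] [CharP F 5] {ρ : ↥(chevF4.group F) →* GL I27 F} (hρ : IsJ ρ)
    (φ : ↥(alternatingGroup (Fin 7)) →* ↥(chevF4.group F)) (hφ : Function.Injective φ)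
    (g : ↥(alternatingGroup (Fin 7))) (hg : orderOf g = 7) : ev (JK ρ (φ g)) 1 = 9 := by
  have hF5 : Fact (Nat.Prime 5) := ⟨Nat.prime_five⟩
  have hcharK : CharP (AlgebraicClosure F) 5 :=
    charP_of_injective_algebraMap (algebraMap F (AlgebraicClosure F)).injective 5
  obtain ⟨ρ', hρ'⟩ := JMod.exists_isJ (AlgebraicClosure F)
  let f := algebraMap F (AlgebraicClosure F)
  have T := tab_comp (Tor.tab_closed 5 (Cfsg.Agent.H944.RootVals.hAlg_closure 5 F) hρ') ((emb hF4 f).comp φ)
    ((emb_injective hF4 f).comp hφ)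
  have h2 : (2 : AlgebraicClosure F) ≠ 0 := by
    have := ne_zero_of (K := AlgebraicClosure F) (p := 5) Nat.prime_two (by norm_num)
    exact_mod_cast this
  have h3 : (3 : AlgebraicClosure F) ≠ 0 := by
    have := ne_zero_of (K := AlgebraicClosure F) (p := 5) Nat.prime_three (by norm_num)
    exact_mod_cast this
  have key := core_five T (finrank_J _) (τ := (3 : AlgebraicClosure F)⁻¹ • trL (AlgebraicClosure F))
    (fun g x => by
      change (3 : AlgebraicClosure F)⁻¹ * tr1 (JK ρ' _ x) = (3 : AlgebraicClosure F)⁻¹ * tr1 x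
      rw [Inv.tr1_inv hρ' h2])
    (u := u0 _) (by
      change (3 : AlgebraicClosure F)⁻¹ * tr1 (u0 (AlgebraicClosure F)) = 1
      rw [Jord.tr1_u0, inv_mul_cancel₀ h3])
    (fun g => Inv.u0_inv hρ' _) (ct_of_order hg)
  have h4 := Chg.ev_J f hρ hρ' (φ g) 1
  rw [map_one] at h4
  rw [← h4]
  exact key

end Cfsg.Agent.H952.F4.NoSeven
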