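import Cfsg.Agent.H177.F4.BigTools
import Cfsg.Agent.H952.F4.Gen
import Cfsg.Agent.H952.F4.Eig
import Cfsg.Agent.H952.F4.NoSevenFive
import Cfsg.Agent.H952.F4.Fix
import Cfsg.Agent.H952.F4.Tab
import Cfsg.Agent.H952.F4.Chg
import Cfsg.Agent.H952.F4.JMod

/-!
# S5926, part Z5: `7 ≤ n ≤ 10`, characteristic 5 (backup of helper952)
-/

set_option autoImplicit false
set_option linter.unusedVariables false

namespace Cfsg.Agent.H952.F4.BigB

open Cfsg Cfsg.Lie Module Equiv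
open Cfsg.Agent.H177.F4
open Cfsg.Agent.GpExc.Field (emb emb_injective)

universe u

variable {F : Type u} [Field F] [Finite F]

theorem two_fifteen [CharP F 5] {ρ : ↥(chevF4.group F) →* GL I27 F} (hρ : IsJ ρ)
    (ψ : ↥(alternatingGroup (Fin 7)) →* ↥(chevF4.group F)) (hψ : Function.Injective ψ) :
    ev (JK ρ (ψ qa)) 1 = 15 := by
  have hF5 : Fact (Nat.Prime 5) := ⟨Nat.prime_five⟩
  have hT := Tor.tab_finite 5 hρ
  obtain ⟨⟨ra, rb, rb', rab, rab'⟩, ⟨rt3, rt1, rta, rtb⟩, ⟨ru3, ru1, rua, rub⟩, ⟨rz, rw', rzw, rs, rsz, rsw⟩,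
    ⟨rg, rr, rr', rm⟩, rne⟩ := rel7
  have hne : ∀ x : ↥(alternatingGroup (Fin 7)), x ≠ 1 → ψ x ≠ 1 := fun x hx h => hx (hψ (h.trans (map_one ψ).symm))
  have h2F : (2 : F) ≠ 0 := by
    intro h
    have h1 : ((2 : ℕ) : F) = 0 := by exact_mod_cast h
    rw [CharP.cast_eq_zero_iff F 5] at h1
    omega
  rcases hT.two (by norm_num) (ψ qa) (hne _ rne) (by rw [← map_mul, ra, map_one]) with h | h
  · exact h.1
  exfalso
  have ha : ev (JK ρ (ψ qa)) 1 = 11 := h.1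
  have cj : ∀ g x : ↥(alternatingGroup (Fin 7)), ev (JK ρ (ψ (g * x * g⁻¹))) 1 = ev (JK ρ (ψ x)) 1 :=
    fun g x => ev_map ψ (JK ρ) g x 1
  have hb : ev (JK ρ (ψ qb)) 1 = 11 := by rw [← rta, cj, ha]
  have hab : ev (JK ρ (ψ (qa * qb))) 1 = 11 := by rw [← rtb, cj, hb]
  have hb' : ev (JK ρ (ψ qb')) 1 = 11 := by rw [← rua, cj, ha]
  have hab' : ev (JK ρ (ψ (qa * qb'))) 1 = 11 := by rw [← rub, cj, hb']
  have hs : ev (JK ρ (ψ qs)) 1 = 11 := by rw [← rm, cj, ha]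
  let J : Representation F ↥(alternatingGroup (Fin 7)) (I27 → F) := MonoidHom.comp (JK ρ) ψ
  have hJ : ∀ x, J x = JK ρ (ψ x) := fun x => rfl
  have hd := finrank_J F
  -- elements of order three have fixed spaces of dimension 9
  have three : ∀ a b t : ↥(alternatingGroup (Fin 7)), a * a = 1 → b * b = 1 → a * b = b * a → t ^ 3 = 1 → t ≠ 1 →
      t * a * t⁻¹ = b → t * b * t⁻¹ = a * b → ev (JK ρ (ψ a)) 1 = 11 → ev (JK ρ (ψ b)) 1 = 11 →
      ev (JK ρ (ψ (a * b))) 1 = 11 → ev (JK ρ (ψ t)) 1 = 9 := by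
    intro a b t h1 h2 h3 h4 h4' h5 h6 e1 e2 e3
    have k1 := Eig.four h2F J h1 h2 h3
    have k2 := Eig.a4 h2F J h1 h2 h3 h4 h5 h6
    have k3 : finrank F ↥(es (J a) 1 ⊓ es (J b) 1 ⊓ es (J t) 1) ≤ finrank F ↥(es (J a) 1 ⊓ es (J b) 1) :=
      Submodule.finrank_mono inf_le_left
    rw [hJ, hJ, hJ, e1, e2, e3, hd] at k1
    have k2' : 3 * ev (JK ρ (ψ t)) 1 + finrank F ↥(es (J a) 1 ⊓ es (J b) 1) =
        3 * finrank F ↥(es (J a) 1 ⊓ es (J b) 1 ⊓ es (J t) 1) + 27 := by rw [← hd]; exact k2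
    have k4 := hT.three (by norm_num) (ψ t) (hne _ h4') (by rw [← map_pow, h4, map_one])
    have k1' : 2 * finrank F ↥(es (J a) 1 ⊓ es (J b) 1) + 27 = 11 + 11 + 11 := by
      rw [← k1]
      rfl
    rcases k4 with h | h | h
    · rw [h.1] at k2'
      omega
    · exact h.1
    · exact h.1
  have ht : ev (JK ρ (ψ qt)) 1 = 9 := three qa qb qt ra rb rab rt3 rt1 rta rtb ha hb hab
  have hu : ev (JK ρ (ψ (qz * qw))) 1 = 9 := three qa qb' (qz * qw) ra rb' rab' ru3 ru1 rua rub ha hb' hab'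
  have hz : ev (JK ρ (ψ qz)) 1 = 9 := by rw [← rr, cj, ht]
  have hw : ev (JK ρ (ψ qw)) 1 = 9 := by rw [← rr', cj, ht]
  have hu' : ev (JK ρ (ψ (qz * qw⁻¹))) 1 = 9 := by rw [← rg, cj, hu]
  -- the algebraic closure
  have hcharK : CharP (AlgebraicClosure F) 5 :=
    charP_of_injective_algebraMap (algebraMap F (AlgebraicClosure F)).injective 5
  obtain ⟨ρ', hρ'⟩ := JMod.exists_isJ (AlgebraicClosure F)
  have h3K : (3 : AlgebraicClosure F) ≠ 0 := by
    intro h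
    have h1 : ((3 : ℕ) : AlgebraicClosure F) = 0 := by exact_mod_cast h
    rw [CharP.cast_eq_zero_iff (AlgebraicClosure F) 5] at h1
    omega
  let f := algebraMap F (AlgebraicClosure F)
  let J' : Representation (AlgebraicClosure F) ↥(alternatingGroup (Fin 7)) (I27 → AlgebraicClosure F) :=
    MonoidHom.comp (JK ρ') ((emb hF4 f).comp ψ)
  have hJ' : ∀ x, ev (J' x) 1 = ev (JK ρ (ψ x)) 1 := by
    intro x
    have := Chg.ev_J f hρ hρ' (ψ x) 1
    rw [map_one] at this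
    exact this
  have k := Eig.nine h3K J' rz rw' rzw rs rsz rsw
  rw [hJ', hJ', hJ', hJ', hJ', hs, hz, hw, hu, hu', finrank_J] at k
  omega

theorem four_fifteen [CharP F 5] {ρ : ↥(chevF4.group F) →* GL I27 F} (hρ : IsJ ρ)
    (ψ : ↥(alternatingGroup (Fin 8)) →* ↥(chevF4.group F)) (hψ : Function.Injective ψ) :
    ev (JK ρ (ψ ta)) 1 = 15 := by
  have hF5 : Fact (Nat.Prime 5) := ⟨Nat.prime_five⟩
  have hT := Tor.tab_finite 5 hρ
  obtain ⟨⟨ra, rb, rc, rab, rac, rbc⟩, ⟨u1, u2, u3, u4, u5, u6⟩, rne⟩ := rel8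
  have hne : ψ ta ≠ 1 := fun h => rne (hψ (h.trans (map_one ψ).symm))
  have h2F : (2 : F) ≠ 0 := by
    intro h
    have h1 : ((2 : ℕ) : F) = 0 := by exact_mod_cast h
    rw [CharP.cast_eq_zero_iff F 5] at h1
    omega
  rcases hT.two (by norm_num) (ψ ta) hne (by rw [← map_mul, ra, map_one]) with h | h
  · exact h.1
  exfalso
  have cj : ∀ g x : ↥(alternatingGroup (Fin 8)), ev (JK ρ (ψ (g * x * g⁻¹))) 1 = ev (JK ρ (ψ x)) 1 :=
    fun g x => ev_map ψ (JK ρ) g x 1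
  let J : Representation F ↥(alternatingGroup (Fin 8)) (I27 → F) := MonoidHom.comp (JK ρ) ψ
  have hJ : ∀ x, J x = JK ρ (ψ x) := fun x => rfl
  have ha : ev (JK ρ (ψ ta)) 1 = 11 := h.1
  have hb : ev (JK ρ (ψ tb)) 1 = 11 := by rw [← u1, cj, ha]
  have hc : ev (JK ρ (ψ tc)) 1 = 11 := by rw [← u2, cj, hb]
  have hab : ev (JK ρ (ψ (ta * tb))) 1 = 11 := by rw [← u3, cj, hc]
  have hbc : ev (JK ρ (ψ (tb * tc))) 1 = 11 := by rw [← u4, cj, hab]
  have habc : ev (JK ρ (ψ (ta * tb * tc))) 1 = 11 := by rw [← u5, cj, hbc]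
  have hac : ev (JK ρ (ψ (ta * tc))) 1 = 11 := by rw [← u6, cj, habc]
  have k := Eig.eight h2F J ra rb rc rab rac rbc
  have hd := finrank_J F
  simp only [hJ] at k
  rw [ha, hb, hc, hab, hac, hbc, habc, hd] at k
  omega

variable {H : Subgroup ↥(chevF4.group F)} {n : ℕ}

theorem big_five [CharP F 5] (hn : 7 ≤ n) (hn' : n ≤ 10) {φ : ↥(alternatingGroup (Fin n)) →* ↥(chevF4.group F)}
    (hM : MaxAlt H n φ) : False := by
  have hF5 : Fact (Nat.Prime 5) := ⟨Nat.prime_five⟩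
  obtain ⟨ρ, hρ⟩ := JMod.exists_isJ F
  obtain ⟨V, _, _, σ, hσ, -⟩ := Fix.exists_V26 5 (by norm_num) (by norm_num) hρ
  have hfd := hσ.fin
  have e2 : ∀ x : ↥(alternatingGroup (Fin n)), (x : Perm (Fin n)).cycleType = {2, 2} → ev (σ (φ x)) 1 = 14 := by
    intro x hx
    obtain ⟨ι, hι, rfl⟩ := exists_emb hn qa x (hx.trans qa_type.symm)
    have h1 := two_fifteen hρ (φ.comp ι) (hM.inj.comp hι)
    have h2 : (orderOf (φ (ι qa))).Coprime 5 := by
      have h3 : orderOf (φ (ι qa)) ∣ 2 := by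
        apply orderOf_dvd_of_pow_eq_one
        rw [← map_pow, ← map_pow, pow_two, rel7.1.1, map_one, map_one]
      exact Nat.Coprime.coprime_dvd_left h3 (by norm_num)
    have h3 := hσ.ev_eq _ h2
    have h4 : ev (JK ρ (φ (ι qa))) 1 = 15 := h1
    omega
  have e4 : ∀ x : ↥(alternatingGroup (Fin n)), (x : Perm (Fin n)).cycleType = {2, 2, 2, 2} → 8 ≤ n →
      ev (σ (φ x)) 1 = 14 := by
    intro x hx h8
    obtain ⟨ι, hι, rfl⟩ := exists_emb h8 ta x (hx.trans ta_type.symm)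
    have h1 := four_fifteen hρ (φ.comp ι) (hM.inj.comp hι)
    have h2 : (orderOf (φ (ι ta))).Coprime 5 := by
      have h3 : orderOf (φ (ι ta)) ∣ 2 := by
        apply orderOf_dvd_of_pow_eq_one
        rw [← map_pow, ← map_pow, pow_two, rel8.1.1, map_one, map_one]
      exact Nat.Coprime.coprime_dvd_left h3 (by norm_num)
    have h3 := hσ.ev_eq _ h2
    have h4 : ev (JK ρ (φ (ι ta))) 1 = 15 := h1
    omega
  have e7 : ∀ x : ↥(alternatingGroup (Fin n)), (x : Perm (Fin n)).cycleType = {7} → ev (σ (φ x)) 1 = 8 := by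
    intro x hx
    have hc : (({7} : Multiset ℕ)) = (g7 : Perm (Fin 7)).cycleType := by decide +kernel
    obtain ⟨ι, hι, rfl⟩ := exists_emb hn ⟨g7, g7_mem⟩ x (hx.trans hc)
    have ho : orderOf (⟨g7, g7_mem⟩ : ↥(alternatingGroup (Fin 7))) = 7 := by
      rw [← Subgroup.orderOf_coe]
      show orderOf g7 = 7
      rw [← Perm.lcm_cycleType, ← hc, Multiset.lcm_singleton, normalize_eq]
    have h1 := NoSeven.seven_five hρ (φ.comp ι) (hM.inj.comp hι) _ ho
    have h2 : (orderOf (φ (ι ⟨g7, g7_mem⟩))).Coprime 5 := by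
      have h3 : orderOf (φ (ι ⟨g7, g7_mem⟩)) ∣ 7 := by
        apply orderOf_dvd_of_pow_eq_one
        have h4 := pow_orderOf_eq_one (⟨g7, g7_mem⟩ : ↥(alternatingGroup (Fin 7)))
        rw [ho] at h4
        rw [← map_pow, ← map_pow, h4, map_one, map_one]
      exact Nat.Coprime.coprime_dvd_left h3 (by norm_num)
    have h3 := hσ.ev_eq _ h2
    have h4 : ev (JK ρ (φ (ι ⟨g7, g7_mem⟩))) 1 = 9 := h1
    omega
  have e5 : ∀ x : ↥(alternatingGroup (Fin n)), x ^ 5 = 1 → 6 ≤ ev (σ (φ x)) 1 := by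
    intro x hx
    have h1 : (σ (φ x)) ^ 5 = 1 := by rw [← map_pow, ← map_pow, hx, map_one, map_one]
    have h2 := Eig.le_mul_ev 5 h1
    rw [hσ.dim] at h2
    omega
  rcases (by omega : n = 7 ∨ n = 8 ∨ n = 9 ∨ n = 10) with h | h | h | h
  · subst h
    obtain ⟨x, y, hgen, hx, hy, hxy⟩ := Gen.gen7
    have h1 := scott_le hM hn hn' σ hfd hσ.dim hσ.form hσ.inv hgen
    have h2 := e2 x hx
    have h3 := e5 y (pow_of_type hy (by decide))
    have h4 := e7 (x * y) hxy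
    omega
  · subst h
    obtain ⟨x, y, hgen, hx, hy, hxy⟩ := Gen.gen8
    have h1 := scott_le hM hn hn' σ hfd hσ.dim hσ.form hσ.inv hgen
    have h2 := e2 x hx
    have h3 := e7 y hy
    have h4 := e7 (x * y) hxy
    omega
  · subst h
    obtain ⟨x, y, hgen, hx, hy, hxy⟩ := Gen.gen9
    have h1 := scott_le hM hn hn' σ hfd hσ.dim hσ.form hσ.inv hgen
    have h2 := e4 x hx (by norm_num)
    have h3 := e7 y hy
    have h4 := e7 (x * y) hxy
    omega
  · subst h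
    obtain ⟨x, y, hgen, hx, hy, hxy⟩ := Gen.gen10
    have h1 := scott_le hM hn hn' σ hfd hσ.dim hσ.form hσ.inv hgen
    have h2 := e4 x hx (by norm_num)
    have h3 := e7 y hy
    have h4 := e5 (x * y) (pow_of_type hxy (by decide))
    omega

end Cfsg.Agent.H952.F4.BigB
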