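import Cfsg.Agent.H177.F4.BigTools
import Cfsg.Agent.H952.F4.Two
import Cfsg.Agent.H952.F4.Gen
import Cfsg.Agent.H952.F4.Eig

/-!
# S5926, part Z5: `7 ≤ n ≤ 10`, characteristic 2 (backup of helper952)
-/

set_option autoImplicit false
set_option linter.unusedVariables false

namespace Cfsg.Agent.H952.F4.BigB

open Cfsg Cfsg.Lie Module Equiv
open Cfsg.Agent.H177.F4

universe u

variable {F : Type u} [Field F] [Finite F] {H : Subgroup ↥(chevF4.group F)} {n : ℕ}

theorem key {V : Type u} [AddCommGroup V] [Module F V] [CharP F 2] (hn : 7 ≤ n) (hn' : n ≤ 10)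
    {φ : ↥(alternatingGroup (Fin n)) →* ↥(chevF4.group F)} (hM : MaxAlt H n φ)
    (τ : Representation F ↥(chevF4.group F) V) (hτ : Mod26 τ) {x₀ : ↥(alternatingGroup (Fin n))}
    (hx₀ : (x₀ : Perm (Fin n)).cycleType = {7}) (h8 : ev (τ (φ x₀)) 1 = 8)
    (h5 : ∀ z : ↥(chevF4.group F), z ≠ 1 → z ^ 5 = 1 → (∃ g, g * z * g⁻¹ = z ^ 2) → ev (τ z) 1 = 6) : False := by
  have hfd := hτ.fin
  have hform : ∃ B : V →ₗ[F] V →ₗ[F] F, (∀ v, (∀ w, B v w = 0) → v = 0) ∧ (∀ g v w, B (τ g v) (τ g w) = B v w) := by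
    obtain ⟨B, -, h1, h2⟩ := hτ.form
    exact ⟨B, h1, h2⟩
  have hinj := hM.inj
  have e2 : ∀ (a : ↥(alternatingGroup (Fin n))), a ^ 2 = 1 → 13 ≤ ev (τ (φ a)) 1 := by
    intro a ha
    have h : (τ (φ a)) ^ 2 = 1 := by rw [← map_pow, ← map_pow, ha, map_one, map_one]
    have := Eig.le_mul_ev 2 h
    rw [hτ.dim] at this
    omega
  have e7 : ∀ (a : ↥(alternatingGroup (Fin n))), (a : Perm (Fin n)).cycleType = {7} → ev (τ (φ a)) 1 = 8 := by
    intro a ha
    rw [ev_seven hn φ τ ha hx₀, h8]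
  have e5 : ∀ (a : ↥(alternatingGroup (Fin n))), a ≠ 1 → a ^ 5 = 1 → (∃ g, g * a * g⁻¹ = a ^ 2) →
      ev (τ (φ a)) 1 = 6 := by
    intro a ha ha' hg
    obtain ⟨g, hg⟩ := hg
    refine h5 (φ a) ?_ (by rw [← map_pow, ha', map_one]) ⟨φ g, ?_⟩
    · intro h
      exact ha (hinj (h.trans (map_one φ).symm))
    · rw [← map_inv, ← map_mul, ← map_mul, hg, map_pow]
  rcases (by omega : n = 7 ∨ n = 8 ∨ n = 9 ∨ n = 10) with h | h | h | h
  · subst h
    obtain ⟨x, y, hgen, hx, hy, hxy⟩ := Gen.gen7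
    have h1 := scott_le hM hn hn' τ hfd hτ.dim hform hτ.inv hgen
    have h2 := e2 x (pow_of_type hx (by decide))
    have h3 := e5 y (ne_one_of_type hy (by decide)) (pow_of_type hy (by decide)) (rat_five hn hy)
    have h4 := e7 (x * y) hxy
    omega
  · subst h
    obtain ⟨x, y, hgen, hx, hy, hxy⟩ := Gen.gen8
    have h1 := scott_le hM hn hn' τ hfd hτ.dim hform hτ.inv hgen
    have h2 := e2 x (pow_of_type hx (by decide))
    have h3 := e7 y hy
    have h4 := e7 (x * y) hxy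
    omega
  · subst h
    obtain ⟨x, y, hgen, hx, hy, hxy⟩ := Gen.gen9
    have h1 := scott_le hM hn hn' τ hfd hτ.dim hform hτ.inv hgen
    have h2 := e2 x (pow_of_type hx (by decide))
    have h3 := e7 y hy
    have h4 := e7 (x * y) hxy
    omega
  · subst h
    obtain ⟨x, y, hgen, hx, hy, hxy⟩ := Gen.gen10
    have h1 := scott_le hM hn hn' τ hfd hτ.dim hform hτ.inv hgen
    have h2 := e2 x (pow_of_type hx (by decide))
    have h3 := e7 y hy
    have h4 := e5 (x * y) (ne_one_of_type hxy (by decide)) (pow_of_type hxy (by decide)) (rat_55 (le_refl 10) hxy)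
    omega

theorem big_two [CharP F 2] (hn : 7 ≤ n) (hn' : n ≤ 10) {φ : ↥(alternatingGroup (Fin n)) →* ↥(chevF4.group F)}
    (hM : MaxAlt H n φ) : False := by
  obtain ⟨M, N, _, _, _, _, ρ, σ, hP⟩ := Two.exists_pkg F
  obtain ⟨x, hx⟩ := exists_seven hn
  have hx1 : φ x ≠ 1 := by
    intro h
    exact ne_one_of_type hx (by decide) (hM.inj (h.trans (map_one φ).symm))
  have hx7 : φ x ^ 7 = 1 := by rw [← map_pow, pow_of_type hx (by decide), map_one]
  obtain ⟨g, hg⟩ := rat_seven hn hx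
  rcases hP.seven_rat (φ x) hx1 hx7 ⟨φ g, by rw [← map_inv, ← map_mul, ← map_mul, hg, map_pow]⟩ with h | h
  · exact key hn hn' hM ρ hP.m hx h fun z h1 h2 h3 => (hP.five_rat z h1 h2 h3).1
  · exact key hn hn' hM σ hP.n hx h fun z h1 h2 h3 => (hP.five_rat z h1 h2 h3).2

end Cfsg.Agent.H952.F4.BigB
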