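import Mathlib
import Cfsg.Agent.H952.F4.Defs2
import Cfsg.Agent.H952.F4.Inv
import Cfsg.Agent.S1062

/-!
# S5926: common nontrivial stabilizers (helper570)

* `card_le` : at most `2 q ^ 25` vectors `y` have given `tr1 y`, `tf y y`;
* `common_stab` : any two vectors of the 27-dimensional module have a common nontrivial stabilizer in `F₄(q)`.
-/

set_option autoImplicit false

namespace Cfsg.Agent.H952.F4.Fix

open Cfsg Cfsg.Lie Module
open Cfsg.Agent.ChevalleyStructure Cfsg.Agent.ChevalleyStructure.Elts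
open Cfsg.Agent.ChevalleyStructure.E6Min.Tables Cfsg.Agent.ChevalleyStructure.E6Min.Basic

universe u

/-- the coordinates different from `(0,0,0)`, `(0,0,1)`, `(0,1,0)` -/
abbrev Oth : Type := {x : I27 // x ≠ (0, 0, 0) ∧ x ≠ (0, 0, 1) ∧ x ≠ (0, 1, 0)}

theorem card_oth : Fintype.card Oth = 24 := by decide

theorem sub_eq {F : Type u} [Field F] {y z : I27 → F} (h : ∀ x : I27, x ≠ (0, 0, 0) → x ≠ (0, 0, 1) → x ≠ (0, 1, 0) →
    y x = z x) (ht : tr1 y = tr1 z) : y (0, 0, 0) = z (0, 0, 0) ∧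
      tf y y - tf z z = 2 * (y (0, 0, 1) * y (0, 1, 0) - z (0, 0, 1) * z (0, 1, 0)) := by
  have h011 := h (0, 1, 1) (by decide) (by decide) (by decide)
  have h022 := h (0, 2, 2) (by decide) (by decide) (by decide)
  have h0 : y (0, 0, 0) = z (0, 0, 0) := by
    simp only [tr1, Matrix.trace, Fin.sum_univ_three, Matrix.diag_apply] at ht
    change y (0, 0, 0) + y (0, 1, 1) + y (0, 2, 2) = z (0, 0, 0) + z (0, 1, 1) + z (0, 2, 2) at ht
    rw [h011, h022] at ht
    linear_combination ht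
  refine ⟨h0, ?_⟩
  have h002 := h (0, 0, 2) (by decide) (by decide) (by decide)
  have h012 := h (0, 1, 2) (by decide) (by decide) (by decide)
  have h020 := h (0, 2, 0) (by decide) (by decide) (by decide)
  have h021 := h (0, 2, 1) (by decide) (by decide) (by decide)
  have h1 : ∀ i j, y (1, i, j) = z (1, i, j) := fun i j => h _ (by simp) (by simp) (by simp)
  have h2 : ∀ i j, y (2, i, j) = z (2, i, j) := fun i j => h _ (by simp) (by simp) (by simp)
  have e1 : mat3 y 1 = mat3 z 1 := by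
    ext i j
    exact h1 i j
  have e2 : mat3 y 2 = mat3 z 2 := by
    ext i j
    exact h2 i j
  unfold tf
  rw [e1, e2]
  simp only [Matrix.trace, Fin.sum_univ_three, Matrix.diag_apply, Matrix.mul_apply]
  have hm : ∀ (w : I27 → F) (i j : Fin 3), mat3 w 0 i j = w (0, i, j) := fun w i j => rfl
  simp only [hm, h0, h002, h012, h020, h021, h011, h022]
  ring

/-- at most `2 q ^ 25` vectors have given invariants -/
theorem card_le {F : Type u} [Field F] [Finite F] (h2 : (2 : F) ≠ 0) (t s : F) :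
    Nat.card {y : I27 → F // tr1 y = t ∧ tf y y = s} ≤ 2 * Nat.card F ^ 25 := by
  classical
  let _ : Fintype F := Fintype.ofFinite F
  let f : {y : I27 → F // tr1 y = t ∧ tf y y = s} → (Oth → F) × F × Bool := fun y =>
    (fun x => y.1 x.1, if y.1 (0, 0, 1) = 0 then (y.1 (0, 1, 0), false) else (y.1 (0, 0, 1), true))
  have hf : Function.Injective f := by
    rintro ⟨y, hy1, hy2⟩ ⟨z, hz1, hz2⟩ h
    have h1 : (fun x : Oth => y x.1) = fun x => z x.1 := congrArg Prod.fst h
    have h3 : (if y (0, 0, 1) = 0 then (y (0, 1, 0), false) else (y (0, 0, 1), true)) =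
        (if z (0, 0, 1) = 0 then (z (0, 1, 0), false) else (z (0, 0, 1), true)) := congrArg Prod.snd h
    have h4 : ∀ x : I27, x ≠ (0, 0, 0) → x ≠ (0, 0, 1) → x ≠ (0, 1, 0) → y x = z x := fun x a b c =>
      congrFun h1 ⟨x, a, b, c⟩
    obtain ⟨h5, h6⟩ := sub_eq h4 (hy1.trans hz1.symm)
    rw [hy2, hz2, sub_self] at h6
    have h7 : y (0, 0, 1) * y (0, 1, 0) = z (0, 0, 1) * z (0, 1, 0) := by
      have := (mul_eq_zero.1 h6.symm).resolve_left h2
      exact sub_eq_zero.1 this
    have h8 : y (0, 0, 1) = z (0, 0, 1) ∧ y (0, 1, 0) = z (0, 1, 0) := by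
      by_cases hy : y (0, 0, 1) = 0
      · by_cases hz : z (0, 0, 1) = 0
        · rw [if_pos hy, if_pos hz] at h3
          exact ⟨hy.trans hz.symm, congrArg Prod.fst h3⟩
        · rw [if_pos hy, if_neg hz] at h3
          exact absurd (congrArg Prod.snd h3) (by simp)
      · by_cases hz : z (0, 0, 1) = 0
        · rw [if_neg hy, if_pos hz] at h3
          exact absurd (congrArg Prod.snd h3) (by simp)
        · rw [if_neg hy, if_neg hz] at h3
          have h9 : y (0, 0, 1) = z (0, 0, 1) := congrArg Prod.fst h3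
          refine ⟨h9, ?_⟩
          rw [h9] at h7
          exact mul_left_cancel₀ hz h7
    apply Subtype.ext
    funext x
    by_cases a : x = (0, 0, 0)
    · rw [a]; exact h5
    by_cases b : x = (0, 0, 1)
    · rw [b]; exact h8.1
    by_cases c : x = (0, 1, 0)
    · rw [c]; exact h8.2
    exact h4 x a b c
  have h1 := Nat.card_le_card_of_injective f hf
  refine h1.trans (le_of_eq ?_)
  rw [Nat.card_prod, Nat.card_prod, Nat.card_fun, Nat.card_eq_fintype_card (α := Oth), card_oth,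
    Nat.card_eq_fintype_card (α := Bool), Fintype.card_bool]
  ring

/-- the order of `F₄(q)` -/
theorem card_gt {F : Type u} [Field F] [Finite F] (h2 : (2 : F) ≠ 0) :
    2 * Nat.card F ^ 25 * (2 * Nat.card F ^ 25) < Nat.card ↥(chevF4.group F) := by
  classical
  let _ : Fintype F := Fintype.ofFinite F
  have hq : 3 ≤ Nat.card F := by
    rw [Nat.card_eq_fintype_card]
    by_contra hcon
    push Not at hcon
    have h1 : 1 < Fintype.card F := Fintype.one_lt_card
    have h3 : Fintype.card F = 2 := by omega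
    apply h2
    have h4 : (Fintype.card F : F) = 0 := Nat.cast_card_eq_zero F
    rw [h3] at h4
    exact_mod_cast h4
  rw [Cfsg.Agent.S1062.result (F := F) (q := Nat.card F) (Nat.card_eq_fintype_card).symm]
  set q := Nat.card F with hqdef
  have e1 : 8 * q ^ 2 ≤ 9 * (q ^ 2 - 1) := by
    have : 9 ≤ q ^ 2 := by nlinarith
    omega
  have hp : ∀ k, 6 ≤ k → 100 * q ^ k ≤ 101 * (q ^ k - 1) := by
    intro k hk
    have h3 : 101 ≤ q ^ k := by
      calc 101 ≤ 3 ^ 6 := by norm_num
        _ ≤ 3 ^ k := Nat.pow_le_pow_right (by norm_num) hk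
        _ ≤ q ^ k := Nat.pow_le_pow_left hq k
    omega
  have h6 := hp 6 le_rfl
  have h8 := hp 8 (by norm_num)
  have h12 := hp 12 (by norm_num)
  have key : (8 * q ^ 2) * (100 * q ^ 6) * (100 * q ^ 8) * (100 * q ^ 12) ≤
      (9 * (q ^ 2 - 1)) * (101 * (q ^ 6 - 1)) * (101 * (q ^ 8 - 1)) * (101 * (q ^ 12 - 1)) :=
    Nat.mul_le_mul (Nat.mul_le_mul (Nat.mul_le_mul e1 h6) h8) h12
  have hq2 : 9 ≤ q ^ 2 := by nlinarith
  have hpos : 0 < q ^ 50 := by positivity
  set A := (q ^ 2 - 1) * (q ^ 6 - 1) * (q ^ 8 - 1) * (q ^ 12 - 1) with hA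
  have key2 : 8000000 * q ^ 28 ≤ 9272709 * A := by
    calc 8000000 * q ^ 28 = (8 * q ^ 2) * (100 * q ^ 6) * (100 * q ^ 8) * (100 * q ^ 12) := by ring
      _ ≤ _ := key
      _ = 9272709 * A := by rw [hA]; ring
  have h3 : 4 * q ^ 26 * 9272709 < 9272709 * A := by
    refine lt_of_lt_of_le ?_ key2
    have h4 : q ^ 28 = q ^ 26 * q ^ 2 := by ring
    have h5 : 0 < q ^ 26 := by positivity
    rw [h4]
    nlinarith
  have h4 : 4 * q ^ 26 < A := by
    have : 9272709 * (4 * q ^ 26) < 9272709 * A := by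
      calc 9272709 * (4 * q ^ 26) = 4 * q ^ 26 * 9272709 := by ring
        _ < _ := h3
    exact Nat.lt_of_mul_lt_mul_left this
  calc 2 * q ^ 25 * (2 * q ^ 25) = q ^ 24 * (4 * q ^ 26) := by ring
    _ < q ^ 24 * A := Nat.mul_lt_mul_of_pos_left h4 (by positivity)
    _ = q ^ 24 * (q ^ 2 - 1) * (q ^ 6 - 1) * (q ^ 8 - 1) * (q ^ 12 - 1) := by rw [hA]; ring

theorem common_stab_of {F : Type u} [Field F] [Finite F] (h2 : (2 : F) ≠ 0) {ρ : ↥(chevF4.group F) →* GL I27 F}
    (htf : ∀ (g : ↥(chevF4.group F)) (x : I27 → F), tf (JK ρ g x) (JK ρ g x) = tf x x)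
    (htr : ∀ (g : ↥(chevF4.group F)) (x : I27 → F), tr1 (JK ρ g x) = tr1 x) (a b : I27 → F) :
    ∃ g : ↥(chevF4.group F), g ≠ 1 ∧ JK ρ g a = a ∧ JK ρ g b = b := by
  classical
  by_contra hcon
  push Not at hcon
  let f : ↥(chevF4.group F) → {y : I27 → F // tr1 y = tr1 a ∧ tf y y = tf a a} ×
      {y : I27 → F // tr1 y = tr1 b ∧ tf y y = tf b b} := fun g =>
    (⟨JK ρ g a, htr g a, htf g a⟩, ⟨JK ρ g b, htr g b, htf g b⟩)
  have hf : Function.Injective f := by
    intro g g' h
    have h1 : JK ρ g a = JK ρ g' a := congrArg (fun z => (z.1 : I27 → F)) h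
    have h3 : JK ρ g b = JK ρ g' b := congrArg (fun z => (z.2 : I27 → F)) h
    by_contra hne
    refine hcon (g'⁻¹ * g) (fun h0 => hne (inv_mul_eq_one.1 h0).symm) ?_ ?_
    · rw [map_mul, Module.End.mul_apply, h1, ← Module.End.mul_apply, ← map_mul, inv_mul_cancel, map_one]
      rfl
    · rw [map_mul, Module.End.mul_apply, h3, ← Module.End.mul_apply, ← map_mul, inv_mul_cancel, map_one]
      rfl
  have h1 := Nat.card_le_card_of_injective f hf
  rw [Nat.card_prod] at h1
  have h3 := (h1.trans (Nat.mul_le_mul (card_le h2 _ _) (card_le h2 _ _)))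
  exact absurd (card_gt (F := F) h2) (not_lt.2 h3)

/-- F3: any two vectors of `J` have a common nontrivial stabilizer -/
theorem common_stab {F : Type u} [Field F] [Finite F] (h2 : (2 : F) ≠ 0) {ρ : ↥(chevF4.group F) →* GL I27 F}
    (hρ : IsJ ρ) (a b : I27 → F) : ∃ g : ↥(chevF4.group F), g ≠ 1 ∧ JK ρ g a = a ∧ JK ρ g b = b :=
  common_stab_of h2 (fun g x => Inv.tf_inv hρ h2 g x x) (fun g x => Inv.tr1_inv hρ h2 g x) a b

end Cfsg.Agent.H952.F4.Fix
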