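import Cfsg.Agent.H834.F4.Ax2
import Cfsg.Agent.H952.F4.JMod

/-!
# S5926, F-E4 (helper834): `Tor.axis_dim`, `Tor.axis`
-/

set_option autoImplicit false

namespace Cfsg.Agent.H952.F4.Tor

open Cfsg Cfsg.Lie Module
open Cfsg.Agent.ChevalleyStructure Cfsg.Agent.ChevalleyStructure.Elts
open Cfsg.Agent.ChevalleyStructure.E6Min.Tables Cfsg.Agent.ChevalleyStructure.E6Min.Basic
open Cfsg.Agent.BpExc.TorAll

universe u

theorem hAlg_closure (p : ℕ) [Fact p.Prime] (F : Type u) [Field F] [Finite F] [CharP F p] :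
    HAlg p (AlgebraicClosure F) := by
  let _ := ZMod.algebra F p
  have : Algebra.IsAlgebraic (ZMod p) F := Algebra.IsAlgebraic.of_finite _ _
  have : Algebra.IsAlgebraic (ZMod p) (AlgebraicClosure F) := Algebra.IsAlgebraic.trans (ZMod p) F _
  exact hAlg_of_isAlgebraic p _

/-- E5: the eigenvalues of an element of order 5 with 5-dimensional fixed space -/
theorem axis_dim (p : ℕ) [Fact p.Prime] {F : Type u} [Field F] [Finite F] [CharP F p] (hp2 : p ≠ 2) (hp5 : p ≠ 5)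
    {ρ : ↥(chevF4.group F) →* GL I27 F} (hρ : IsJ ρ) {z : ↥(chevF4.group F)} (hz1 : z ≠ 1) (hz : z ^ 5 = 1)
    (h5 : ev (JK ρ z) 1 = 5) (μ : F) (hμ : μ * μ + μ = 1) :
    (finrank F ↥(LinearMap.ker (JK ρ z * JK ρ z - μ • JK ρ z + 1)) = 12 ∧
      LinearMap.trace F _ (JK ρ z) - LinearMap.trace F _ (JK ρ (z * z)) = 2 * μ + 1) ∨
    (finrank F ↥(LinearMap.ker (JK ρ z * JK ρ z - μ • JK ρ z + 1)) = 10 ∧
      LinearMap.trace F _ (JK ρ z) - LinearMap.trace F _ (JK ρ (z * z)) = -(2 * μ + 1)) := by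
  have : CharP (AlgebraicClosure F) p := charP_of_injective_algebraMap (algebraMap F (AlgebraicClosure F)).injective p
  obtain ⟨ρ', hρ'⟩ := JMod.exists_isJ (AlgebraicClosure F)
  exact H834.F4.axis_dim_aux p (hAlg_closure p F) (algebraMap F (AlgebraicClosure F)) hp5 hρ hρ' hz h5 μ hμ

/-- E4: an element `z` of order 5 with 5-dimensional fixed space on the 27-dimensional module -/
theorem axis (p : ℕ) [Fact p.Prime] {F : Type u} [Field F] [Finite F] [CharP F p] (hp2 : p ≠ 2) (hp5 : p ≠ 5)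
    {ρ : ↥(chevF4.group F) →* GL I27 F} (hρ : IsJ ρ) {z s : ↥(chevF4.group F)} (hz1 : z ≠ 1) (hz : z ^ 5 = 1)
    (hs : s * z * s⁻¹ = z⁻¹) (h5 : ev (JK ρ z) 1 = 5) (μ : F)
    (hμ : finrank F ↥(LinearMap.ker (JK ρ z * JK ρ z - μ • JK ρ z + 1)) = 12)
    (x : I27 → F) (hx : JK ρ z x = x) (hsx : JK ρ s x = -x) (w : I27 → F)
    (hw : JK ρ z (JK ρ z w) - μ • JK ρ z w + w = 0) : cr (sh x) w = 0 := by
  have : CharP (AlgebraicClosure F) p := charP_of_injective_algebraMap (algebraMap F (AlgebraicClosure F)).injective p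
  obtain ⟨ρ', hρ'⟩ := JMod.exists_isJ (AlgebraicClosure F)
  exact H834.F4.axis_aux p (hAlg_closure p F) (algebraMap F (AlgebraicClosure F)) hp2 hp5 hρ hρ' hz hs h5 μ hμ x hx
    hsx w hw

end Cfsg.Agent.H952.F4.Tor
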