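import Mathlib
import Cfsg.Agent.H742.F4CasesSpec
import Cfsg.Agent.H952.F4.Tab
import Cfsg.Agent.H952.F4.TorAxis
import Cfsg.Agent.H952.F4.Fix
import Cfsg.Agent.H952.F4.Common

/-!
# S5926, F-Z1: the special case of `A₅` (helper742, helper790)
-/

set_option autoImplicit false

namespace Cfsg.Agent.H952.F4.Cases

open Cfsg Cfsg.Lie Module
open Cfsg.Agent.ChevalleyStructure Cfsg.Agent.ChevalleyStructure.Elts
open Cfsg.Agent.ChevalleyStructure.E6Min.Tables Cfsg.Agent.ChevalleyStructure.E6Min.Basic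
open MaxA

universe u

variable {F : Type u} [Field F] [Finite F] {H : Subgroup ↥(chevF4.group F)}

theorem spec (p : ℕ) [Fact p.Prime] [CharP F p] (hp2 : p ≠ 2) (hp5 : p ≠ 5)
    {ρ : ↥(chevF4.group F) →* GL I27 F} (hρ : IsJ ρ) {φ : ↥(alternatingGroup (Fin 5)) →* ↥(chevF4.group F)}
    (hM : MaxAlt H 5 φ) (h2 : ∀ g, orderOf g = 2 → ev (JK ρ (φ g)) 1 = 15)
    (h3 : p ≠ 3 → ∀ g, orderOf g = 3 → ev (JK ρ (φ g)) 1 = 9)
    (h5 : ∀ g, orderOf g = 5 → ev (JK ρ (φ g)) 1 = 5) : False := by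
  have two_ne : (2 : F) ≠ 0 := by
    intro h
    have h' : ((2 : ℕ) : F) = 0 := by exact_mod_cast h
    rw [CharP.cast_eq_zero_iff F p, Nat.prime_dvd_prime_iff_eq Fact.out Nat.prime_two] at h'
    exact hp2 h'
  have hs : IsSimpleGroup ↥(chevF4.group F) := (Cfsg.Agent.S1054.result chevF4 (by simp)).1
  have hcard : Nat.card ↥H ≤ 120 := by
    have h4 := hM.card
    rw [if_neg (by norm_num)] at h4
    exact h4
  -- no fixed vectors on `V`
  have key : ∀ (V : Type u) [AddCommGroup V] [Module F V] [FiniteDimensional F V]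
      (τ : Representation F ↥(chevF4.group F) V), τ.invariants = ⊥ → finrank F V ≤ 26 →
      ∀ v : V, (∀ g ∈ (φ.range : Set ↥(chevF4.group F)), τ g v = v) → v = 0 := by
    intro V _ _ _ τ hτ hV v hv
    have h4 := no_fixed τ hτ hM (by norm_num) (card_bound hcard two_ne hV)
    have h6 : v ∈ Representation.invariants (MonoidHom.comp τ φ) := mem_inv.2 fun a ha => hv a ha
    rw [h4] at h6
    exact h6
  have hfix : ∀ x : I27 → F, tr1 x = 0 → (∀ g, JK ρ (φ g) x = x) → ∃ c : F, x = c • u0 F := by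
    intro y hy hfy
    have hfy' : ∀ g ∈ (φ.range : Set ↥(chevF4.group F)), JK ρ g y = y := by
      rintro _ ⟨g, rfl⟩
      exact hfy g
    by_cases hp3 : p = 3
    · subst hp3
      obtain ⟨V, _, _, τ, hMod, hX⟩ := Fix.exists_V25 hρ
      have := hMod.fin
      exact hX _ (key V τ hMod.inv (by rw [hMod.dim]; norm_num)) y hy hfy'
    · obtain ⟨V, _, _, τ, hMod, hX⟩ := Fix.exists_V26 p hp2 hp3 hρ
      have := hMod.fin
      exact hX _ (key V τ hMod.inv (by rw [hMod.dim])) y hfy'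
  exact spec_of p hp2 hp5 hρ (Tor.tab_finite p hρ) (fun hz1 hz h5' μ hμ => Tor.axis_dim p hp2 hp5 hρ hz1 hz h5' μ hμ)
    (fun hz1 hz hs' h5' μ hμ x hx hsx w hw => Tor.axis p hp2 hp5 hρ hz1 hz hs' h5' μ hμ x hx hsx w hw) hfix
    (Fix.common_stab two_ne hρ) hM h2 h3 h5

end Cfsg.Agent.H952.F4.Cases
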