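import Cfsg.Agent.H87.F4.Aux5
import Cfsg.Agent.H952.F4.Scott
import Cfsg.Agent.H952.F4.Eig
import Cfsg.Agent.H952.F4.Gen
import Cfsg.Agent.H952.F4.JMod
import Cfsg.Agent.H952.F4.Tab
import Cfsg.Agent.H952.F4.FixL
import Cfsg.Agent.H952.F4.Fix
import Cfsg.Agent.H952.F4.Two
import Cfsg.Agent.H952.F4.Count
import Cfsg.Agent.H952.F4.CasesSpec
import Cfsg.Agent.S1054
import Cfsg.Agent.S1062

/-!
# S5926: the case `n = 5`
-/

set_option autoImplicit false

namespace Cfsg.Agent.H952.F4.Cases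

open Cfsg Cfsg.Lie Module
open Cfsg.Agent.ChevalleyStructure Cfsg.Agent.ChevalleyStructure.Elts
open Cfsg.Agent.ChevalleyStructure.E6Min.Tables Cfsg.Agent.ChevalleyStructure.E6Min.Basic

universe u

variable {F : Type u} [Field F] [Finite F] {H : Subgroup ↥(chevF4.group F)}
  {φ : ↥(alternatingGroup (Fin 5)) →* ↥(chevF4.group F)}

namespace Five

theorem card_G : Nat.card ↥(chevF4.group F) = NF (Nat.card F) := by
  have := Fintype.ofFinite F
  rw [S1062.result (F := F) rfl, Nat.card_eq_fintype_card, NF]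

theorem card_H (hM : MaxAlt H 5 φ) : Nat.card ↥H ≤ 120 := by
  have h := hM.card
  rw [if_neg (by norm_num)] at h
  exact h

theorem simpleG : IsSimpleGroup ↥(chevF4.group F) := (S1054.result chevF4 (by simp)).1

/-- the number condition of `no_fixed` -/
theorem num {q h d g : ℕ} (hq : 2 ≤ q) (hh : h ≤ 120) (hd : d ≤ 26) (hg : q ^ 52 ≤ 2 * g) :
    h * q ^ d < g * (q - 1) := by
  have h1 : q ^ d ≤ q ^ 26 := Nat.pow_le_pow_right (by omega) hd
  have h2 : h * q ^ d ≤ 120 * q ^ 26 := Nat.mul_le_mul hh h1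
  have h3 : 2 ^ 26 ≤ q ^ 26 := Nat.pow_le_pow_left hq 26
  have h4 : q ^ 52 = q ^ 26 * q ^ 26 := by rw [← pow_add]
  have h5 : 2 ^ 26 * q ^ 26 ≤ q ^ 26 * q ^ 26 := Nat.mul_le_mul_right _ h3
  have h6 : g * 1 ≤ g * (q - 1) := Nat.mul_le_mul_left _ (by omega)
  have h7 : 0 < q ^ 26 := by positivity
  rw [h4] at hg
  omega

theorem two_le : 2 ≤ Nat.card F := Finite.one_lt_card

/-- Scott's lemma for a module with form -/
theorem scottF (hM : MaxAlt H 5 φ) {V : Type*} [AddCommGroup V] [Module F V] [FiniteDimensional F V]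
    (σ : Representation F ↥(chevF4.group F) V) (hd : finrank F V ≤ 26) (hinv : σ.invariants = ⊥)
    (hform : ∃ B : V →ₗ[F] V →ₗ[F] F, (∀ v, (∀ w, B v w = 0) → v = 0) ∧ (∀ g v w, B (σ g v) (σ g w) = B v w))
    {x y : ↥(alternatingGroup (Fin 5))} (hgen : Subgroup.closure {x, y} = ⊤) :
    ev (σ (φ x)) 1 + ev (σ (φ y)) 1 + ev (σ (φ (x * y))) 1 ≤ finrank F V := by
  obtain ⟨B, hB1, hB2⟩ := hform
  have := simpleG (F := F)
  have h1 : Representation.invariants (MonoidHom.comp σ φ) = ⊥ := by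
    apply MaxA.no_fixed σ hinv hM le_rfl
    rw [card_G]
    exact num two_le (card_H hM) hd (NF_ge two_le)
  have h2 := Scott.scott_form (MonoidHom.comp σ φ) hgen B hB1 (fun g v w => hB2 (φ g) v w)
  rw [h1, finrank_bot] at h2
  exact h2

/-- Scott's lemma for the adjoint module: many invariants -/
theorem exists_inv (hM : MaxAlt H 5 φ) (h2 : (2 : F) ≠ 0) {x y : ↥(alternatingGroup (Fin 5))}
    (hgen : Subgroup.closure {x, y} = ⊤) {m : ℕ}
    (h : 52 + 2 * m < ev (LK F (φ x)) 1 + ev (LK F (φ y)) 1 + ev (LK F (φ (x * y))) 1 + 2) :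
    ∃ k l : ℕ, m ≤ k + l ∧ (H = φ.range → l = 0) ∧
      ((Nat.card F ^ k - 1) + (Nat.card F ^ l - 1)) * NF (Nat.card F) ≤
        Nat.card ↥H * (Nat.card F ^ 52 - 1) := by
  have := simpleG (F := F)
  have hd : finrank F (chevF4.Idx → F) = 52 := by
    rw [Module.finrank_fintype_fun_eq_card]
    decide
  have h3 := Scott.scott (MonoidHom.comp (LK F) φ) hgen
  have h4 : (Representation.dual (MonoidHom.comp (LK F) φ) : Representation F _ _) =
      MonoidHom.comp (LK F).dual φ := by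
    ext g f v
    simp only [Representation.dual_apply, MonoidHom.comp_apply, map_inv]
  rw [h4, hd] at h3
  have h3' : ev (LK F (φ x)) 1 + ev (LK F (φ y)) 1 + ev (LK F (φ (x * y))) 1 ≤
    52 + finrank F (Representation.invariants (MonoidHom.comp (LK F) φ)) +
      finrank F (Representation.invariants (MonoidHom.comp (LK F).dual φ)) := h3
  have key : m ≤ finrank F (Representation.invariants (MonoidHom.comp (LK F) φ)) ∨
      m ≤ finrank F (Representation.invariants (MonoidHom.comp (LK F).dual φ)) := by omega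
  rcases key with hk | hk
  · obtain ⟨k, l, e1, e2, e3⟩ := MaxA.few_fixed (LK F) (Fix.L_invariants F) hM rfl h2
    rw [hd, card_G] at e3
    exact ⟨k, l, by omega, e2, e3⟩
  · obtain ⟨k, l, e1, e2, e3⟩ := MaxA.few_fixed (LK F).dual (Fix.L_dual_invariants F) hM rfl h2
    rw [Subspace.dual_finrank_eq, hd, card_G] at e3
    exact ⟨k, l, by omega, e2, e3⟩

end Five

open Five

theorem five_two [CharP F 2] (hM : MaxAlt H 5 φ) : False := by
  have : Fact (Nat.Prime 2) := ⟨Nat.prime_two⟩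
  obtain ⟨M, N, _, _, _, _, ρ, σ, hP⟩ := Two.exists_pkg F
  have := hP.m.fin
  have := hP.n.fin
  have hfm : ∃ B : M →ₗ[F] M →ₗ[F] F, (∀ v, (∀ w, B v w = 0) → v = 0) ∧
      (∀ g v w, B (ρ g v) (ρ g w) = B v w) := by
    obtain ⟨B, -, h1, h2⟩ := hP.m.form
    exact ⟨B, h1, h2⟩
  have hfn : ∃ B : N →ₗ[F] N →ₗ[F] F, (∀ v, (∀ w, B v w = 0) → v = 0) ∧
      (∀ g v w, B (σ g v) (σ g w) = B v w) := by
    obtain ⟨B, -, h1, h2⟩ := hP.n.form
    exact ⟨B, h1, h2⟩
  have inv13 : ∀ {W : Type u} [AddCommGroup W] [Module F W] [FiniteDimensional F W]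
      (τ : Representation F ↥(chevF4.group F) W) (_ : finrank F W = 26) (x : ↥(alternatingGroup (Fin 5)))
      (_ : orderOf x = 2), 13 ≤ ev (τ (φ x)) 1 := by
    intro W _ _ _ τ hd x hx
    have h := Eig.le_mul_ev 2 (T := τ (φ x)) (by
      rw [← map_pow, ← map_pow, ← hx, pow_orderOf_eq_one, map_one, map_one])
    omega
  have hne : ∀ {m : ℕ} {x : ↥(alternatingGroup (Fin 5))}, orderOf x = m → m ≠ 1 → φ x ≠ 1 := by
    intro m x hx hm h
    rw [← orderOf_injective φ hM.inj, h, orderOf_one] at hx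
    omega
  have hpw : ∀ {m : ℕ} {x : ↥(alternatingGroup (Fin 5))}, orderOf x = m → φ x ^ m = 1 := by
    intro m x hx
    rw [← map_pow, ← hx, pow_orderOf_eq_one, map_one]
  -- a pair of type (2,5,5)
  have c1 : ∀ {W : Type u} [AddCommGroup W] [Module F W] [FiniteDimensional F W]
      (τ : Representation F ↥(chevF4.group F) W) (_ : finrank F W = 26) (_ : τ.invariants = ⊥)
      (_ : ∃ B : W →ₗ[F] W →ₗ[F] F, (∀ v, (∀ w, B v w = 0) → v = 0) ∧
        (∀ g v w, B (τ g v) (τ g w) = B v w)), ev (τ (φ z5)) 1 < 8 := by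
    intro W _ _ _ τ hd hi hf
    by_contra hc
    obtain ⟨x, y, hgen, hx, hy, hxy⟩ := gen255 Gen.gen5
    have h1 := scottF hM τ hd.le hi hf hgen
    have h2 := inv13 τ hd x hx
    have h3 : ∀ {y : ↥(alternatingGroup (Fin 5))}, orderOf y = 5 → ev (τ (φ y)) 1 = ev (τ (φ z5)) 1 := by
      intro y hy
      exact ev_five (ρ := MonoidHom.comp τ φ) (g := y) (powo hy) (ne_one_of_order hy (by norm_num))
    rw [h3 hy, h3 hxy, hd] at h1
    omega
  have hz := hP.five (φ z5) (fun h => z5_ne (hM.inj (h.trans (map_one φ).symm)))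
    (by rw [← map_pow, z5_five, map_one])
  have d1 := c1 ρ hP.m.dim hP.m.inv hfm
  have d2 := c1 σ hP.n.dim hP.n.inv hfn
  have d3 : ev (ρ (φ z5)) 1 = 6 := by omega
  obtain ⟨x, y, hgen, hx, hy, hxy⟩ := gen235 Gen.gen5
  have h1 := scottF hM ρ hP.m.dim.le hP.m.inv hfm hgen
  have h2 := inv13 ρ hP.m.dim x hx
  have h3 := hP.three (φ y) (hne hy (by norm_num)) (hpw hy)
  have h4 : ev (ρ (φ (x * y))) 1 = ev (ρ (φ z5)) 1 :=
    ev_five (ρ := MonoidHom.comp ρ φ) (g := x * y) (powo hxy) (ne_one_of_order hxy (by norm_num))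
  rw [hP.m.dim] at h1
  omega

namespace Five

theorem card_ge (p : ℕ) [Fact p.Prime] [CharP F p] : p ≤ Nat.card F := by
  have := Fintype.ofFinite F
  obtain ⟨n, -, hn⟩ := FiniteField.card F p
  rw [Nat.card_eq_fintype_card, hn]
  exact Nat.le_self_pow n.ne_zero p

theorem cast_ne (p : ℕ) [hp : Fact p.Prime] [CharP F p] {m : ℕ} (hm : m.Prime) (h : p ≠ m) : (m : F) ≠ 0 := by
  rw [Ne, CharP.cast_eq_zero_iff F p m]
  exact fun h1 => h ((Nat.prime_dvd_prime_iff_eq hp.out hm).1 h1)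

variable {V : Type*} [AddCommGroup V] [Module F V] [FiniteDimensional F V]

theorem e2 (τ : Representation F ↥(chevF4.group F) V) {x : ↥(alternatingGroup (Fin 5))} (hx : orderOf x = 2) :
    ev (τ (φ x)) 1 = ev (τ (φ v0)) 1 :=
  ev_two (ρ := MonoidHom.comp τ φ) (g := x) (by rw [← pow_two]; exact powo hx) (ne_one_of_order hx (by norm_num))

theorem e3 (τ : Representation F ↥(chevF4.group F) V) {x : ↥(alternatingGroup (Fin 5))} (hx : orderOf x = 3) :
    ev (τ (φ x)) 1 = ev (τ (φ c3)) 1 :=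
  ev_three (ρ := MonoidHom.comp τ φ) (g := x) (powo hx) (ne_one_of_order hx (by norm_num))

theorem e5 (τ : Representation F ↥(chevF4.group F) V) {x : ↥(alternatingGroup (Fin 5))} (hx : orderOf x = 5) :
    ev (τ (φ x)) 1 = ev (τ (φ z5)) 1 :=
  ev_five (ρ := MonoidHom.comp τ φ) (g := x) (powo hx) (ne_one_of_order hx (by norm_num))

theorem cop (hi : Function.Injective φ) {p m : ℕ} {x : ↥(alternatingGroup (Fin 5))} (hx : orderOf x = m)
    (hp : p.Prime) (hm : m.Prime) (h : p ≠ m) : (orderOf (φ x)).Coprime p := by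
  rw [orderOf_injective φ hi, hx]
  exact (Nat.coprime_primes hm hp).2 (Ne.symm h)

theorem ov0 : orderOf v0 = 2 := by
  have : Fact (Nat.Prime 2) := ⟨Nat.prime_two⟩
  exact orderOf_eq_prime (by rw [pow_two]; exact v0_sq) v0_ne

theorem oc3 : orderOf c3 = 3 := by
  have : Fact (Nat.Prime 3) := ⟨Nat.prime_three⟩
  exact orderOf_eq_prime c3_cube c3_ne

theorem oz5 : orderOf z5 = 5 := by
  have : Fact (Nat.Prime 5) := ⟨Nat.prime_five⟩
  exact orderOf_eq_prime z5_five z5_ne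

end Five

theorem five_three [CharP F 3] (hM : MaxAlt H 5 φ) : False := by
  have : Fact (Nat.Prime 3) := ⟨Nat.prime_three⟩
  have n1 : φ v0 ≠ 1 := fun h => v0_ne (hM.inj (h.trans (map_one φ).symm))
  have n3 : φ z5 ≠ 1 := fun h => z5_ne (hM.inj (h.trans (map_one φ).symm))
  have s1 : φ v0 * φ v0 = 1 := by rw [← map_mul, v0_sq, map_one]
  have s2 : φ c3 ^ 3 = 1 := by rw [← map_pow, c3_cube, map_one]
  have s3 : φ z5 ^ 5 = 1 := by rw [← map_pow, z5_five, map_one]
  obtain ⟨ρ, hρ⟩ := JMod.exists_isJ F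
  have T := Tor.tab_finite 3 hρ
  obtain ⟨V, _, _, σ, hσ, -⟩ := Fix.exists_V25 hρ
  have := hσ.fin
  have h2F : (2 : F) ≠ 0 := by exact_mod_cast cast_ne (F := F) 3 Nat.prime_two (by norm_num)
  have h5F : ((5 : ℕ) : F) ≠ 0 := cast_ne (F := F) 3 Nat.prime_five (by norm_num)
  obtain ⟨x, y, hgen, hx, hy, hxy⟩ := gen235 Gen.gen5
  have a2 := hσ.ev_eq (φ v0) (cop hM.inj ov0 Nat.prime_three Nat.prime_two (by norm_num))
  have a5 := hσ.ev_eq (φ z5) (cop hM.inj oz5 Nat.prime_three Nat.prime_five (by norm_num))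
  have t5 := T.five (by norm_num) (φ z5) n3 s3
  rcases T.two (by norm_num) (φ v0) n1 s1 with ⟨b1, -⟩ | ⟨b1, b2, -⟩
  · have c1 := scottF hM σ (by rw [hσ.dim]; norm_num) hσ.inv hσ.form hgen
    rw [e2 σ hx, e3 σ hy, e5 σ hxy, hσ.dim] at c1
    have c2 := Eig.le_mul_ev 3 (T := σ (φ c3)) (by rw [← map_pow, s2, map_one])
    rw [hσ.dim] at c2
    have c3' : ev (JK ρ (φ z5)) 1 = 5 := by omega
    exact spec 3 (by norm_num) (by norm_num) hρ hM (fun g hg => by rw [e2 (JK ρ) hg, b1])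
      (fun h => absurd rfl h) (fun g hg => by rw [e5 (JK ρ) hg, c3'])
  · have c1 := Eig.dihedral h2F (MonoidHom.comp σ φ) (z := z5) (s := v0) (m := 5) (by decide) h5F z5_five v0_sq inv5
      (Or.inl rfl)
    rw [hσ.dim] at c1
    have c1' : 2 * finrank F ↥(es (σ (φ z5)) 1 ⊓ es (σ (φ v0)) 1) + 25 =
      2 * ev (σ (φ v0)) 1 + ev (σ (φ z5)) 1 := c1
    have hH : H = φ.range := by
      rcases hM.five rfl with h | h
      · exact h
      · obtain ⟨g, -, hg⟩ := h (φ z5) ⟨z5, rfl⟩ n3 s3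
        have := (T.five_rat (by norm_num) (φ z5) n3 s3 ⟨g, hg⟩).1
        omega
    obtain ⟨k, l, d1, d2, d3⟩ := exists_inv hM h2F hgen (m := 7) (by
      have c2 := Eig.le_mul_ev 3 (T := LK F (φ c3)) (by rw [← map_pow, s2, map_one])
      have hd : finrank F (chevF4.Idx → F) = 52 := by
        rw [Module.finrank_fintype_fun_eq_card]
        decide
      rw [hd] at c2
      rw [e2 (LK F) hx, e3 (LK F) hy, e5 (LK F) hxy]
      omega)
    have hl := d2 hH
    have h3 : 3 ≤ Nat.card F := card_ge 3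
    refine num_false (q := Nat.card F) (c := 7) two_le (Or.inl (by omega)) (card_H hM) ?_ d3
    calc 241 < 3 ^ 7 := by norm_num
      _ ≤ Nat.card F ^ 7 := Nat.pow_le_pow_left h3 7

theorem five_big (p : ℕ) [hp : Fact p.Prime] [CharP F p] (hp5 : 5 ≤ p) (hM : MaxAlt H 5 φ) : False := by
  have n1 : φ v0 ≠ 1 := fun h => v0_ne (hM.inj (h.trans (map_one φ).symm))
  have n2 : φ c3 ≠ 1 := fun h => c3_ne (hM.inj (h.trans (map_one φ).symm))
  have n3 : φ z5 ≠ 1 := fun h => z5_ne (hM.inj (h.trans (map_one φ).symm))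
  have s1 : φ v0 * φ v0 = 1 := by rw [← map_mul, v0_sq, map_one]
  have s2 : φ c3 ^ 3 = 1 := by rw [← map_pow, c3_cube, map_one]
  have s3 : φ z5 ^ 5 = 1 := by rw [← map_pow, z5_five, map_one]
  obtain ⟨ρ, hρ⟩ := JMod.exists_isJ F
  have T := Tor.tab_finite p hρ
  obtain ⟨V, _, _, σ, hσ, -⟩ := Fix.exists_V26 p (by omega) (by omega) hρ
  have := hσ.fin
  have h2F : (2 : F) ≠ 0 := by exact_mod_cast cast_ne (F := F) p Nat.prime_two (by omega)
  have h3F : ((3 : ℕ) : F) ≠ 0 := cast_ne (F := F) p Nat.prime_three (by omega)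
  obtain ⟨x, y, hgen, hx, hy, hxy⟩ := gen235 Gen.gen5
  have a2 := hσ.ev_eq (φ v0) (cop hM.inj ov0 hp.out Nat.prime_two (by omega))
  have a3 := hσ.ev_eq (φ c3) (cop hM.inj oc3 hp.out Nat.prime_three (by omega))
  have t3 := T.three (by omega) (φ c3) n2 s2
  rcases T.two (by omega) (φ v0) n1 s1 with ⟨b1, -⟩ | ⟨b1, b2, -⟩
  · have c1 := scottF hM σ (by rw [hσ.dim]) hσ.inv hσ.form hgen
    rw [e2 σ hx, e3 σ hy, e5 σ hxy, hσ.dim] at c1
    by_cases h5 : p = 5
    · subst h5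
      have c2 := Eig.le_mul_ev 5 (T := σ (φ z5)) (by rw [← map_pow, s3, map_one])
      rw [hσ.dim] at c2
      omega
    · have a5 := hσ.ev_eq (φ z5) (cop hM.inj oz5 hp.out Nat.prime_five h5)
      have t5 := T.five h5 (φ z5) n3 s3
      have c2 : ev (JK ρ (φ z5)) 1 = 5 := by omega
      have c3' : ev (JK ρ (φ c3)) 1 = 9 := by omega
      exact spec p (by omega) h5 hρ hM (fun g hg => by rw [e2 (JK ρ) hg, b1])
        (fun _ g hg => by rw [e3 (JK ρ) hg, c3']) (fun g hg => by rw [e5 (JK ρ) hg, c2])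
  · have hd : finrank F (chevF4.Idx → F) = 52 := by
      rw [Module.finrank_fintype_fun_eq_card]
      decide
    have c3' : ev (LK F (φ c3)) 1 = 22 := by
      obtain ⟨s, i1, i2, i3⟩ := inv3
      have c1 := Eig.dihedral h2F (MonoidHom.comp (LK F) φ) (z := c3) (s := s) (m := 3) (by decide) h3F c3_cube i1 i3
        (Or.inl rfl)
      rw [hd] at c1
      have c1' : 2 * finrank F ↥(es (LK F (φ c3)) 1 ⊓ es (LK F (φ s)) 1) + 52 =
        2 * ev (LK F (φ s)) 1 + ev (LK F (φ c3)) 1 := c1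
      have c2 : ev (LK F (φ s)) 1 = ev (LK F (φ v0)) 1 := ev_two (ρ := MonoidHom.comp (LK F) φ) (g := s) i1 i2
      have c4 : finrank F ↥(es (LK F (φ c3)) 1 ⊓ es (LK F (φ s)) 1) ≤ ev (LK F (φ c3)) 1 :=
        Submodule.finrank_mono inf_le_left
      omega
    have c5 : 11 ≤ ev (LK F (φ z5)) 1 := by
      by_cases h5 : p = 5
      · subst h5
        have c2 := Eig.le_mul_ev 5 (T := LK F (φ z5)) (by rw [← map_pow, s3, map_one])
        rw [hd] at c2
        omega
      · have t5 := T.five h5 (φ z5) n3 s3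
        omega
    obtain ⟨k, l, d1, d2, d3⟩ := exists_inv hM h2F hgen (m := 9) (by
      rw [e2 (LK F) hx, e3 (LK F) hy, e5 (LK F) hxy]
      omega)
    have h3 : 5 ≤ Nat.card F := hp5.trans (card_ge p)
    refine num_false (q := Nat.card F) (c := 5) two_le (by omega) (card_H hM) ?_ d3
    calc 241 < 5 ^ 5 := by norm_num
      _ ≤ Nat.card F ^ 5 := Nat.pow_le_pow_left h3 5

end Cfsg.Agent.H952.F4.Cases
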