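import Cfsg.Agent.H952.F4.Eig
import Cfsg.Agent.H952.F4.EigFrob
import Cfsg.Agent.H952.F4.Scott
import Cfsg.Agent.H952.F4.Gen
import Cfsg.Agent.H952.F4.JMod
import Cfsg.Agent.H952.F4.Jord
import Cfsg.Agent.H952.F4.Inv
import Cfsg.Agent.H952.F4.Tab
import Cfsg.Agent.H952.F4.Chg
import Cfsg.Agent.H952.F4.Fix
import Cfsg.Agent.H952.F4.Count
import Cfsg.Agent.S1054
import Cfsg.Agent.S1062

/-!
# S5926: `A₆` in characteristic 5 (helper801)

* `SixFive.conj_of`, `SixFive.exists_perm` : conjugacy and transitivity in `A₆`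
* `SixFive.core` : the calculation in the Jordan algebra
* `Cases.six_five`
-/

set_option autoImplicit false
set_option linter.unusedSectionVars false

namespace Cfsg.Agent.H952.F4.SixFive

open Cfsg Cfsg.Lie Module Equiv
open Cfsg.Agent.ChevalleyStructure.E6Min.Tables Cfsg.Agent.ChevalleyStructure.E6Min.Basic

universe u

/-- the alternating group of degree 6 -/
abbrev A6 := ↥(alternatingGroup (Fin 6))

def ea : A6 := ⟨swap 0 1 * swap 2 3, by rw [Equiv.Perm.mem_alternatingGroup]; decide⟩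
def eb : A6 := ⟨swap 0 2 * swap 1 3, by rw [Equiv.Perm.mem_alternatingGroup]; decide⟩
/-- `1 → 2 → 3 → 1` -/
def et : A6 := ⟨swap 1 2 * swap 2 3, by rw [Equiv.Perm.mem_alternatingGroup]; decide⟩
def eb' : A6 := ⟨swap 0 1 * swap 4 5, by rw [Equiv.Perm.mem_alternatingGroup]; decide⟩
/-- `0 → 4 → 2 → 0`, `1 → 5 → 3 → 1` -/
def et' : A6 := ⟨swap 0 4 * swap 4 2 * (swap 1 5 * swap 5 3), by rw [Equiv.Perm.mem_alternatingGroup]; decide⟩
def ez : A6 := ⟨swap 0 1 * swap 1 2, by rw [Equiv.Perm.mem_alternatingGroup]; decide⟩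
def ew : A6 := ⟨swap 3 4 * swap 4 5, by rw [Equiv.Perm.mem_alternatingGroup]; decide⟩
def eS : A6 := ⟨swap 0 1 * swap 3 4, by rw [Equiv.Perm.mem_alternatingGroup]; decide⟩

theorem ea_sq : ea * ea = 1 := by apply Subtype.ext; decide
theorem eb_sq : eb * eb = 1 := by apply Subtype.ext; decide
theorem ea_eb : ea * eb = eb * ea := by apply Subtype.ext; decide
theorem et_cube : et ^ 3 = 1 := by apply Subtype.ext; decide
theorem et_ea : et * ea * et⁻¹ = eb := by apply Subtype.ext; decide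
theorem et_eb : et * eb * et⁻¹ = ea * eb := by apply Subtype.ext; decide
theorem eb'_sq : eb' * eb' = 1 := by apply Subtype.ext; decide
theorem ea_eb' : ea * eb' = eb' * ea := by apply Subtype.ext; decide
theorem et'_cube : et' ^ 3 = 1 := by apply Subtype.ext; decide
theorem et'_ea : et' * ea * et'⁻¹ = eb' := by apply Subtype.ext; decide
theorem et'_eb : et' * eb' * et'⁻¹ = ea * eb' := by apply Subtype.ext; decide
theorem ez_cube : ez ^ 3 = 1 := by apply Subtype.ext; decide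
theorem ew_cube : ew ^ 3 = 1 := by apply Subtype.ext; decide
theorem ez_ew : ez * ew = ew * ez := by apply Subtype.ext; decide
theorem eS_sq : eS * eS = 1 := by apply Subtype.ext; decide
theorem eS_ez : eS * ez * eS⁻¹ = ez⁻¹ := by apply Subtype.ext; decide
theorem eS_ew : eS * ew * eS⁻¹ = ew⁻¹ := by apply Subtype.ext; decide

/-- Conjugacy in the alternating group. -/
theorem conj_of {n : ℕ} (g0 g : ↥(alternatingGroup (Fin n))) (c : Perm (Fin n)) (hc : Perm.sign c = -1)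
    (hcg : c * g0 = g0 * c) (h : (g : Perm (Fin n)).cycleType = (g0 : Perm (Fin n)).cycleType) :
    ∃ k : ↥(alternatingGroup (Fin n)), k * g0 * k⁻¹ = g := by
  obtain ⟨k, hk⟩ := isConj_iff.1 (Perm.isConj_iff_cycleType_eq.2 h.symm)
  rcases Int.units_eq_one_or (Perm.sign k) with h1 | h1
  · exact ⟨⟨k, Perm.mem_alternatingGroup.2 h1⟩, Subtype.ext hk⟩
  · refine ⟨⟨k * c, Perm.mem_alternatingGroup.2 (by rw [Perm.sign_mul, h1, hc]; decide)⟩, Subtype.ext ?_⟩
    change k * c * (g0 : Perm (Fin n)) * (k * c)⁻¹ = g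
    rw [← hk]
    calc k * c * (g0 : Perm (Fin n)) * (k * c)⁻¹ = k * (c * g0) * c⁻¹ * k⁻¹ := by group
      _ = k * g0 * k⁻¹ := by rw [hcg]; group

/-- 2-transitivity of `A₆`. -/
theorem exists_perm (i j : Fin 6) (hij : i ≠ j) : ∃ g : A6, (g : Perm (Fin 6)) 4 = i ∧ (g : Perm (Fin 6)) 5 = j := by
  have h0 : ∀ i j : Fin 6, i ≠ j → (swap 4 i * swap 5 (swap 4 i j) : Perm (Fin 6)) 4 = i ∧
      (swap 4 i * swap 5 (swap 4 i j) : Perm (Fin 6)) 5 = j := by decide
  obtain ⟨h1, h2⟩ := h0 i j hij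
  set σ : Perm (Fin 6) := swap 4 i * swap 5 (swap 4 i j) with hσ
  rcases Int.units_eq_one_or (Perm.sign σ) with h3 | h3
  · exact ⟨⟨σ, Perm.mem_alternatingGroup.2 h3⟩, h1, h2⟩
  · refine ⟨⟨σ * swap 0 1, Perm.mem_alternatingGroup.2 ?_⟩, ?_, ?_⟩
    · rw [Perm.sign_mul, h3]; decide
    · change σ (swap 0 1 4) = i
      rw [show (swap 0 1 : Perm (Fin 6)) 4 = 4 by decide]; exact h1
    · change σ (swap 0 1 5) = j
      rw [show (swap 0 1 : Perm (Fin 6)) 5 = 5 by decide]; exact h2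

theorem exists_perm' (i j i' j' : Fin 6) (h : i ≠ j) (h' : i' ≠ j') :
    ∃ g : A6, (g : Perm (Fin 6)) i = i' ∧ (g : Perm (Fin 6)) j = j' := by
  obtain ⟨g, h1, h2⟩ := exists_perm i j h
  obtain ⟨g', h1', h2'⟩ := exists_perm i' j' h'
  refine ⟨g' * g⁻¹, ?_, ?_⟩
  · change (g' : Perm (Fin 6)) ((g : Perm (Fin 6))⁻¹ i) = i'
    rw [Perm.inv_eq_iff_eq.2 h1.symm, h1']
  · change (g' : Perm (Fin 6)) ((g : Perm (Fin 6))⁻¹ j) = j'
    rw [Perm.inv_eq_iff_eq.2 h2.symm, h2']

section Ev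

variable {K V G : Type*} [Field K] [AddCommGroup V] [Module K V] [Group G]

theorem mem_es {T : V →ₗ[K] V} {μ : K} {v : V} : v ∈ es T μ ↔ T v = μ • v := Module.End.mem_eigenspace_iff

theorem mem_es_one {T : V →ₗ[K] V} {v : V} : v ∈ es T 1 ↔ T v = v := by rw [mem_es, one_smul]

theorem rep_inv_apply (ρ : Representation K G V) (g : G) (v : V) : ρ g⁻¹ (ρ g v) = v := by
  rw [← Module.End.mul_apply, ← map_mul, inv_mul_cancel, map_one, Module.End.one_apply]

theorem rep_apply_inv (ρ : Representation K G V) (g : G) (v : V) : ρ g (ρ g⁻¹ v) = v := by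
  rw [← Module.End.mul_apply, ← map_mul, mul_inv_cancel, map_one, Module.End.one_apply]

theorem rep_mul (ρ : Representation K G V) (g h : G) (v : V) : ρ (g * h) v = ρ g (ρ h v) := by
  rw [map_mul, Module.End.mul_apply]

/-- `ev` is a class function. -/
theorem ev_conj (ρ : Representation K G V) (k g : G) (μ : K) : ev (ρ (k * g * k⁻¹)) μ = ev (ρ g) μ := by
  let e : V ≃ₗ[K] V := LinearEquiv.ofLinearMap (ρ k) (ρ k⁻¹) (by ext v; exact rep_apply_inv ρ k v)
    (by ext v; exact rep_inv_apply ρ k v)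
  have h1 : (Module.End.eigenspace (ρ g) μ).map (e : V →ₗ[K] V) = Module.End.eigenspace (ρ (k * g * k⁻¹)) μ := by
    ext v
    rw [Submodule.mem_map]
    constructor
    · rintro ⟨x, hx, rfl⟩
      rw [Module.End.mem_eigenspace_iff] at hx ⊢
      change ρ (k * g * k⁻¹) (ρ k x) = μ • ρ k x
      rw [rep_mul, rep_inv_apply, rep_mul, hx, map_smul]
    · intro hv
      rw [Module.End.mem_eigenspace_iff] at hv
      refine ⟨ρ k⁻¹ v, ?_, rep_apply_inv ρ k v⟩
      rw [Module.End.mem_eigenspace_iff, ← map_smul, ← hv, rep_mul, rep_mul, rep_inv_apply]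
  unfold ev
  rw [← h1]
  exact LinearEquiv.finrank_map_eq e _

end Ev

section Core

variable {F : Type u} [Field F] [CharP F 5]

theorem n2 : (2 : F) ≠ 0 := by
  have h := CharP.cast_eq_zero_iff F 5 2
  intro h1
  have h2 := h.1 (by exact_mod_cast h1)
  exact absurd h2 (by decide)

theorem n3 : (3 : F) ≠ 0 := by
  have h := CharP.cast_eq_zero_iff F 5 3
  intro h1
  have h2 := h.1 (by exact_mod_cast h1)
  exact absurd h2 (by decide)

theorem e5 : (5 : F) = 0 := by
  have h := (CharP.cast_eq_zero_iff F 5 5).2 (dvd_refl 5)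
  exact_mod_cast h

theorem tf_zero_left (y : I27 → F) : tf 0 y = 0 := by
  have h := Jord.tf_smul_left (0 : F) 0 y
  rwa [zero_smul, zero_mul] at h

theorem cr_zero_left (y : I27 → F) : cr 0 y = 0 := by
  have h := Jord.cr_smul_left (0 : F) 0 y
  rwa [zero_smul, zero_smul] at h

/-- **The calculation in the Jordan algebra.** -/
theorem core (ρ : Representation F A6 (I27 → F))
    (hu : ∀ g, ρ g (u0 F) = u0 F) (htf : ∀ g x y, tf (ρ g x) (ρ g y) = tf x y)
    (htr : ∀ g x, tr1 (ρ g x) = tr1 x)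
    (hsh : ∀ g x, sh (ρ g x) = ρ g (sh x)) (hcr : ∀ g x y, cr (ρ g x) (ρ g y) = ρ g (cr x y))
    (hfix : ∀ x, (∀ g, ρ g x = x) → ∃ c : F, x = c • u0 F)
    (h4 : finrank F ↥(es (ρ ea) 1 ⊓ es (ρ eb) 1 ⊓ es (ρ et) 1) = 3)
    (w : I27 → F) (hw : ∀ g : A6, (g : Perm (Fin 6)) 5 = 5 → ρ g w = w) (hw1 : tr1 w = 0) (hw0 : w ≠ 0) :
    False := by
  -- the conjugates
  have hex : ∀ i : Fin 6, ∃ g : A6, (g : Perm (Fin 6)) 5 = i := by
    intro i
    obtain ⟨j, hj⟩ : ∃ j : Fin 6, j ≠ i := ⟨i + 1, by revert i; decide⟩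
    obtain ⟨g, -, hg⟩ := exists_perm j i hj
    exact ⟨g, hg⟩
  choose k hk using hex
  obtain ⟨W, hWd⟩ : ∃ W : Fin 6 → I27 → F, W = fun i => ρ (k i) w := ⟨_, rfl⟩
  have hW : ∀ (g : A6) (i : Fin 6), ρ g (W i) = W ((g : Perm (Fin 6)) i) := by
    intro g i
    have h1 : ((((k ((g : Perm (Fin 6)) i))⁻¹ * (g * k i) : A6) : Perm (Fin 6))) 5 = 5 := by
      change ((k ((g : Perm (Fin 6)) i) : A6) : Perm (Fin 6))⁻¹ ((g : Perm (Fin 6)) ((k i : Perm (Fin 6)) 5)) = 5
      rw [hk i, Perm.inv_eq_iff_eq, hk]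
    have h2 := hw _ h1
    rw [rep_mul] at h2
    have h3 := congrArg (ρ (k ((g : Perm (Fin 6)) i))) h2
    rw [rep_apply_inv, rep_mul] at h3
    rw [hWd]
    exact h3
  have hW5 : W 5 = w := by
    rw [hWd]
    exact hw _ (hk 5)
  have htrW : ∀ i, tr1 (W i) = 0 := by
    intro i
    rw [hWd]
    change tr1 (ρ (k i) w) = 0
    rw [htr, hw1]
  have hu1 : tr1 (u0 F) = (3 : F) := Jord.tr1_u0
  have tr_add : ∀ x y : I27 → F, tr1 (x + y) = tr1 x + tr1 y := by
    intro x y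
    rw [← Jord.tf_u0, ← Jord.tf_u0, ← Jord.tf_u0, Jord.tf_comm, Jord.tf_add_left, Jord.tf_comm x, Jord.tf_comm y]
  have tr_smul : ∀ (c : F) (x : I27 → F), tr1 (c • x) = c * tr1 x := by
    intro c x
    rw [← Jord.tf_u0, ← Jord.tf_u0, Jord.tf_comm, Jord.tf_smul_left, Jord.tf_comm x]
  have hu00 : u0 F ≠ 0 := by
    intro h
    have h1 := hu1
    rw [h, ← zero_smul F (u0 F), tr_smul, zero_mul] at h1
    exact n3 h1.symm
  have hne : ∀ i, W i ≠ 0 := by
    intro i h
    obtain ⟨g, hg⟩ : ∃ g : A6, (g : Perm (Fin 6)) i = 5 := by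
      refine ⟨(k i)⁻¹, ?_⟩
      change ((k i : A6) : Perm (Fin 6))⁻¹ i = 5
      rw [Perm.inv_eq_iff_eq, hk]
    have h1 := hW g i
    rw [hg, hW5, h, map_zero] at h1
    exact hw0 h1.symm
  -- the sum
  have hsum : ∑ i, W i = 0 := by
    obtain ⟨c, hc⟩ := hfix (∑ i, W i) (by
      intro g
      rw [map_sum]
      calc ∑ i, ρ g (W i) = ∑ i, W ((g : Perm (Fin 6)) i) := Finset.sum_congr rfl fun i _ => hW g i
        _ = ∑ i, W i := Equiv.sum_comp (g : Perm (Fin 6)) W)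
    have h1 : tr1 (∑ i, W i) = 0 := by
      simp only [Fin.sum_univ_succ, Finset.univ_eq_empty, Finset.sum_empty, tr_add, htrW, add_zero]
    rw [hc, tr_smul, hu1] at h1
    have h2 : c = 0 := (mul_eq_zero.1 h1).resolve_right n3
    rw [hc, h2, zero_smul]
  -- the conjugates are different
  have hdist : ∀ i j, i ≠ j → W i ≠ W j := by
    intro i j hij h
    have h1 : ∀ l, W l = W 5 := by
      intro l
      by_cases hl : l = 5
      · rw [hl]
      · obtain ⟨g, hg1, hg2⟩ := exists_perm' i j l 5 hij hl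
        rw [← hg1, ← hg2, ← hW, ← hW, h]
    have h2 : ∑ i, W i = (6 : F) • W 5 := by
      rw [Finset.sum_congr rfl (fun l _ => h1 l), Finset.sum_const, Finset.card_univ, Fintype.card_fin,
        ← Nat.cast_smul_eq_nsmul F]
      norm_num
    rw [hsum] at h2
    have h3 : (6 : F) = 1 := by linear_combination (e5 : (5 : F) = 0)
    rw [h3, one_smul] at h2
    exact hne 5 h2.symm
  have hind : ∀ a b c : F, a • u0 F + b • W 4 + c • W 5 = 0 → a = 0 ∧ b = 0 ∧ c = 0 := by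
    intro a b c h
    have h1 := congrArg tr1 h
    rw [tr_add, tr_add, tr_smul, tr_smul, tr_smul, htrW, htrW, hu1, ← zero_smul F (u0 F), tr_smul] at h1
    have ha : a = 0 := by
      have h2 : a * 3 = 0 := by linear_combination h1
      exact (mul_eq_zero.1 h2).resolve_right n3
    rw [ha, zero_smul, zero_add] at h
    obtain ⟨g, hg1, hg2⟩ := exists_perm' 4 5 3 5 (by decide) (by decide)
    have h2 := congrArg (ρ g) h
    rw [map_add, map_smul, map_smul, hW, hW, hg1, hg2, map_zero] at h2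
    have h3 : b • (W 4 - W 3) = 0 := by
      rw [smul_sub, sub_eq_zero]
      exact add_right_cancel (h.trans h2.symm)
    have hb : b = 0 := (smul_eq_zero.1 h3).resolve_right (sub_ne_zero.2 (hdist 4 3 (by decide)))
    rw [hb, zero_smul, zero_add] at h
    exact ⟨ha, hb, (smul_eq_zero.1 h).resolve_right (hne 5)⟩
  -- the fixed vectors of `A₄`
  have hA4 : ∀ x, ρ ea x = x → ρ eb x = x → ρ et x = x → ∃ a b c : F, x = a • u0 F + b • W 4 + c • W 5 := by
    intro x h1 h2 h3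
    have hx : x ∈ es (ρ ea) 1 ⊓ es (ρ eb) 1 ⊓ es (ρ et) 1 := ⟨⟨mem_es_one.2 h1, mem_es_one.2 h2⟩, mem_es_one.2 h3⟩
    have hli : LinearIndependent F ![u0 F, W 4, W 5] := by
      rw [Fintype.linearIndependent_iff]
      intro g hg
      rw [Fin.sum_univ_three] at hg
      obtain ⟨h4, h5, h6⟩ := hind _ _ _ hg
      intro i
      fin_cases i
      · exact h4
      · exact h5
      · exact h6
    have hr := finrank_span_eq_card hli
    have hmem : ∀ v, v = u0 F ∨ v = W 4 ∨ v = W 5 → v ∈ es (ρ ea) 1 ⊓ es (ρ eb) 1 ⊓ es (ρ et) 1 := by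
      rintro v (rfl | rfl | rfl)
      · exact ⟨⟨mem_es_one.2 (hu _), mem_es_one.2 (hu _)⟩, mem_es_one.2 (hu _)⟩
      · exact ⟨⟨mem_es_one.2 (hW _ _), mem_es_one.2 (hW _ _)⟩, mem_es_one.2 (hW _ _)⟩
      · exact ⟨⟨mem_es_one.2 (hW _ _), mem_es_one.2 (hW _ _)⟩, mem_es_one.2 (hW _ _)⟩
    have hle : Submodule.span F (Set.range ![u0 F, W 4, W 5]) ≤ es (ρ ea) 1 ⊓ es (ρ eb) 1 ⊓ es (ρ et) 1 := by
      rw [Submodule.span_le]
      rintro _ ⟨i, rfl⟩
      fin_cases i
      · exact hmem _ (Or.inl rfl)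
      · exact hmem _ (Or.inr (Or.inl rfl))
      · exact hmem _ (Or.inr (Or.inr rfl))
    have heq := Submodule.eq_of_le_of_finrank_eq hle (by rw [hr, h4, Fintype.card_fin])
    rw [← heq] at hx
    obtain ⟨c, hc⟩ := (Submodule.mem_span_range_iff_exists_fun F).1 hx
    rw [Fin.sum_univ_three] at hc
    exact ⟨c 0, c 1, c 2, hc.symm⟩
  -- the fixed vectors of `A₅`
  have hA5 : ∀ x, (∀ g : A6, (g : Perm (Fin 6)) 5 = 5 → ρ g x = x) → ∃ a c : F, x = a • u0 F + c • W 5 := by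
    intro x hx
    obtain ⟨a, b, c, h⟩ := hA4 x (hx _ (by decide)) (hx _ (by decide)) (hx _ (by decide))
    obtain ⟨g, hg1, hg2⟩ := exists_perm' 4 5 3 5 (by decide) (by decide)
    have h2 := hx g hg2
    rw [h, map_add, map_add, map_smul, map_smul, map_smul, hu, hW, hW, hg1, hg2] at h2
    have h3 : b • (W 3 - W 4) = 0 := by
      rw [smul_sub, sub_eq_zero]
      exact add_left_cancel (add_right_cancel h2)
    have hb : b = 0 := (smul_eq_zero.1 h3).resolve_right (sub_ne_zero.2 (hdist 3 4 (by decide)))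
    exact ⟨a, c, by rw [h, hb, zero_smul, add_zero]⟩
  -- `tf (W i) (W i) = 0`
  have htf_sym : ∀ i j, i ≠ j → tf (W i) (W j) = tf (W 4) (W 5) := by
    intro i j hij
    obtain ⟨g, hg1, hg2⟩ := exists_perm' 4 5 i j (by decide) hij
    rw [← hg1, ← hg2, ← hW, ← hW, htf]
  have htf5 : tf (W 5) (W 5) = 0 := by
    have h1 : tf (W 5) (∑ i, W i) = 0 := by
      rw [hsum, ← zero_smul F (W 5), Jord.tf_comm, Jord.tf_smul_left, zero_mul]
    have tf_add_right : ∀ x y y' : I27 → F, tf x (y + y') = tf x y + tf x y' := by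
      intro x y y'
      rw [Jord.tf_comm, Jord.tf_add_left, Jord.tf_comm y, Jord.tf_comm y']
    rw [Fin.sum_univ_six, tf_add_right, tf_add_right, tf_add_right, tf_add_right, tf_add_right,
      htf_sym 5 0 (by decide), htf_sym 5 1 (by decide), htf_sym 5 2 (by decide), htf_sym 5 3 (by decide),
      htf_sym 5 4 (by decide)] at h1
    linear_combination h1 - (e5 : (5 : F) = 0) * tf (W 4) (W 5)
  -- `(W 5)^# = 0`
  have hsh5 : sh (W 5) = 0 := by
    obtain ⟨α, β, h⟩ := hA5 (sh (W 5)) (by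
      intro g hg
      rw [← hsh, hW, hg])
    have h1 := Jord.tr1_sh (W 5)
    rw [htf5, htrW, h, tr_add, tr_smul, tr_smul, htrW, hu1] at h1
    have hα : α = 0 := by
      have h2 : α * (2 * 3) = 0 := by linear_combination h1
      exact (mul_eq_zero.1 h2).resolve_right (mul_ne_zero n2 n3)
    rw [hα, zero_smul, zero_add] at h
    have h2 := Jord.tf_sh_self (W 5)
    rw [h, Jord.tf_smul_left, htf5, mul_zero] at h2
    have hN : cubicT (W 5) = 0 := (mul_eq_zero.1 h2.symm).resolve_left n3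
    have h3 := Jord.sh_sh (W 5)
    rw [hN, zero_smul, h, Jord.sh_smul, h, smul_smul] at h3
    have h4 : β ^ 2 * β = 0 := (smul_eq_zero.1 h3).resolve_right (hne 5)
    have hβ : β = 0 := by
      have : β ^ 3 = 0 := by linear_combination h4
      exact pow_eq_zero_iff (by norm_num) |>.1 this
    rw [h, hβ, zero_smul]
  have hsh4 : sh (W 4) = 0 := by
    obtain ⟨g, -, hg2⟩ := exists_perm' 4 5 5 4 (by decide) (by decide)
    rw [← hg2, ← hW, hsh, hsh5, map_zero]
  -- `W 4 × W 5`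
  obtain ⟨α, β, γ, hq⟩ := hA4 (cr (W 4) (W 5)) (by rw [← hcr, hW, hW]; rfl) (by rw [← hcr, hW, hW]; rfl)
    (by rw [← hcr, hW, hW]; rfl)
  have hβγ : β = γ := by
    obtain ⟨g, hg1, hg2⟩ := exists_perm' 4 5 5 4 (by decide) (by decide)
    have h1 : ρ g (cr (W 4) (W 5)) = cr (W 4) (W 5) := by
      rw [← hcr, hW, hW, hg1, hg2, Jord.cr_comm]
    rw [hq, map_add, map_add, map_smul, map_smul, map_smul, hu, hW, hW, hg1, hg2] at h1
    have h2 : (β - γ) • (W 5 - W 4) = 0 := by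
      have h3 : α • u0 F + β • W 5 + γ • W 4 - (α • u0 F + β • W 4 + γ • W 5) = 0 := sub_eq_zero.2 h1
      rw [← h3]; module
    exact sub_eq_zero.1 ((smul_eq_zero.1 h2).resolve_right (sub_ne_zero.2 (hdist 5 4 (by decide))))
  have hα : α = 0 := by
    have h1 := Jord.sh_cr (W 4) (W 5)
    have h0 : cr (sh (W 4)) (sh (W 5)) = 0 := by rw [hsh4, cr_zero_left]
    have h0' : tf (sh (W 4)) (W 5) = 0 := by rw [hsh4, tf_zero_left]
    have h0'' : tf (W 4) (sh (W 5)) = 0 := by rw [hsh5, Jord.tf_comm, tf_zero_left]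
    rw [h0, h0', h0'', zero_smul, zero_smul, add_zero, add_zero] at h1
    have e1 : cr (W 4) (W 5) = α • u0 F + β • (W 4 + W 5) := by rw [hq, ← hβγ]; module
    have e2 : sh (cr (W 4) (W 5)) = (α ^ 2 + α * β ^ 2) • u0 F + (β ^ 3 - α * β) • W 4 + (β ^ 3 - α * β) • W 5 := by
      conv_lhs => rw [e1]
      rw [Jord.sh_add, Jord.sh_smul, Jord.sh_smul, Jord.sh_u0, Jord.sh_add, hsh4, hsh5, Jord.cr_smul_left,
        Jord.cr_u0, tr_smul, tr_add, htrW, htrW, e1]
      module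
    rw [h1] at e2
    obtain ⟨h2, h3, -⟩ := hind _ _ _ e2.symm
    by_contra hα0
    have h4 : α + β ^ 2 = 0 := by
      have : α * (α + β ^ 2) = 0 := by linear_combination h2
      exact (mul_eq_zero.1 this).resolve_left hα0
    have h5 : β ^ 3 = 0 := by
      have : 2 * β ^ 3 = 0 := by linear_combination h3 + β * h4
      exact (mul_eq_zero.1 this).resolve_left n2
    have h6 : β = 0 := pow_eq_zero_iff (by norm_num) |>.1 h5
    apply hα0
    rw [h6] at h4
    linear_combination h4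
  have htf45 : tf (W 4) (W 5) = 0 := by
    have h1 := Jord.tr1_cr (W 4) (W 5)
    rw [hq, hα, tr_add, tr_add, tr_smul, tr_smul, tr_smul, htrW, htrW] at h1
    linear_combination h1
  -- averaging
  apply hne 5
  apply Jord.tf_nondeg
  intro y
  obtain ⟨y1, hy1⟩ : ∃ y1, y1 = y + ρ et y + ρ et (ρ et y) := ⟨_, rfl⟩
  obtain ⟨y2, hy2⟩ : ∃ y2, y2 = y1 + ρ eb y1 := ⟨_, rfl⟩
  obtain ⟨y3, hy3⟩ : ∃ y3, y3 = y2 + ρ ea y2 := ⟨_, rfl⟩
  have tf_add_right : ∀ x y y' : I27 → F, tf x (y + y') = tf x y + tf x y' := by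
    intro x y y'
    rw [Jord.tf_comm, Jord.tf_add_left, Jord.tf_comm y, Jord.tf_comm y']
  have hinv : ∀ (g : A6) (x : I27 → F), (g : Perm (Fin 6)) 5 = 5 → tf (W 5) (ρ g x) = tf (W 5) x := by
    intro g x hg
    calc tf (W 5) (ρ g x) = tf (ρ g (W 5)) (ρ g x) := by rw [hW, hg]
      _ = tf (W 5) x := htf _ _ _
  have t1 : tf (W 5) y1 = 3 * tf (W 5) y := by
    rw [hy1, tf_add_right, tf_add_right, hinv et _ (by decide), hinv et _ (by decide), hinv et _ (by decide)]; ring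
  have t2 : tf (W 5) y2 = 2 * tf (W 5) y1 := by
    rw [hy2, tf_add_right, hinv eb _ (by decide)]; ring
  have t3 : tf (W 5) y3 = 2 * tf (W 5) y2 := by
    rw [hy3, tf_add_right, hinv ea _ (by decide)]; ring
  have f1 : ρ et y1 = y1 := by
    have : ρ et (ρ et (ρ et y)) = y := by
      rw [← rep_mul, ← rep_mul, show et * et * et = 1 from (pow_three' et).symm.trans et_cube, map_one, Module.End.one_apply]
    rw [hy1, map_add, map_add, this]; abel
  have f2 : ∀ x : I27 → F, ρ eb (ρ eb x) = x := fun x => by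
    rw [← rep_mul, eb_sq, map_one, Module.End.one_apply]
  have f3 : ∀ x : I27 → F, ρ ea (ρ ea x) = x := fun x => by
    rw [← rep_mul, ea_sq, map_one, Module.End.one_apply]
  have f4 : ∀ x : I27 → F, ρ ea (ρ eb x) = ρ eb (ρ ea x) := fun x => by
    rw [← rep_mul, ea_eb, rep_mul]
  have f5 : ∀ x : I27 → F, ρ et (ρ ea x) = ρ eb (ρ et x) := fun x => by
    rw [← rep_mul, ← rep_mul, ← et_ea, inv_mul_cancel_right]
  have f6 : ∀ x : I27 → F, ρ et (ρ eb x) = ρ ea (ρ eb (ρ et x)) := fun x => by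
    rw [← rep_mul, ← rep_mul, ← rep_mul, ← et_eb, inv_mul_cancel_right]
  obtain ⟨a, b, c, h⟩ := hA4 y3 (by rw [hy3, map_add, f3]; abel)
    (by rw [hy3, map_add, ← f4, hy2, map_add, f2]; simp only [map_add]; abel)
    (by
      rw [hy3, hy2]
      simp only [map_add, f5, f6, f1, f2, f4]
      abel)
  have h7 : tf (W 5) y3 = 0 := by
    rw [h, tf_add_right, tf_add_right, Jord.tf_comm, Jord.tf_smul_left, Jord.tf_u0, htrW, Jord.tf_comm,
      Jord.tf_smul_left, htf45, Jord.tf_comm, Jord.tf_smul_left, htf5]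
    ring
  rw [t3, t2, t1] at h7
  have h8 : (2 * 2 * 3) * tf (W 5) y = 0 := by linear_combination h7
  exact (mul_eq_zero.1 h8).resolve_left (mul_ne_zero (mul_ne_zero n2 n2) n3)

end Core

/-! ### Dimensions of fixed spaces -/

theorem ct_ea : (ea : Perm (Fin 6)).cycleType = {2, 2} := by
  have h : Perm.Disjoint (swap (0 : Fin 6) 1) (swap 2 3) := by
    rw [Perm.disjoint_iff_disjoint_support]; decide
  change (swap (0 : Fin 6) 1 * swap 2 3).cycleType = _
  rw [h.cycleType_mul, (Perm.swap_isSwap_iff.2 (by decide) : (swap (0 : Fin 6) 1).IsSwap).isCycle.cycleType,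
    (Perm.swap_isSwap_iff.2 (by decide) : (swap (2 : Fin 6) 3).IsSwap).isCycle.cycleType]
  decide

theorem ct_three {a b c : Fin 6} (hab : a ≠ b) (hac : a ≠ c) (hbc : b ≠ c) :
    (swap a b * swap b c).cycleType = {3} := by
  have h : (swap b a * swap b c).IsThreeCycle := Perm.isThreeCycle_swap_mul_swap_same hab.symm hbc hac
  rw [swap_comm b a] at h
  exact h

theorem ct_et : (et : Perm (Fin 6)).cycleType = {3} := ct_three (by decide) (by decide) (by decide)

theorem ct_et' : (et' : Perm (Fin 6)).cycleType = {3, 3} := by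
  have h : Perm.Disjoint (swap (0 : Fin 6) 4 * swap 4 2) (swap 1 5 * swap 5 3) := by
    rw [Perm.disjoint_iff_disjoint_support]; decide
  change (swap (0 : Fin 6) 4 * swap 4 2 * (swap 1 5 * swap 5 3)).cycleType = _
  rw [h.cycleType_mul, ct_three (by decide) (by decide) (by decide), ct_three (by decide) (by decide) (by decide)]
  rfl

theorem conj_two (g : A6) (h : (g : Perm (Fin 6)).cycleType = {2, 2}) : ∃ k, k * ea * k⁻¹ = g :=
  conj_of ea g (swap 4 5) (by decide) (by decide) (by rw [h, ct_ea])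

theorem conj_three (g : A6) (h : (g : Perm (Fin 6)).cycleType = {3}) : ∃ k, k * et * k⁻¹ = g :=
  conj_of et g (swap 4 5) (by decide) (by decide) (by rw [h, ct_et])

theorem conj_three' (g : A6) (h : (g : Perm (Fin 6)).cycleType = {3, 3}) : ∃ k, k * et' * k⁻¹ = g :=
  conj_of et' g (swap 0 1 * (swap 4 5 * swap 2 3)) (by decide) (by decide) (by rw [h, ct_et'])

def k1 : A6 := ⟨swap 2 3 * swap 3 4, by rw [Equiv.Perm.mem_alternatingGroup]; decide⟩
def k2 : A6 := ⟨swap 0 3 * swap 3 2 * swap 2 5 * swap 5 1, by rw [Equiv.Perm.mem_alternatingGroup]; decide⟩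
def k3 : A6 := ⟨swap 1 3 * swap 3 4, by rw [Equiv.Perm.mem_alternatingGroup]; decide⟩

theorem k1_ea : k1 * ea * k1⁻¹ = eS := by apply Subtype.ext; decide
theorem k2_et' : k2 * et' * k2⁻¹ = ez * ew := by apply Subtype.ext; decide
theorem k3_et' : k3 * et' * k3⁻¹ = ez * ew⁻¹ := by apply Subtype.ext; decide

theorem ne_one_of {g : A6} {i : Fin 6} (h : (g : Perm (Fin 6)) i ≠ i) : g ≠ 1 := by
  rintro rfl
  exact h rfl

section Dim

variable {K V : Type*} [Field K] [AddCommGroup V] [Module K V] [FiniteDimensional K V]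

/-- Involutions have fixed spaces of dimension 15. -/
theorem two_ne_eleven [IsAlgClosed K] (h2 : (2 : K) ≠ 0) (h3 : (3 : K) ≠ 0) (ρ : Representation K A6 V)
    (hd : finrank K V = 27) (ht : ∀ g : A6, g ≠ 1 → g ^ 3 = 1 → ev (ρ g) 1 = 15 ∨ ev (ρ g) 1 = 9) :
    ev (ρ ea) 1 ≠ 11 := by
  intro h
  have e2 : ev (ρ eb) 1 = 11 := by rw [← et_ea, ev_conj, h]
  have e3 : ev (ρ (ea * eb)) 1 = 11 := by rw [← et_eb, ev_conj, e2]
  have e2' : ev (ρ eb') 1 = 11 := by rw [← et'_ea, ev_conj, h]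
  have e3' : ev (ρ (ea * eb')) 1 = 11 := by rw [← et'_eb, ev_conj, e2']
  have f1 := Eig.four h2 ρ ea_sq eb_sq ea_eb
  have f1' := Eig.four h2 ρ ea_sq eb'_sq ea_eb'
  have f2 := Eig.a4 h2 ρ ea_sq eb_sq ea_eb et_cube et_ea et_eb
  have f2' := Eig.a4 h2 ρ ea_sq eb'_sq ea_eb' et'_cube et'_ea et'_eb
  have g1 : finrank K ↥(es (ρ ea) 1 ⊓ es (ρ eb) 1 ⊓ es (ρ et) 1) ≤ finrank K ↥(es (ρ ea) 1 ⊓ es (ρ eb) 1) :=
    Submodule.finrank_mono inf_le_left
  have g1' : finrank K ↥(es (ρ ea) 1 ⊓ es (ρ eb') 1 ⊓ es (ρ et') 1) ≤ finrank K ↥(es (ρ ea) 1 ⊓ es (ρ eb') 1) :=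
    Submodule.finrank_mono inf_le_left
  rw [hd, h, e2, e3] at f1
  rw [hd, h, e2', e3'] at f1'
  rw [hd] at f2 f2'
  have t1 : ev (ρ et) 1 = 9 := by
    rcases ht et (ne_one_of (i := 1) (by decide)) et_cube with h1 | h1
    · omega
    · exact h1
  have t1' : ev (ρ et') 1 = 9 := by
    rcases ht et' (ne_one_of (i := 1) (by decide)) et'_cube with h1 | h1
    · omega
    · exact h1
  obtain ⟨k, hk⟩ := conj_three ez (ct_three (by decide) (by decide) (by decide))
  obtain ⟨k', hk'⟩ := conj_three ew (ct_three (by decide) (by decide) (by decide))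
  have n1 := Eig.nine h3 ρ ez_cube ew_cube ez_ew eS_sq eS_ez eS_ew
  have s1 : ev (ρ ez) 1 = 9 := by rw [← hk, ev_conj, t1]
  have s2 : ev (ρ ew) 1 = 9 := by rw [← hk', ev_conj, t1]
  have s3 : ev (ρ (ez * ew)) 1 = 9 := by rw [← k2_et', ev_conj, t1']
  have s4 : ev (ρ (ez * ew⁻¹)) 1 = 9 := by rw [← k3_et', ev_conj, t1']
  have s5 : ev (ρ eS) 1 = 11 := by rw [← k1_ea, ev_conj, h]
  rw [hd, s1, s2, s3, s4, s5] at n1
  omega

/-- The fixed space of `A₄`. -/
theorem dim_a4 (h2 : (2 : K) ≠ 0) (ρ : Representation K A6 V) (hd : finrank K V = 27) (h : ev (ρ ea) 1 = 15)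
    (ht : ev (ρ et) 1 = 9) : finrank K ↥(es (ρ ea) 1 ⊓ es (ρ eb) 1 ⊓ es (ρ et) 1) = 3 := by
  have e2 : ev (ρ eb) 1 = 15 := by rw [← et_ea, ev_conj, h]
  have e3 : ev (ρ (ea * eb)) 1 = 15 := by rw [← et_eb, ev_conj, e2]
  have f1 := Eig.four h2 ρ ea_sq eb_sq ea_eb
  have f2 := Eig.a4 h2 ρ ea_sq eb_sq ea_eb et_cube et_ea et_eb
  rw [hd, h, e2, e3] at f1
  rw [hd, ht] at f2
  omega

end Dim

/-! ### The natural `A₅` -/

/-- The embedding `A₅ → A₆`. -/
noncomputable def io : ↥(alternatingGroup (Fin 5)) →* A6 :=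
  ((Perm.extendDomainHom (finSuccAboveEquiv (5 : Fin 6))).comp (alternatingGroup (Fin 5)).subtype).codRestrict
    (alternatingGroup (Fin 6)) fun g => by
      rw [Perm.mem_alternatingGroup]
      exact (Perm.sign_extendDomain _ _).trans (Perm.mem_alternatingGroup.1 g.2)

theorem ct_io (g : ↥(alternatingGroup (Fin 5))) :
    ((io g : A6) : Perm (Fin 6)).cycleType = (g : Perm (Fin 5)).cycleType := Perm.cycleType_extendDomain _

theorem exists_io (g : A6) (hg : (g : Perm (Fin 6)) 5 = 5) : ∃ g', io g' = g := by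
  have hp : ∀ x : Fin 6, (g : Perm (Fin 6)) x ≠ 5 ↔ x ≠ 5 := by
    intro x
    rw [not_iff_not]
    constructor
    · intro h
      exact (g : Perm (Fin 6)).injective (h.trans hg.symm)
    · rintro rfl
      exact hg
  set f : Fin 5 ≃ {x : Fin 6 // x ≠ 5} := (finSuccAboveEquiv (5 : Fin 6)) with hf
  set e : Perm (Fin 5) := (f.trans ((g : Perm (Fin 6)).subtypePerm hp)).trans f.symm with he
  have h1 : e.extendDomain f = g := by
    ext x
    by_cases hx : x ≠ 5
    · rw [Perm.extendDomain_apply_subtype e f hx, he]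
      simp
    · push Not at hx
      subst hx
      rw [Perm.extendDomain_apply_not_subtype e f (by simp), hg]
  refine ⟨⟨e, ?_⟩, Subtype.ext h1⟩
  rw [Perm.mem_alternatingGroup, ← Perm.sign_extendDomain e f, h1]
  exact Perm.mem_alternatingGroup.1 g.2

theorem pow_of_ct {n : ℕ} {k : ℕ} (g : ↥(alternatingGroup (Fin n))) (h : (g : Perm (Fin n)).cycleType = {k}) :
    g ^ k = 1 := by
  apply Subtype.ext
  have h1 := Perm.lcm_cycleType (g : Perm (Fin n))
  rw [h] at h1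
  have h2 : k = orderOf (g : Perm (Fin n)) := by rw [← h1]; simp
  change (g : Perm (Fin n)) ^ k = 1
  rw [h2]
  exact pow_orderOf_eq_one _

/-! ### Assembly -/

section Final

variable {F : Type u} [Field F] [CharP F 5]

theorem finrank_J : finrank F (I27 → F) = 27 := by
  rw [Module.finrank_fintype_fun_eq_card]; rfl

/-- The trace form as a bilinear map. -/
noncomputable def tfB (F : Type u) [Field F] : (I27 → F) →ₗ[F] (I27 → F) →ₗ[F] F :=
  LinearMap.mk₂ F tf (fun x x' y => Jord.tf_add_left x x' y) (fun c x y => Jord.tf_smul_left c x y)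
    (fun x y y' => by rw [Jord.tf_comm, Jord.tf_add_left, Jord.tf_comm y, Jord.tf_comm y'])
    (fun c x y => by rw [Jord.tf_comm, Jord.tf_smul_left, Jord.tf_comm y, smul_eq_mul])

theorem tfB_apply (x y : I27 → F) : tfB F x y = tf x y := rfl

/-- Scott's lemma for the 27-dimensional module and an element of order 5. -/
theorem scott5 {G : Type*} [Group G] (ρ : Representation F G (I27 → F))
    (htf : ∀ g x y, tf (ρ g x) (ρ g y) = tf x y) {x y : G} (hgen : Subgroup.closure {x, y} = ⊤)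
    (h5 : (x * y) ^ 5 = 1) : ev (ρ x) 1 + ev (ρ y) 1 + 6 ≤ 27 + 2 * finrank F ρ.invariants := by
  have : Fact (Nat.Prime 5) := ⟨by norm_num⟩
  have h1 := Scott.scott_form ρ hgen (tfB F) (fun v hv => Jord.tf_nondeg fun y => hv y) htf
  have h2 : (ρ (x * y)) ^ 5 = 1 := by rw [← map_pow, h5, map_one]
  have h3 := Eig.le_mul_ev 5 h2
  rw [finrank_J] at h1 h3
  omega

/-- **The case** of a homomorphism with few fixed vectors. -/
theorem final (ρ : Representation F A6 (I27 → F))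
    (hu : ∀ g, ρ g (u0 F) = u0 F) (htf : ∀ g x y, tf (ρ g x) (ρ g y) = tf x y)
    (htr : ∀ g x, tr1 (ρ g x) = tr1 x)
    (hsh : ∀ g x, sh (ρ g x) = ρ g (sh x)) (hcr : ∀ g x y, cr (ρ g x) (ρ g y) = ρ g (cr x y))
    (hfix : ∀ x, (∀ g, ρ g x = x) → ∃ c : F, x = c • u0 F)
    (ht : ∀ g : A6, g ≠ 1 → g ^ 3 = 1 → ev (ρ g) 1 = 15 ∨ ev (ρ g) 1 = 9) (h15 : ev (ρ ea) 1 = 15) : False := by
  -- 3-elements
  have hinv : finrank F ρ.invariants ≤ 1 := by
    have h1 : ρ.invariants ≤ Submodule.span F {u0 F} := by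
      intro x hx
      obtain ⟨c, hc⟩ := hfix x ((Representation.mem_invariants ρ x).1 hx)
      exact Submodule.mem_span_singleton.2 ⟨c, hc.symm⟩
    refine (Submodule.finrank_mono h1).trans ?_
    refine (finrank_span_le_card _).trans ?_
    simp
  obtain ⟨x, y, hxy, cx, cy, cxy⟩ := Gen.gen6b
  have hs := scott5 ρ htf hxy (pow_of_ct _ cxy)
  obtain ⟨k, hk⟩ := conj_three x cx
  obtain ⟨k', hk'⟩ := conj_three' y cy
  rw [← hk, ← hk', ev_conj, ev_conj] at hs
  have t1 : ev (ρ et) 1 = 9 := by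
    rcases ht et (ne_one_of (i := 1) (by decide)) et_cube with h1 | h1
    · rcases ht et' (ne_one_of (i := 1) (by decide)) et'_cube with h2 | h2 <;> omega
    · exact h1
  -- the natural `A₅`
  obtain ⟨a, b, hab, ca, cb, cab⟩ := Gen.gen5
  let ρ5 : Representation F ↥(alternatingGroup (Fin 5)) (I27 → F) := MonoidHom.comp ρ io
  have hs5 := scott5 ρ5 (fun g x y => htf (io g) x y) hab (pow_of_ct _ cab)
  obtain ⟨l, hl⟩ := conj_two (io a) (by rw [ct_io, ca])
  obtain ⟨l', hl'⟩ := conj_three (io b) (by rw [ct_io, cb])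
  have e1 : ev (ρ5 a) 1 = 15 := by
    change ev (ρ (io a)) 1 = 15
    rw [← hl, ev_conj, h15]
  have e2 : ev (ρ5 b) 1 = 9 := by
    change ev (ρ (io b)) 1 = 9
    rw [← hl', ev_conj, t1]
  rw [e1, e2] at hs5
  -- a fixed vector of trace zero
  obtain ⟨w, hw, hw1, hw0⟩ : ∃ w ∈ ρ5.invariants, tr1 w = 0 ∧ w ≠ 0 := by
    by_contra hcon
    push Not at hcon
    have h1 : Function.Injective ((tfB F (u0 F)).comp ρ5.invariants.subtype) := by
      rw [← LinearMap.ker_eq_bot, LinearMap.ker_eq_bot']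
      rintro ⟨v, hv⟩ h
      have h2 : tf (u0 F) v = 0 := h
      rw [Jord.tf_u0] at h2
      exact Subtype.ext (hcon v hv h2)
    have h2 := LinearMap.finrank_le_finrank_of_injective h1
    rw [Module.finrank_self] at h2
    omega
  refine core ρ hu htf htr hsh hcr hfix (dim_a4 n2 ρ finrank_J h15 t1) w ?_ hw1 hw0
  intro g hg
  obtain ⟨g', rfl⟩ := exists_io g hg
  exact (Representation.mem_invariants ρ5 w).1 hw g'

end Final

end Cfsg.Agent.H952.F4.SixFive

namespace Cfsg.Agent.H952.F4.Cases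

open Cfsg Cfsg.Lie Module
open Cfsg.Agent.ChevalleyStructure Cfsg.Agent.ChevalleyStructure.Elts
open Cfsg.Agent.ChevalleyStructure.E6Min.Tables Cfsg.Agent.ChevalleyStructure.E6Min.Basic
open Cfsg.Agent.GpExc.Field (emb)
open MaxA SixFive

universe u

variable {F : Type u} [Field F] [Finite F] {H : Subgroup ↥(chevF4.group F)}

/-- The order of `F₄(q)` is large. -/
theorem card_bound_six {q m : ℕ} (hq : 5 ≤ q) (hm : m ≤ 1440) :
    m * q ^ 26 < q ^ 24 * (q ^ 2 - 1) * (q ^ 6 - 1) * (q ^ 8 - 1) * (q ^ 12 - 1) * (q - 1) := by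
  have h0 : 1 ≤ q := by omega
  have hp : ∀ k, q ^ k ≤ q ^ (k + 1) - 1 := by
    intro k
    have h1 : 1 ≤ q ^ k := Nat.one_le_pow _ _ h0
    have h2 : q ^ (k + 1) = q ^ k * q := pow_succ q k
    have h3 : q ^ k * 5 ≤ q ^ k * q := Nat.mul_le_mul_left _ hq
    omega
  have h1 : q ^ 24 * q ^ 1 * q ^ 5 * q ^ 7 * q ^ 11 * 1 ≤
      q ^ 24 * (q ^ 2 - 1) * (q ^ 6 - 1) * (q ^ 8 - 1) * (q ^ 12 - 1) * (q - 1) := by
    have := hp 1
    have := hp 5
    have := hp 7
    have := hp 11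
    gcongr
    omega
  have h2 : m * q ^ 26 < q ^ 24 * q ^ 1 * q ^ 5 * q ^ 7 * q ^ 11 * 1 := by
    have h3 : q ^ 24 * q ^ 1 * q ^ 5 * q ^ 7 * q ^ 11 * 1 = q ^ 22 * q ^ 26 := by ring
    rw [h3]
    have h4 : 5 ^ 22 ≤ q ^ 22 := Nat.pow_le_pow_left hq 22
    have h5 : 0 < q ^ 26 := Nat.pow_pos (by omega)
    refine Nat.mul_lt_mul_of_pos_right ?_ h5
    refine lt_of_lt_of_le ?_ h4
    refine lt_of_le_of_lt hm ?_
    norm_num
  exact lt_of_lt_of_le h2 h1

/-- **`A₆` in characteristic 5.** -/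
theorem six_five [CharP F 5] {φ : ↥(alternatingGroup (Fin 6)) →* ↥(chevF4.group F)} (hM : MaxAlt H 6 φ) : False := by
  have : Fact (Nat.Prime 5) := ⟨by norm_num⟩
  have := Fintype.ofFinite F
  have hs : IsSimpleGroup ↥(chevF4.group F) := (Cfsg.Agent.S1054.result chevF4 (by simp)).1
  obtain ⟨ρ, hρ⟩ := JMod.exists_isJ F
  obtain ⟨V, iV, mV, σ, hV, hX⟩ := Fix.exists_V26 5 (by decide) (by decide) hρ
  have := hV.fin
  have hq : 5 ≤ Nat.card F := by
    rw [Nat.card_eq_fintype_card]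
    obtain ⟨n, hn1, hn2⟩ := FiniteField.card F 5
    rw [hn2]
    exact Nat.le_self_pow (PNat.ne_zero n) 5
  have hA : Representation.invariants (MonoidHom.comp σ φ) = ⊥ := by
    refine MaxA.no_fixed σ hV.inv hM (by decide) ?_
    rw [hV.dim, Cfsg.Agent.S1062.result (F := F) rfl, ← Nat.card_eq_fintype_card]
    exact card_bound_six hq hM.card
  have tab := Tor.tab_finite 5 hρ
  have h2 := n2 (F := F)
  let ρ6 : Representation F A6 (I27 → F) := MonoidHom.comp (JK ρ) φ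
  have hfix : ∀ x, (∀ g, ρ6 g x = x) → ∃ c : F, x = c • u0 F := by
    intro x hx
    refine hX (Set.range φ) ?_ x ?_
    · intro v hv
      have h3 : v ∈ Representation.invariants (MonoidHom.comp σ φ) := fun g => hv (φ g) ⟨g, rfl⟩
      rw [hA] at h3
      exact h3
    · rintro _ ⟨g, rfl⟩
      exact hx g
  have ht : ∀ g : A6, g ≠ 1 → g ^ 3 = 1 → ev (ρ6 g) 1 = 15 ∨ ev (ρ6 g) 1 = 9 := by
    intro g hg hg3
    rcases tab.three (by decide) (φ g) (fun h => hg (hM.inj (by rw [h, map_one]))) (by rw [← map_pow, hg3, map_one])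
      with h | h | h
    · exact Or.inl h.1
    · exact Or.inr h.1
    · exact Or.inr h.1
  refine final ρ6 (fun g => Inv.u0_inv hρ _) (fun g => Inv.tf_inv hρ h2 _) (fun g => Inv.tr1_inv hρ h2 _)
    (fun g => Inv.sh_inv hρ h2 _) (fun g => Inv.cr_inv hρ h2 _) hfix ht ?_
  rcases tab.two (by decide) (φ ea) (fun h => ne_one_of (g := ea) (i := 0) (by decide) (hM.inj (by rw [h, map_one])))
    (by rw [← map_mul, ea_sq, map_one]) with h | h
  · exact h.1
  exfalso
  -- over the algebraic closure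
  obtain ⟨ρ', hρ'⟩ := JMod.exists_isJ (AlgebraicClosure F)
  let f := algebraMap F (AlgebraicClosure F)
  let ρ6' : Representation (AlgebraicClosure F) A6 (I27 → AlgebraicClosure F) :=
    MonoidHom.comp (JK ρ') ((emb hF4 f).comp φ)
  have key : ∀ g : A6, ev (ρ6' g) 1 = ev (ρ6 g) 1 := by
    intro g
    have h3 := Chg.ev_J f hρ hρ' (φ g) 1
    rw [map_one] at h3
    exact h3
  have c5 : CharP (AlgebraicClosure F) 5 := charP_of_injective_algebraMap f.injective 5
  refine two_ne_eleven n2 n3 ρ6' finrank_J (fun g hg hg3 => ?_) ?_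
  · rw [key]
    exact ht g hg hg3
  · rw [key]
    exact h.1

end Cfsg.Agent.H952.F4.Cases
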