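import Cfsg.Agent.H450.F4.CoreB
import Cfsg.Agent.H952.F4.NoSevenFive

/-!
# S5926, task F-K1: no `A₇` in `F₄`, characteristic not 2, 5
-/

set_option autoImplicit false

namespace Cfsg.Agent.H952.F4.NoSeven

open Cfsg Cfsg.Lie Module
open Cfsg.Agent.H450.F4
open Cfsg.Agent.ChevalleyStructure.E6Min.Tables Cfsg.Agent.ChevalleyStructure.E6Min.Basic
open Cfsg.Agent.GpExc.Field (emb emb_injective)
open Cfsg.Agent.BpExc.TorAll Cfsg.Agent.BpExc.TorChev

universe u

/-- K1 -/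
theorem no_seven (p : ℕ) [Fact p.Prime] (hp2 : p ≠ 2) (hp5 : p ≠ 5) {K : Type u} [Field K] [IsAlgClosed K]
    [CharP K p] (hK : HAlg p K) (φ : ↥(alternatingGroup (Fin 7)) →* ↥(chevF4.group K))
    (hφ : Function.Injective φ) : False := by
  obtain ⟨ρ, hρ⟩ := JMod.exists_isJ K
  have T := tab_comp (Tor.tab_closed p hK hρ) φ hφ
  exact core_seven hp2 hp5 T (finrank_L K) (finrank_J K) (u0_ne K) fun g => Inv.u0_inv hρ (φ g)

end Cfsg.Agent.H952.F4.NoSeven
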