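import Cfsg.Agent.H952.F4.MaxA
import Cfsg.Agent.H952.F4.NoSeven
import Cfsg.Agent.H952.F4.CasesFive
import Cfsg.Agent.H541.F4CasesSixTwo
import Cfsg.Agent.H952.F4.CasesSixFive
import Cfsg.Agent.H952.F4.BigTwo
import Cfsg.Agent.H952.F4.BigFive
import Cfsg.Agent.GpExc.Field
import Cfsg.Agent.H944.RootVals
import Cfsg.Agent.S1054
import Cfsg.Agent.S2657

/-!
# S5926: the final assembly (helper952)
-/

set_option autoImplicit false

namespace Cfsg.Agent.H952.F4.Final
open Cfsg Cfsg.Lie
open Cfsg.Agent.GpExc.Field (emb emb_injective)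
universe u

/-- `A_m` in `A_n`, `m ≤ n` -/
theorem exists_alt {m n : ℕ} (hn : m ≤ n) : ∃ i : ↥(alternatingGroup (Fin m)) →* ↥(alternatingGroup (Fin n)),
    Function.Injective i := by
  classical
  let e : Fin m ≃ {x : Fin n // x ∈ Set.range (Fin.castLE hn)} := Equiv.ofInjective _ (Fin.castLE_injective hn)
  let f : Equiv.Perm (Fin m) →* Equiv.Perm (Fin n) := Equiv.Perm.extendDomainHom e
  have hf : Function.Injective f := Equiv.Perm.extendDomainHom_injective e
  have hmem : ∀ x : ↥(alternatingGroup (Fin m)), f (x : Equiv.Perm (Fin m)) ∈ alternatingGroup (Fin n) := by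
    intro x
    rw [Equiv.Perm.mem_alternatingGroup]
    show Equiv.Perm.sign (Equiv.Perm.extendDomain (x : Equiv.Perm (Fin m)) e) = 1
    rw [Equiv.Perm.sign_extendDomain]
    exact Equiv.Perm.mem_alternatingGroup.1 x.2
  refine ⟨(f.comp (alternatingGroup (Fin m)).subtype).codRestrict _ hmem, ?_⟩
  intro a b hab
  have h := congrArg Subtype.val hab
  exact Subtype.ext (hf h)

theorem final {F : Type u} [Field F] [Fintype F] (p : ℕ) [Fact p.Prime] [CharP F p]
    (H : Subgroup ↥(chevF4.group F)) (hH : IsCoatom H) (n : ℕ) (hn : 5 ≤ n)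
    (hA : Nonempty (↥(generalizedFittingSubgroup ↥H) ≃* ↥(alternatingGroup (Fin n)))) :
    n = 6 ∧ p ≠ 2 ∧ p ≠ 5 := by
  have hsimple : IsSimpleGroup ↥(chevF4.group F) := (S1054.result chevF4 (by simp)).1
  have : Finite ↥(chevF4.group F) := inferInstance
  obtain ⟨φ, hM⟩ := MaxA.exists_maxAlt hH hn hA
  have hp2 : 2 ≤ p := (Fact.out : p.Prime).two_le
  -- `n ≤ 10` for `p ≠ 11`
  have hb : p ≠ 11 → n ≤ 10 := by
    intro hp
    have h := S2657.result (F := F) p n φ.range ⊥ ⟨(QuotientGroup.quotientBot).trans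
      (MonoidHom.ofInjective hM.inj).symm⟩
    simpa [hp] using h
  have h7 : n < 7 := by
    by_contra h7
    push Not at h7
    by_cases h2 : p = 2
    · subst h2
      exact BigB.big_two h7 (hb (by norm_num)) hM
    by_cases h5 : p = 5
    · subst h5
      exact BigB.big_five h7 (hb (by norm_num)) hM
    obtain ⟨i, hi⟩ := exists_alt h7
    have : CharP (AlgebraicClosure F) p := charP_of_injective_algebraMap (algebraMap F (AlgebraicClosure F)).injective p
    exact NoSeven.no_seven p h2 h5 (H944.RootVals.hAlg_closure p F)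
      ((emb hF4 (algebraMap F (AlgebraicClosure F))).comp (φ.comp i))
      ((emb_injective hF4 _).comp (hM.inj.comp hi))
  have h5 : n ≠ 5 := by
    rintro rfl
    rcases (show p = 2 ∨ p = 3 ∨ 5 ≤ p by
      rcases Nat.lt_or_ge p 5 with h | h
      · interval_cases p
        · exact Or.inl rfl
        · exact Or.inr (Or.inl rfl)
        · exact absurd (Fact.out : Nat.Prime 4) (by norm_num)
      · exact Or.inr (Or.inr h)) with h | h | h
    · subst h
      exact Cases.five_two hM
    · subst h
      exact Cases.five_three hM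
    · exact Cases.five_big p h hM
  obtain rfl : n = 6 := by omega
  refine ⟨rfl, ?_, ?_⟩
  · rintro rfl
    exact Cases.six_two hM
  · rintro rfl
    exact Cases.six_five hM

end Cfsg.Agent.H952.F4.Final
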